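import Groth.Agent.GrpSchLib.FieldSmooth
import Groth.Agent.GrpSchLib.Action
import Groth.Agent.GrpSchLib.MonoSubgroup
import Groth.Agent.GrpSchLib.HomFlat
import Groth.Agent.AssLib.FlatField
import Groth.Agent.Triage.SchDense
import Groth.Agent.FDescent.QuasiFlat
import Groth.Agent.SmallFlat.Misc

/-! Quasi-compact homomorphisms of arbitrary group schemes over a field. -/

universe u

open CategoryTheory Limits AlgebraicGeometry MonoidalCategory CartesianMonoidalCategory MonObj GrpObj
open scoped CategoryTheory.Obj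

namespace Groth.Agent.GrpSchLib.DomHom

variable {k : Type u} [Field k] {G H : Over (Spec (CommRingCat.of k))} [GrpObj G] [GrpObj H]

omit [GrpObj G] [GrpObj H] in
/-- Maximal points lie in the image of a quasi-compact dominant morphism. -/
theorem exists_preimage_max {X Y : Scheme.{u}} (f : X ⟶ Y) [QuasiCompact f] (hf : DenseRange f.base)
    {c : Y} (hc : IsMaxPt c) : ∃ x, f x = c := by
  obtain ⟨x, hx⟩ := FDescent.exists_specializes_of_mem_closure_range (f := f) (hf c)
  exact ⟨x, hc _ hx⟩

/-- A point is a product of two maximal points. -/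
theorem exists_max_pair (y : H.left) : ∃ q : (H ⊗ H).left, IsMaxPt ((fst H H).left q) ∧
    IsMaxPt ((snd H H).left q) ∧ μ[H].left q = y := by
  let t : Spec (CommRingCat.of (AlgebraicClosure (H.left.residueField y))) ⟶ H.left :=
    Spec.map (CommRingCat.ofHom (algebraMap (H.left.residueField y) _)) ≫ H.left.fromSpecResidueField y
  let L := AlgebraicClosure (H.left.residueField y)
  obtain ⟨φ, hφ⟩ := Spec.map_surjective (t ≫ H.hom)
  let T : Over (Spec (CommRingCat.of k)) := Over.mk (Spec.map φ)
  let yT : T ⟶ H := Over.homMk t hφ.symm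
  have hy : ∀ w, yT.left w = y := fun w => H.left.fromSpecResidueField_apply y
    (Spec.map (CommRingCat.ofHom (algebraMap (H.left.residueField y) _)) w)
  let e : H ⊗ T ≅ H ⊗ T :=
    { hom := lift ((fst H T)⁻¹ * (snd H T ≫ yT)) (snd H T)
      inv := lift ((snd H T ≫ yT) * (fst H T)⁻¹) (snd H T)
      hom_inv_id := by
        apply CartesianMonoidalCategory.hom_ext
        · simp [MonObj.comp_mul, GrpObj.comp_inv]
        · simp
      inv_hom_id := by
        apply CartesianMonoidalCategory.hom_ext
        · simp [MonObj.comp_mul, GrpObj.comp_inv]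
        · simp }
  haveI : IsIso e.hom.left := ((Over.forget _).mapIso e).isIso_hom
  haveI : Flat (fst H T).left := by
    haveI : Flat T.hom := AssLib.flat_over_field T.hom
    exact inferInstanceAs (Flat (pullback.fst H.hom T.hom))
  obtain ⟨z, hz⟩ : ∃ z, IsMaxPt (X := (H ⊗ T).left) z := by
    obtain ⟨z₀, -, -⟩ := Scheme.Pullback.exists_preimage_pullback (f := H.hom) (g := T.hom)
      ((η[H] : 𝟙_ _ ⟶ H).left (IsLocalRing.closedPoint k)) (IsLocalRing.closedPoint L)
      (@Subsingleton.elim (PrimeSpectrum k) inferInstance _ _)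
    obtain ⟨z, hz, -⟩ := exists_isMaxPt (X := (H ⊗ T).left) z₀
    exact ⟨z, hz⟩
  let ψ : H ⊗ T ⟶ H ⊗ H := lift (fst H T) ((fst H T)⁻¹ * (snd H T ≫ yT))
  refine ⟨ψ.left z, ?_, ?_, ?_⟩
  · rw [← left_comp_apply, lift_fst]
    exact hz.map (Flat.generalizingMap _)
  · rw [← left_comp_apply, lift_snd, show (fst H T)⁻¹ * (snd H T ≫ yT) = e.hom ≫ fst H T by simp [e],
      left_comp_apply]
    exact (hz.map e.hom.left.isOpenEmbedding.generalizingMap).map (Flat.generalizingMap _)
  · rw [← left_comp_apply, ← Hom.mul_def, mul_inv_cancel_left, left_comp_apply]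
    exact hy _

/-- A quasi-compact dominant homomorphism is surjective. -/
theorem surjective (f : G ⟶ H) [IsMonHom f] [QuasiCompact f.left] (hf : DenseRange f.left.base) :
    Surjective f.left := by
  refine ⟨fun y => ?_⟩
  obtain ⟨q, h1, h2, hq⟩ := exists_max_pair y
  obtain ⟨g₁, hg₁⟩ := exists_preimage_max f.left hf h1
  obtain ⟨g₂, hg₂⟩ := exists_preimage_max f.left hf h2
  obtain ⟨p, hp⟩ : q ∈ Set.range (f ⊗ₘ f).left := by
    rw [Over.tensorHom_left, Scheme.Pullback.range_map]
    exact ⟨⟨g₁, hg₁⟩, ⟨g₂, hg₂⟩⟩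
  refine ⟨μ[G].left p, ?_⟩
  rw [← left_comp_apply, IsMonHom.mul_hom f, left_comp_apply, hp, hq]

omit [GrpObj G] [GrpObj H] in
theorem isField_stalk_max {X : Scheme.{u}} [IsReduced X] {x : X} (hx : IsMaxPt x) :
    IsField (X.presheaf.stalk x) := by
  have hsub : Subsingleton (PrimeSpectrum (X.presheaf.stalk x)) := ⟨fun a b => by
    refine (X.fromSpecStalk x).isEmbedding.injective ?_
    have hr : ∀ w, X.fromSpecStalk x w = x := fun w => by
      have : X.fromSpecStalk x w ∈ Set.range (X.fromSpecStalk x) := ⟨w, rfl⟩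
      rw [Scheme.range_fromSpecStalk] at this
      exact hx _ this
    exact (hr a).trans (hr b).symm⟩
  refine IsLocalRing.isField_iff_maximalIdeal_eq.2 ?_
  refine le_bot_iff.1 fun a ha => ?_
  have : a ∈ nilradical (X.presheaf.stalk x) := by
    rw [nilradical_eq_sInf, Submodule.mem_sInf]
    intro P hP
    have h := hsub.elim ⟨P, hP⟩ ⟨IsLocalRing.maximalIdeal _, inferInstance⟩
    exact (congrArg PrimeSpectrum.asIdeal h).ge ha
  rwa [nilradical_eq_zero] at this

/-- A quasi-compact dominant homomorphism onto a reduced group is flat. -/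
theorem flat (f : G ⟶ H) [IsMonHom f] [QuasiCompact f.left] (hf : DenseRange f.left.base)
    [IsReduced H.left] : Flat f.left := by
  obtain ⟨c, hc, -⟩ := exists_isMaxPt ((η[H] : 𝟙_ _ ⟶ H).left (IsLocalRing.closedPoint k))
  obtain ⟨g₀, hg₀⟩ := exists_preimage_max f.left hf hc
  haveI : Flat (H.left.fromSpecStalk c) := GrpSchLib.flat_fromSpecStalk c
  letI := (isField_stalk_max hc).toField
  let S : Over (Spec (CommRingCat.of k)) := Over.mk (H.left.fromSpecStalk c ≫ H.hom)
  let j : S ⟶ H := Over.homMk (H.left.fromSpecStalk c) rfl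
  haveI : Flat j.left := ‹Flat (H.left.fromSpecStalk c)›
  let P : Over (Spec (CommRingCat.of k)) := Over.mk (pullback.fst f.left j.left ≫ G.hom)
  let p : P ⟶ G := Over.homMk (pullback.fst f.left j.left) rfl
  let fc : P ⟶ S := Over.homMk (pullback.snd f.left j.left) (by
    show pullback.snd f.left j.left ≫ j.left ≫ H.hom = pullback.fst f.left j.left ≫ G.hom
    rw [← pullback.condition_assoc, Over.w f])
  have hsq : p ≫ f = fc ≫ j := Over.OverMorphism.ext pullback.condition
  haveI : Flat fc.left := AssLib.flat_over_field (k := H.left.presheaf.stalk c) (pullback.snd f.left j.left)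
  haveI : Flat p.left := MorphismProperty.of_isPullback (P := @Flat) (IsPullback.of_hasPullback f.left j.left).flip ‹Flat j.left›
  have hflat : ∀ {A B : Over (Spec (CommRingCat.of k))} (g : A ⟶ B), Flat g.left → ∀ C, Flat (g ▷ C).left :=
    fun g hg C => GrpSchLib.property_whiskerRight g C @Flat hg
  haveI := hflat fc inferInstance G
  haveI := hflat j inferInstance G
  haveI := hflat p inferInstance G
  let Φ : H ⊗ G ⟶ H := fst H G * (snd H G ≫ f)
  haveI : Flat Φ.left := by
    let e : H ⊗ G ≅ H ⊗ G :=
      { hom := lift Φ (snd H G)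
        inv := lift (fst H G * (snd H G ≫ f)⁻¹) (snd H G)
        hom_inv_id := by
          apply CartesianMonoidalCategory.hom_ext
          · simp [Φ, MonObj.comp_mul, GrpObj.comp_inv]
          · simp
        inv_hom_id := by
          apply CartesianMonoidalCategory.hom_ext
          · simp [Φ, MonObj.comp_mul, GrpObj.comp_inv]
          · simp }
    haveI : IsIso e.hom.left := ((Over.forget _).mapIso e).isIso_hom
    haveI : Flat G.hom := AssLib.flat_over_field G.hom
    haveI : Flat (fst H G).left := inferInstanceAs (Flat (pullback.fst H.hom G.hom))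
    rw [show Φ = e.hom ≫ fst H G by simp [e], Over.comp_left]
    infer_instance
  haveI : Flat μ[G].left := by
    haveI : Flat G.hom := AssLib.flat_over_field G.hom
    rw [GrpSchLib.mul_eq_id_whiskerRight (G := G)]
    exact GrpSchLib.flat_whiskerRight_mul (𝟙 G)
  let α : P ⊗ G ⟶ G := (p ▷ G) ≫ μ[G]
  haveI : Flat α.left := by rw [Over.comp_left]; infer_instance
  haveI : Flat (α ≫ f).left := by
    have e : α ≫ f = (fc ▷ G) ≫ (j ▷ G) ≫ Φ := by
      simp only [α, Φ, Category.assoc, IsMonHom.mul_hom f, MonObj.comp_mul]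
      rw [Hom.mul_def, ← Category.assoc]
      congr 1
      apply CartesianMonoidalCategory.hom_ext
      · simp [hsq]
      · simp
    rw [e, Over.comp_left, Over.comp_left]
    infer_instance
  have hsurj : ∀ x : G.left, ∃ w, α.left w = x := fun x => by
    -- `x` is a product of `g₁` over `c` with another point
    let L := AlgebraicClosure (G.left.residueField x)
    let t : Spec (CommRingCat.of L) ⟶ G.left :=
      Spec.map (CommRingCat.ofHom (algebraMap (G.left.residueField x) _)) ≫ G.left.fromSpecResidueField x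
    obtain ⟨φ, hφ⟩ := Spec.map_surjective (t ≫ G.hom)
    let T : Over (Spec (CommRingCat.of k)) := Over.mk (Spec.map φ)
    let xT : T ⟶ G := Over.homMk t hφ.symm
    obtain ⟨z₁, hz₁⟩ : g₀ ∈ Set.range p.left := by
      show g₀ ∈ Set.range (pullback.fst f.left j.left)
      rw [Scheme.Pullback.range_fst]
      exact ⟨IsLocalRing.closedPoint _, (H.left.fromSpecStalk_closedPoint (x := c)).trans hg₀.symm⟩
    obtain ⟨z, hz, -⟩ := Scheme.Pullback.exists_preimage_pullback (f := P.hom) (g := T.hom) z₁
      (IsLocalRing.closedPoint L) (@Subsingleton.elim (PrimeSpectrum k) inferInstance _ _)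
    let ψ : P ⊗ T ⟶ P ⊗ G := lift (fst P T) ((fst P T ≫ p)⁻¹ * (snd P T ≫ xT))
    let w := ψ.left z
    have hw : α.left w = x := by
      rw [← left_comp_apply]
      have e : ψ ≫ α = snd P T ≫ xT := by
        simp only [ψ, α]
        rw [← Category.assoc, lift_whiskerRight, ← Hom.mul_def, mul_inv_cancel_left]
      rw [e, left_comp_apply]
      exact G.left.fromSpecResidueField_apply x _
    exact ⟨w, hw⟩
  suffices key : ∀ w, (f.left.stalkMap (α.left w)).hom.Flat by
    refine Flat.of_stalkMap _ fun x => ?_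
    obtain ⟨w, hw⟩ : ∃ w, α.left w = x := hsurj x
    exact hw ▸ key w
  intro w
  let A := H.left.presheaf.stalk (f.left (α.left w))
  let B := G.left.presheaf.stalk (α.left w)
  let C := (P ⊗ G).left.presheaf.stalk w
  letI : Algebra A B := (f.left.stalkMap (α.left w)).hom.toAlgebra
  letI : Algebra B C := (α.left.stalkMap w).hom.toAlgebra
  letI : Algebra A C := ((α.left.stalkMap w).hom.comp (f.left.stalkMap (α.left w)).hom).toAlgebra
  haveI : IsScalarTower A B C := IsScalarTower.of_algebraMap_eq' rfl
  haveI : Module.Flat B C := Flat.stalkMap α.left w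
  haveI : Module.Flat A C := by
    have := Flat.stalkMap (α ≫ f).left w
    erw [Scheme.Hom.stalkMap_comp, CommRingCat.hom_comp] at this
    exact this
  haveI : IsLocalHom (algebraMap B C) := inferInstanceAs (IsLocalHom (α.left.stalkMap w).hom)
  haveI : Module.FaithfullyFlat B C := Module.FaithfullyFlat.of_flat_of_isLocalHom
  exact SmallFlat.flat_of_faithfullyFlat_tower A B C

omit [GrpObj G] in
theorem denseRange_of_ker_eq_bot {X Y : Scheme.{u}} (f : X ⟶ Y) [QuasiCompact f] (h : f.ker = ⊥) :
    DenseRange f.base := by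
  haveI : IsSchemeTheoreticallyDominant f := (isSchemeTheoreticallyDominant_iff _).mpr h
  haveI : IsDominant f := inferInstance
  exact f.denseRange

/-- The schematic image of a quasi-compact homomorphism is a closed subgroup. -/
theorem exists_schImage (f : G ⟶ H) [IsMonHom f] [QuasiCompact f.left] :
    ∃ (I : Over (Spec (CommRingCat.of k))) (_ : GrpObj I) (i : I ⟶ H) (p : G ⟶ I), IsMonHom i ∧ IsMonHom p ∧
      p ≫ i = f ∧ IsClosedImmersion i.left ∧ p.left.ker = ⊥ ∧ QuasiCompact p.left ∧ Surjective p.left := by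
  let I : Over (Spec (CommRingCat.of k)) := Over.mk (f.left.imageι ≫ H.hom)
  let i : I ⟶ H := Over.homMk f.left.imageι rfl
  let p : G ⟶ I := Over.homMk f.left.toImage (by
    show f.left.toImage ≫ f.left.imageι ≫ H.hom = G.hom
    rw [Scheme.Hom.toImage_imageι_assoc, Over.w f])
  have hpi : p ≫ i = f := Over.OverMorphism.ext f.left.toImage_imageι
  haveI : IsClosedImmersion i.left := inferInstanceAs (IsClosedImmersion f.left.imageι)
  haveI : IsSchemeTheoreticallyDominant p.left := Triage.SchDense.isSchemeTheoreticallyDominant_toImage f.left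
  haveI : QuasiCompact p.left := by
    haveI : QuasiCompact (p.left ≫ i.left) := by rw [← Over.comp_left, hpi]; infer_instance
    exact QuasiCompact.of_comp p.left i.left
  haveI : Mono i := (Over.forget _).mono_of_mono_map (inferInstanceAs (Mono i.left))
  let pp : G ⊗ G ⟶ I ⊗ I := (p ▷ G) ≫ (I ◁ p)
  have hpp : pp.left.ker = ⊥ := by
    have hl : ∀ A : Over (Spec (CommRingCat.of k)), IsSchemeTheoreticallyDominant (p ▷ A).left := fun A => by
      haveI : Flat A.hom := AssLib.flat_over_field A.hom
      haveI : Flat (fst I A).left := inferInstanceAs (Flat (pullback.fst I.hom A.hom))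
      exact IsSchemeTheoreticallyDominant.of_isPullback (f := p.left) (g := (fst I A).left)
        (GrpSchLib.isPullback_whiskerRight p A).flip
    haveI := hl G
    haveI : IsSchemeTheoreticallyDominant (I ◁ p).left := by
      haveI := hl I
      have e : I ◁ p = (β_ I G).hom ≫ (p ▷ I) ≫ (β_ I I).hom := by
        apply CartesianMonoidalCategory.hom_ext <;> simp
      haveI : IsIso (β_ I G).hom.left := ((Over.forget _).mapIso (β_ I G)).isIso_hom
      haveI : IsIso (β_ I I).hom.left := ((Over.forget _).mapIso (β_ I I)).isIso_hom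
      rw [e, Over.comp_left, Over.comp_left]
      infer_instance
    haveI : IsSchemeTheoreticallyDominant pp.left := by simp only [pp, Over.comp_left]; infer_instance
    exact pp.left.ker_eq_bot
  have hif : i.left.ker = f.left.ker := by
    rw [← hpi, Over.comp_left, Scheme.Hom.ker_comp, p.left.ker_eq_bot, Scheme.IdealSheafData.map_bot]
  have hlift : ∀ {A : Over (Spec (CommRingCat.of k))} (d : A ⟶ H), i.left.ker ≤ d.left.ker → ∃ m : A ⟶ I, m ≫ i = d :=
    fun {A} d hd => ⟨Over.homMk (IsClosedImmersion.lift i.left d.left hd)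
      (by rw [← Over.w i, ← Category.assoc, IsClosedImmersion.lift_fac]; exact Over.w d),
      Over.OverMorphism.ext (IsClosedImmersion.lift_fac _ _ _)⟩
  obtain ⟨m, hm⟩ : ∃ m : I ⊗ I ⟶ I, m ≫ i = (fst I I ≫ i) * (snd I I ≫ i) := by
    refine hlift _ ?_
    set d : I ⊗ I ⟶ H := (fst I I ≫ i) * (snd I I ≫ i)
    have hd : pp ≫ d = (fst G G * snd G G) ≫ f := by
      simp only [d, MonObj.comp_mul, MonObj.mul_comp]
      simp [pp, hpi]
    have h2 : (pp ≫ d).left.ker = d.left.ker := by
      rw [Over.comp_left, Scheme.Hom.ker_comp, hpp, Scheme.IdealSheafData.map_bot]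
    rw [hif, ← h2, hd, Over.comp_left]
    exact Scheme.Hom.le_ker_comp _ _
  obtain ⟨v, hv⟩ : ∃ v : I ⟶ I, v ≫ i = i⁻¹ := by
    refine hlift _ ?_
    have hd : p ≫ i⁻¹ = (GrpObj.inv : G ⟶ G) ≫ f := by
      rw [GrpObj.comp_inv, hpi, GrpObj.inv_hom f]; rfl
    have h2 : (p ≫ i⁻¹).left.ker = i⁻¹.left.ker := by
      rw [Over.comp_left, Scheme.Hom.ker_comp, p.left.ker_eq_bot, Scheme.IdealSheafData.map_bot]
    rw [hif, ← h2, hd, Over.comp_left]
    exact Scheme.Hom.le_ker_comp _ _
  obtain ⟨str, hi⟩ := exists_grpObj_of_mono i (η[G] ≫ p) (by rw [Category.assoc, hpi, IsMonHom.one_hom f]) m hm v hv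
  haveI := hi
  haveI hp : IsMonHom p :=
    { one_hom := by rw [← cancel_mono i, Category.assoc, hpi, IsMonHom.one_hom f, IsMonHom.one_hom i]
      mul_hom := by
        rw [← cancel_mono i, Category.assoc, hpi, IsMonHom.mul_hom f, Category.assoc, IsMonHom.mul_hom i,
          MonoidalCategory.tensorHom_comp_tensorHom_assoc, hpi] }
  exact ⟨I, str, i, p, hi, hp, hpi, inferInstance, p.left.ker_eq_bot, inferInstance,
    surjective p (denseRange_of_ker_eq_bot p.left p.left.ker_eq_bot)⟩

end Groth.Agent.GrpSchLib.DomHom
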