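import Groth.Agent.GrpSchLib.KernelPair
import Groth.Agent.GrpSchLib.KernelGrp
import Groth.Agent.GrpSchLib.HomClosedRange
import Groth.Agent.GrpSchLib.AntiAffineHom
import Groth.Agent.FibDim.BaseField
import Groth.Agent.VarDim.Fibre
import Mathlib.AlgebraicGeometry.Morphisms.Immersion

/-! Dimension formula for homomorphisms of locally algebraic groups. -/

universe u

open CategoryTheory Limits AlgebraicGeometry MonoidalCategory CartesianMonoidalCategory MonObj GrpObj

namespace Groth.Agent.GrpSchLib.HomDim

/-- A section of a structure morphism is an immersion. -/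
theorem isImmersion_one {S : Scheme.{u}} (H : Over S) [MonObj H] : IsImmersion η[H].left := by
  have h : IsImmersion (η[H].left ≫ H.hom) := by
    rw [Over.w η[H]]
    exact inferInstanceAs (IsImmersion (𝟙 S))
  exact IsImmersion.of_comp η[H].left H.hom

/-- The kernel has the space of the fibre over the unit. -/
theorem dim_pullback_one {S : Scheme.{u}} {G H : Over S} [MonObj H] (u : G ⟶ H) :
    topologicalKrullDim ↥(pullback u.left η[H].left) =
      topologicalKrullDim ↥(u.left ⁻¹' Set.range η[H].left) := by
  have := isImmersion_one H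
  have he := (pullback.fst u.left η[H].left).isEmbedding
  exact ((he.toHomeomorph).trans (Homeomorph.setCongr (Scheme.Pullback.range_fst _ _))).isHomeomorph.topologicalKrullDim_eq

variable {k : Type u} [Field k] {G H : Over (Spec (CommRingCat.of k))} [GrpObj G] [GrpObj H]
  [LocallyOfFiniteType G.hom] [LocallyOfFiniteType H.hom]

/-- All nonempty fibres have the dimension of the kernel. -/
theorem dim_fiber_eq (u : G ⟶ H) [IsMonHom u] [LocallyOfFiniteType u.left] (x : G.left) :
    topologicalKrullDim ↥(u.left.fiber (u.left x)) = topologicalKrullDim ↥(pullback u.left η[H].left) := by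
  have : IsSeparated H.hom := AntiAffine.isSeparated_grp H
  obtain ⟨N, hN, i, hi, hci, -, hker⟩ := exists_kernel u
  obtain ⟨p, hp, hps⟩ := exists_kernelPair_iso i u hker
  have hsq : IsPullback i.left (toUnit N).left u.left η[H].left := hker.map (Over.forget _)
  have hdimN : topologicalKrullDim ↥(pullback u.left η[H].left) = topologicalKrullDim ↥N.left :=
    (hsq.isoPullback.hom.homeomorph.isHomeomorph.topologicalKrullDim_eq).symm
  haveI : LocallyOfFiniteType N.hom := by
    rw [← Over.w i]
    infer_instance
  rw [hdimN]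
  let j := G.left.fromSpecResidueField x
  let P := pullback (pullback.snd u.left u.left) j
  haveI : LocallyOfFiniteType (pullback.snd u.left u.left) :=
    MorphismProperty.of_isPullback (IsPullback.of_hasPullback u.left u.left) ‹LocallyOfFiniteType u.left›
  haveI : LocallyOfFiniteType (snd N G).left :=
    MorphismProperty.of_isPullback (IsPullback.of_hasPullback N.hom G.hom) ‹LocallyOfFiniteType N.hom›
  haveI : Subsingleton ↥(Spec (G.left.residueField x)) := inferInstanceAs (Subsingleton (PrimeSpectrum _))
  haveI : Nonempty ↥(Spec (G.left.residueField x)) := inferInstanceAs (Nonempty (PrimeSpectrum _))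
  haveI : Subsingleton ↥(Spec (H.left.residueField (u.left x))) := inferInstanceAs (Subsingleton (PrimeSpectrum _))
  haveI : Subsingleton ↥(Spec (CommRingCat.of k)) := inferInstanceAs (Subsingleton (PrimeSpectrum _))
  -- against the fibre of `u`
  have h1 : IsPullback (pullback.fst (pullback.snd u.left u.left) j ≫ pullback.fst u.left u.left)
      (pullback.snd (pullback.snd u.left u.left) j) u.left (j ≫ u.left) :=
    (IsPullback.of_hasPullback _ j).paste_horiz (IsPullback.of_hasPullback u.left u.left)
  rw [← Scheme.Hom.SpecMap_residueFieldMap_fromSpecResidueField] at h1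
  let l : P ⟶ u.left.fiber (u.left x) := pullback.lift
    (pullback.fst (pullback.snd u.left u.left) j ≫ pullback.fst u.left u.left)
    (pullback.snd (pullback.snd u.left u.left) j ≫ Spec.map (u.left.residueFieldMap x))
    (by rw [h1.w, Category.assoc])
  have h2 : IsPullback l (pullback.snd (pullback.snd u.left u.left) j) (u.left.fiberToSpecResidueField (u.left x))
      (Spec.map (u.left.residueFieldMap x)) := by
    refine IsPullback.of_right ?_ (pullback.lift_snd _ _ _) (IsPullback.of_hasPullback u.left (H.left.fromSpecResidueField (u.left x)))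
    rw [show l ≫ pullback.fst _ _ = _ from pullback.lift_fst _ _ _]
    exact h1
  rw [← FibDim.topologicalKrullDim_baseChange h2]
  -- against the kernel
  have h3 : IsPullback (pullback.fst (snd N G).left j ≫ (fst N G).left) (pullback.snd (snd N G).left j)
      N.hom (j ≫ G.hom) :=
    (IsPullback.of_hasPullback _ j).paste_horiz (IsPullback.of_hasPullback N.hom G.hom)
  rw [← FibDim.topologicalKrullDim_baseChange h3]
  have h4 : IsPullback (pullback.fst (snd N G).left j ≫ p) (pullback.snd (snd N G).left j)
      (pullback.snd u.left u.left) j :=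
    (IsPullback.of_hasPullback _ j).paste_horiz (IsPullback.of_horiz_isIso ⟨by rw [hps, Category.comp_id]⟩)
  exact (h4.isoPullback.hom.homeomorph.isHomeomorph.topologicalKrullDim_eq).symm

/-- The dimension formula. -/
theorem dim_eq_add (u : G ⟶ H) [IsMonHom u] [QuasiCompact u.left] :
    topologicalKrullDim G.left =
      topologicalKrullDim ↥(Set.range u.left) + topologicalKrullDim ↥(pullback u.left η[H].left) := by
  haveI : LocallyOfFiniteType u.left := by
    haveI : LocallyOfFiniteType (u.left ≫ H.hom) := by rw [Over.w u]; infer_instance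
    exact locallyOfFiniteType_of_comp u.left H.hom
  have hcl := HomClosedRange.isClosed_range u
  have hadd : ∀ x, VarDim.deg G.hom x = VarDim.deg H.hom (u.left x) + VarDim.fdeg u.left x :=
    VarDim.deg_eq_add u.left H.hom (Over.w u)
  rw [VarDim.topologicalKrullDim_eq_iSup_deg G.hom, VarDim.topologicalKrullDim_set_eq_iSup_deg H.hom hcl]
  have hD : ∀ y : Set.range u.left, topologicalKrullDim ↥(pullback u.left η[H].left) =
      ⨆ z : u.left ⁻¹' {y.1}, ((VarDim.fdeg u.left z.1 : ℕ∞) : WithBot ℕ∞) := by
    rintro ⟨_, x, rfl⟩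
    rw [← dim_fiber_eq u x]
    exact VarDim.topologicalKrullDim_fiber u.left (u.left x)
  haveI : Nonempty G.left := ⟨η[G].left (IsLocalRing.closedPoint k)⟩
  haveI : Nonempty ↥(Set.range u.left) := ⟨⟨_, η[G].left (IsLocalRing.closedPoint k), rfl⟩⟩
  let y₀ : Set.range u.left := Classical.arbitrary _
  refine le_antisymm (iSup_le fun x => ?_) ?_
  · rw [hadd]
    push_cast
    refine add_le_add (le_iSup_of_le ⟨u.left x, x, rfl⟩ le_rfl) ?_
    rw [hD ⟨u.left x, x, rfl⟩]
    exact le_iSup_of_le ⟨x, rfl⟩ le_rfl
  · haveI : ∀ y : Set.range u.left, Nonempty ↥(u.left ⁻¹' {y.1}) := fun ⟨_, x, hx⟩ => ⟨⟨x, hx⟩⟩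
    have hD' : ∀ y : Set.range u.left, topologicalKrullDim ↥(pullback u.left η[H].left) =
        ((⨆ z : u.left ⁻¹' {y.1}, (VarDim.fdeg u.left z.1 : ℕ∞) : ℕ∞) : WithBot ℕ∞) := fun y => by
      rw [hD y, WithBot.coe_iSup (OrderTop.bddAbove _)]
    rw [← WithBot.coe_iSup (OrderTop.bddAbove _), ← WithBot.coe_iSup (OrderTop.bddAbove _), hD' y₀,
      ← WithBot.coe_add, WithBot.coe_le_coe, ENat.iSup_add]
    refine iSup_le fun y => ?_
    have h := WithBot.coe_inj.1 ((hD' y₀).symm.trans (hD' y))
    rw [h, ENat.add_iSup]
    refine iSup_le fun z => le_iSup_of_le z.1 ?_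
    rw [hadd, show u.left z.1 = y.1 from z.2]
    push_cast
    rfl

end Groth.Agent.GrpSchLib.HomDim
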