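import Groth.Agent.GrpSchLib.NormalQuot
import Groth.Agent.GrpSchLib.ProPoints
import Groth.Agent.DynLib41.Basic
import Mathlib.RingTheory.Flat.FaithfullyFlat.Algebra
import Groth.Agent.S4103
import Mathlib.RingTheory.HopfAlgebra.Quotient
import Mathlib.RingTheory.Flat.FaithfullyFlat.Basic
import Mathlib.LinearAlgebra.TensorProduct.RightExactness

/-! Takeuchi: normal Hopf ideals and Hopf subalgebras of a commutative Hopf algebra over a field. -/

universe u

open TensorProduct WithConv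
open scoped Groth.Agent.DynLib41

namespace Groth.Agent.GrpSchLib.TakeuchiInv

variable {k : Type u} [Field k] {A : Type u} [CommRing A] [HopfAlgebra k A]

/-- The functions invariant under translation by the subgroup of `J`. -/
noncomputable def inv (J : Ideal A) : Subalgebra k A :=
  AlgHom.equalizer
    ((Algebra.TensorProduct.map (AlgHom.id k A) (Ideal.Quotient.mkₐ k J)).comp (Bialgebra.comulAlgHom k A))
    (Algebra.TensorProduct.includeLeft : A →ₐ[k] A ⊗[k] (A ⧸ J))

theorem mem_inv {J : Ideal A} {x : A} : x ∈ inv (k := k) J ↔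
    Algebra.TensorProduct.map (AlgHom.id k A) (Ideal.Quotient.mkₐ k J) (Coalgebra.comul (R := k) x) =
      x ⊗ₜ[k] (1 : A ⧸ J) := Iff.rfl

theorem inv_eq (J : Ideal A) : (inv (k := k) J : Set A) =
    {x : A | CoalgebraStruct.comul (R := k) (A := A) x - x ⊗ₜ[k] (1 : A) ∈
      LinearMap.range (LinearMap.lTensor A (J.restrictScalars k).subtype)} := by
  ext x
  show x ∈ inv J ↔ _
  have hex : Function.Exact (LinearMap.lTensor A (J.restrictScalars k).subtype)
      (LinearMap.lTensor A (Ideal.Quotient.mkₐ k J).toLinearMap) := by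
    refine lTensor_exact (R := k) A (fun y => ?_) Ideal.Quotient.mk_surjective
    show Ideal.Quotient.mk J y = 0 ↔ y ∈ Set.range _
    rw [Ideal.Quotient.eq_zero_iff_mem]
    exact ⟨fun h => ⟨⟨y, h⟩, rfl⟩, fun ⟨z, hz⟩ => hz ▸ z.2⟩
  rw [Set.mem_ofPred_eq, mem_inv, LinearMap.mem_range]
  refine Iff.trans ?_ (hex _)
  rw [map_sub, sub_eq_zero]
  rfl

omit [HopfAlgebra k A] in
theorem mem_range_of_tmul_one {C : Type u} [CommRing C] [Algebra C A] [Module.FaithfullyFlat C A] {x : A}
    (h : x ⊗ₜ[C] (1 : A) = (1 : A) ⊗ₜ[C] x) : x ∈ (algebraMap C A).range := by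
  let Q := A ⧸ LinearMap.range (Algebra.linearMap C A)
  let m : A →ₗ[C] Q := Submodule.mkQ _
  have h1 : m 1 = 0 := (Submodule.Quotient.mk_eq_zero _).mpr ⟨1, (algebraMap C A).map_one⟩
  have h2 : (1 : A) ⊗ₜ[C] m x = 0 := by
    have := congrArg (m.lTensor A) h
    rw [LinearMap.lTensor_tmul, LinearMap.lTensor_tmul, h1, TensorProduct.tmul_zero] at this
    exact this.symm
  exact LinearMap.mem_range.mp ((Submodule.Quotient.mk_eq_zero _).mp
    ((Module.FaithfullyFlat.one_tmul_eq_zero_iff (A := A) (M := Q) C (m x)).mp h2))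

theorem inv_augIdealSpan (B : Subalgebra k A) (hB : SGA3.IsHopfSubalgebra k A B) :
    inv (k := k) (SGA3.augIdealSpan k A B) ≤ B := by
  intro x hx
  letI : Module.FaithfullyFlat B A := Groth.Agent.S4103.result k A B hB
  let iL : A →ₐ[k] A ⊗[B] A := Algebra.TensorProduct.includeLeft
  let iR : A →ₐ[k] A ⊗[B] A := (Algebra.TensorProduct.includeRight : A →ₐ[B] A ⊗[B] A).restrictScalars k
  have hLR : ∀ b : B, iL (b : A) = iR (b : A) := fun b => by
    show (b : A) ⊗ₜ[B] (1 : A) = (1 : A) ⊗ₜ[B] (b : A)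
    rw [show (b : A) = b • (1 : A) from (mul_one _).symm, TensorProduct.smul_tmul]
  let g := (toConv iL)⁻¹ * toConv iR
  have hker : SGA3.augIdealSpan k A B ≤ RingHom.ker g.ofConv := by
    refine Ideal.span_le.mpr ?_
    rintro b ⟨hb, hεb⟩
    show g.ofConv b = 0
    obtain ⟨z, hz⟩ := hB.1 b hb
    have h0 : ((toConv iL)⁻¹ * toConv iL).ofConv b = 0 := by
      refine (congrArg (fun f => f.ofConv b) (inv_mul_cancel (toConv iL))).trans ?_
      show algebraMap k (A ⊗[B] A) (Coalgebra.counit (R := k) b) = 0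
      rw [hεb, map_zero]
    refine Eq.trans ?_ h0
    simp only [g, AlgHom.convMul_def, AlgHom.comp_apply, ofConv_toConv, Bialgebra.comulAlgHom_apply]
    rw [show Coalgebra.comul (R := k) b = TensorProduct.map B.val.toLinearMap B.val.toLinearMap z from hz.symm]
    clear hz
    induction z using TensorProduct.induction_on with
    | zero => simp
    | tmul p q => simp [← hLR q]
    | add s t hs ht => simp only [map_add, hs, ht]
  let g' : A ⧸ SGA3.augIdealSpan k A B →ₐ[k] A ⊗[B] A := Ideal.Quotient.liftₐ _ g.ofConv fun a ha => hker ha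
  have h1 : (toConv iL * g).ofConv x = iR x := by
    exact congrArg (fun f => f.ofConv x) (mul_inv_cancel_left (toConv iL) (toConv iR))
  have h2 : (toConv iL * g).ofConv x = iL x := by
    have e : ∀ z : A ⊗[k] A, Algebra.TensorProduct.lmul' k (Algebra.TensorProduct.map iL g.ofConv z) =
        Algebra.TensorProduct.lmul' k (Algebra.TensorProduct.map iL g'
          (Algebra.TensorProduct.map (AlgHom.id k A) (Ideal.Quotient.mkₐ k (SGA3.augIdealSpan k A B)) z)) := by
      intro z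
      induction z using TensorProduct.induction_on with
      | zero => simp
      | tmul p q =>
        simp only [Algebra.TensorProduct.map_tmul, AlgHom.id_apply, Algebra.TensorProduct.lmul'_apply_tmul, g']
        rfl
      | add s t hs ht => simp only [map_add, hs, ht]
    rw [AlgHom.convMul_def]
    show Algebra.TensorProduct.lmul' k (Algebra.TensorProduct.map iL g.ofConv (Coalgebra.comul (R := k) x)) = _
    rw [e, mem_inv.mp hx]
    simp
  obtain ⟨b, hb⟩ := mem_range_of_tmul_one (C := B) (show iL x = iR x from h2.symm.trans h1)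
  rw [← hb]
  exact b.2

theorem le_inv_of_augIdealSpan_le (B : Subalgebra k A) (hB : SGA3.IsHopfSubalgebra k A B) {J : Ideal A}
    (hJ : SGA3.augIdealSpan k A B ≤ J) : B ≤ inv (k := k) J := by
  intro b hb
  rw [mem_inv]
  obtain ⟨z, hz⟩ := hB.1 b hb
  have hq : ∀ c : B, Ideal.Quotient.mk J (c : A) = algebraMap k (A ⧸ J) (Coalgebra.counit (R := k) (c : A)) :=
    fun c => by
      rw [← Ideal.Quotient.mk_algebraMap, Ideal.Quotient.eq]
      exact hJ (Ideal.subset_span ⟨sub_mem c.2 (B.algebraMap_mem _), by simp⟩)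
  have e : ∀ w : B ⊗[k] B, Algebra.TensorProduct.map (AlgHom.id k A) (Ideal.Quotient.mkₐ k J)
      (TensorProduct.map B.val.toLinearMap B.val.toLinearMap w) =
      TensorProduct.rid k A ((Coalgebra.counit (R := k)).lTensor A
        (TensorProduct.map B.val.toLinearMap B.val.toLinearMap w)) ⊗ₜ[k] (1 : A ⧸ J) := by
    intro w
    induction w using TensorProduct.induction_on with
    | zero => simp
    | tmul p q => simp [hq, Algebra.algebraMap_eq_smul_one, TensorProduct.smul_tmul]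
    | add s t hs ht => simp only [map_add, TensorProduct.add_tmul, hs, ht]
  rw [← hz, e, hz, Coalgebra.lTensor_counit_comul]
  simp

theorem augIdealSpan_inv_le (J : Ideal A) [J.IsHopfIdeal k] : SGA3.augIdealSpan k A (inv J) ≤ J := by
  refine Ideal.span_le.mpr ?_
  rintro x ⟨hx, hεx⟩
  have e : ∀ z : A ⊗[k] A, TensorProduct.lid k (A ⧸ J) (TensorProduct.map (Coalgebra.counit (R := k)) LinearMap.id
      (Algebra.TensorProduct.map (AlgHom.id k A) (Ideal.Quotient.mkₐ k J) z)) =
      Ideal.Quotient.mkₐ k J (TensorProduct.lid k A ((Coalgebra.counit (R := k)).rTensor A z)) := by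
    intro z
    induction z using TensorProduct.induction_on with
    | zero => simp
    | tmul p q => simp
    | add s t hs ht => simp only [map_add, hs, ht]
  have h := e (Coalgebra.comul (R := k) x)
  rw [mem_inv.mp hx, Coalgebra.rTensor_counit_comul] at h
  refine Ideal.Quotient.eq_zero_iff_mem.mp ?_
  simpa [hεx] using h.symm

variable {J : Ideal A} (hN : SGA3.IsNormalHopfIdeal k A J)

/-- The trace of a Hopf ideal on a Hopf subalgebra maps injectively. -/
noncomputable def quotVal (A₀ : Subalgebra k A) (J : Ideal A) : (A₀ ⧸ J.comap A₀.val) →ₐ[k] A ⧸ J :=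
  Ideal.quotientMapₐ J A₀.val le_rfl

theorem quotVal_injective (A₀ : Subalgebra k A) (J : Ideal A) : Function.Injective (quotVal A₀ J) :=
  Ideal.quotientMap_injective

include hN in
set_option maxHeartbeats 1600000 in
/-- The trace of a normal Hopf ideal on a Hopf subalgebra is normal. -/
theorem isNormalPts_comap {A₀ : Type u} [CommRing A₀] [HopfAlgebra k A₀] (j : A₀ →ₐc[k] A)
    (hj : Function.Injective j) (J₀ : Ideal A₀) [J₀.IsHopfIdeal k] (hJ₀ : J₀ = J.comap (j : A₀ →ₐ[k] A)) :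
    ComodLib.Normal.IsNormalPts (Bialgebra.Quotient.mkBialgHom (R := k) J₀) := by
  let π := Bialgebra.Quotient.mkBialgHom (R := k) J₀
  let qv : (A₀ ⧸ J₀) →ₐ[k] A ⧸ J := Ideal.quotientMapₐ J (j : A₀ →ₐ[k] A) hJ₀.le
  have hqv : Function.Injective qv := Ideal.quotientMap_injective' (H := hJ₀.le) hJ₀.ge
  intro R _ _ g n
  let g₀ : A₀ →ₐ[k] A₀ ⊗[k] (A₀ ⧸ J₀) := Algebra.TensorProduct.includeLeft
  let h₀ : A₀ →ₐ[k] A₀ ⊗[k] (A₀ ⧸ J₀) := Algebra.TensorProduct.includeRight.comp (π : A₀ →ₐ[k] _)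
  let Φ : A₀ ⊗[k] (A₀ ⧸ J₀) →ₐ[k] A ⊗[k] (A ⧸ J) := Algebra.TensorProduct.map (j : A₀ →ₐ[k] A) qv
  let G : A →ₐ[k] A ⊗[k] (A ⧸ J) := Algebra.TensorProduct.includeLeft
  let H : A →ₐ[k] A ⊗[k] (A ⧸ J) := Algebra.TensorProduct.includeRight.comp (Ideal.Quotient.mkₐ k J)
  let c₀ := (toConv g₀)⁻¹ * toConv h₀ * toConv g₀
  have hc : ∀ a ∈ J, ((toConv G)⁻¹ * toConv H * toConv G).ofConv a = 0 := fun a ha => by
    have h := hN _ ((toConv G)⁻¹).ofConv H (fun b hb => by simp [H, Ideal.Quotient.eq_zero_iff_mem.mpr hb]) a ha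
    rw [HopfPtLib.conv3_eq] at h
    rw [show toConv (((toConv G)⁻¹).ofConv.comp (HopfAlgebra.antipodeAlgHom k A)) = toConv G from inv_inv (toConv G),
      toConv_ofConv] at h
    exact h
  have hc₀ : ∀ a ∈ J₀, c₀.ofConv a = 0 := fun a ha => by
    apply SubHopf.map_val_injective (j : A₀ →ₐ[k] A) qv hj hqv
    rw [map_zero]
    have e : Φ.comp c₀.ofConv = ((toConv G)⁻¹ * toConv H * toConv G).ofConv.comp (j : A₀ →ₐ[k] A) := by
      have eg : Φ.comp g₀ = G.comp (j : A₀ →ₐ[k] A) := by ext x; simp [Φ, g₀, G]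
      have eh : Φ.comp h₀ = H.comp (j : A₀ →ₐ[k] A) := by ext x; simp [Φ, h₀, H, π, qv]
      have ei : Φ.comp ((toConv g₀)⁻¹).ofConv = ((toConv G)⁻¹).ofConv.comp (j : A₀ →ₐ[k] A) :=
        AlgHom.ext fun x => (DFunLike.congr_fun eg (HopfAlgebraStruct.antipode (R := k) x)).trans
        (congrArg G (GrpSchLib.HopfGalois.antipode_bialgHom j x).symm)
      simp only [c₀, AlgHom.comp_convMul_distrib, AlgHom.convMul_comp_bialgHom_distrib, ofConv_toConv, toConv_ofConv,
        eg, eh, ei]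
    exact (DFunLike.congr_fun e a).trans (hc _ (show a ∈ J.comap (j : A₀ →ₐ[k] A) from hJ₀ ▸ ha))
  let f : A₀ ⊗[k] (A₀ ⧸ J₀) →ₐ[k] R := Algebra.TensorProduct.lift g n fun _ _ => Commute.all _ _
  refine ⟨Ideal.Quotient.liftₐ J₀ (f.comp c₀.ofConv) (fun a ha => by simp [hc₀ a ha]), ?_⟩
  have eg : f.comp g₀ = g := Algebra.TensorProduct.lift_comp_includeLeft ..
  have eh : f.comp h₀ = n.comp (π : A₀ →ₐ[k] _) := by ext x; simp [f, h₀]
  have ei : f.comp ((toConv g₀)⁻¹).ofConv = ((toConv g)⁻¹).ofConv :=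
    AlgHom.ext fun x => DFunLike.congr_fun eg (HopfAlgebraStruct.antipode (R := k) x)
  have el : (Ideal.Quotient.liftₐ J₀ (f.comp c₀.ofConv) (fun a ha => by simp [hc₀ a ha])).comp (π : A₀ →ₐ[k] _) =
      f.comp c₀.ofConv := AlgHom.ext fun x => rfl
  rw [el]
  simp only [c₀, AlgHom.comp_convMul_distrib, ofConv_toConv, toConv_ofConv, eg, eh, ei]
  rw [← mul_assoc, ← mul_assoc, mul_inv_cancel, one_mul]

include hN in
set_option synthInstance.maxHeartbeats 200000 in
set_option maxHeartbeats 1600000 in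
set_option backward.isDefEq.respectTransparency false in
set_option backward.isDefEq.respectTransparency.types false in
theorem exists_hopf_le_inv [J.IsHopfIdeal k] (A₀ : Subalgebra k A) (hfg : A₀.FG)
    (hA₀ : SGA3.IsHopfSubalgebra k A A₀) : ∃ C : Subalgebra k A, C ≤ A₀ ∧ SGA3.IsHopfSubalgebra k A C ∧
      C ≤ inv J ∧ (∀ x ∈ J, x ∈ A₀ → x ∈ SGA3.augIdealSpan k A C) ∧ ∀ x ∈ inv (k := k) J, x ∈ A₀ → x ∈ C := by
  classical
  letI := SubHopf.hopf A₀ hA₀
  haveI : Algebra.FiniteType k A₀ := (Subalgebra.fg_iff_finiteType A₀).mp hfg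
  let j : A₀ →ₐc[k] A := BialgHom.ofAlgHom A₀.val rfl (AlgHom.ext fun c => SubHopf.map_comulRes A₀ hA₀ c)
  let J₀ : Ideal A₀ := J.comap A₀.val
  have hJmk : ∀ x ∈ J, Algebra.TensorProduct.map (Ideal.Quotient.mkₐ k J) (Ideal.Quotient.mkₐ k J)
      (Coalgebra.comul (R := k) x) = 0 := fun x hx => Submodule.IsCoideal.map_mkQ_comul_eq_zero (I := J.restrictScalars k) hx
  haveI : J₀.IsHopfIdeal k := by
    refine @Ideal.IsHopfIdeal.mk _ _ _ _ _ J₀ ⟨fun z hz => ?_, fun z hz => ?_⟩ fun z hz => ?_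
    · exact Submodule.IsCoideal.counit_eq_zero (R := k) (I := J.restrictScalars k) (x := (z : A)) hz
    · show Algebra.TensorProduct.map (Ideal.Quotient.mkₐ k J₀) (Ideal.Quotient.mkₐ k J₀)
        (Coalgebra.comul (R := k) z) = 0
      apply SubHopf.map_val_injective (quotVal A₀ J) (quotVal A₀ J) (quotVal_injective A₀ J) (quotVal_injective A₀ J)
      rw [map_zero]
      refine Eq.trans ?_ (hJmk (z : A) hz)
      rw [show Coalgebra.comul (R := k) (z : A) = Algebra.TensorProduct.map A₀.val A₀.val (Coalgebra.comul (R := k) z) from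
        (SubHopf.map_comulRes A₀ hA₀ z).symm]
      generalize Coalgebra.comul (R := k) z = w
      induction w using TensorProduct.induction_on with
      | zero => simp
      | tmul p q => simp [quotVal, J₀]
      | add s t hs ht => simp only [map_add, hs, ht]
    · exact Ideal.IsHopfIdeal.antipode_mem (R := k) (I := J) hz
  let π := Bialgebra.Quotient.mkBialgHom (R := k) J₀
  have hπ : Function.Surjective π := Ideal.Quotient.mk_surjective
  have hnorm : ComodLib.Normal.IsNormalPts π := isNormalPts_comap hN j Subtype.val_injective J₀ rfl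
  obtain ⟨C₀, -, hC₀, hker⟩ := ComodLib.Normal.exists_hopf_subalgebra hnorm hπ
  have hker' : J₀ = SGA3.augIdealSpan k A₀ C₀ := (Ideal.mk_ker (I := J₀)).symm.trans hker
  let C := C₀.map A₀.val
  have hC : SGA3.IsHopfSubalgebra k A C := by
    refine ⟨?_, ?_⟩
    · rintro _ ⟨c, hc, rfl⟩
      obtain ⟨w, hw⟩ := hC₀.1 c hc
      let p := (A₀.val.comp C₀.val).codRestrict C fun b => ⟨b.1, b.2, rfl⟩
      refine ⟨TensorProduct.map p.toLinearMap p.toLinearMap w, ?_⟩
      refine Eq.trans ?_ (SubHopf.map_comulRes A₀ hA₀ c)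
      show _ = Algebra.TensorProduct.map A₀.val A₀.val (Coalgebra.comul (R := k) c)
      rw [← hw, ← LinearMap.comp_apply, ← TensorProduct.map_comp]
      generalize w = z
      induction z using TensorProduct.induction_on with
      | zero => simp
      | tmul x y => rfl
      | add x y hx hy => simp only [map_add, hx, hy]
    · rintro _ ⟨c, hc, rfl⟩
      exact ⟨_, hC₀.2 c hc, rfl⟩
  have hle : SGA3.augIdealSpan k A C ≤ J := by
    refine Ideal.span_le.mpr ?_
    rintro _ ⟨⟨c, hc, rfl⟩, hεc⟩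
    have : c ∈ SGA3.augIdealSpan k A₀ C₀ := Ideal.subset_span ⟨hc, hεc⟩
    exact (show c ∈ J₀ from hker'.symm ▸ this)
  refine ⟨C, ?_, hC, le_inv_of_augIdealSpan_le C hC hle, fun x hx hxA => ?_,
    fun x hx hxA => ?_⟩
  · rintro _ ⟨c, -, rfl⟩
    exact c.2
  · have h1 : (⟨x, hxA⟩ : A₀) ∈ SGA3.augIdealSpan k A₀ C₀ := hker' ▸ (show (⟨x, hxA⟩ : A₀) ∈ J₀ from hx)
    have h2 : SGA3.augIdealSpan k A₀ C₀ ≤ (SGA3.augIdealSpan k A C).comap A₀.val :=
      Ideal.span_le.mpr fun c hc => Ideal.subset_span ⟨⟨c, hc.1, rfl⟩, hc.2⟩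
    exact h2 h1
  · refine ⟨⟨x, hxA⟩, inv_augIdealSpan C₀ hC₀ ?_, rfl⟩
    rw [← hker', mem_inv]
    apply SubHopf.map_val_injective A₀.val (quotVal A₀ J) Subtype.val_injective (quotVal_injective A₀ J)
    have e : ∀ w : A₀ ⊗[k] A₀, Algebra.TensorProduct.map A₀.val (quotVal A₀ J)
        (Algebra.TensorProduct.map (AlgHom.id k A₀) (Ideal.Quotient.mkₐ k J₀) w) =
        Algebra.TensorProduct.map (AlgHom.id k A) (Ideal.Quotient.mkₐ k J) (Algebra.TensorProduct.map A₀.val A₀.val w) := by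
      intro w
      induction w using TensorProduct.induction_on with
      | zero => simp
      | tmul p q => simp [quotVal, J₀]
      | add s t hs ht => simp only [map_add, hs, ht]
    refine (e _).trans ?_
    rw [show Algebra.TensorProduct.map A₀.val A₀.val (Coalgebra.comul (R := k) (⟨x, hxA⟩ : A₀)) = Coalgebra.comul (R := k) x
      from SubHopf.map_comulRes A₀ hA₀ _, mem_inv.mp hx]
    simp

include hN in
theorem isHopfSubalgebra_inv [J.IsHopfIdeal k] : SGA3.IsHopfSubalgebra k A (inv J) := by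
  classical
  have key : ∀ x ∈ inv (k := k) J, ∃ C : Subalgebra k A, x ∈ C ∧ SGA3.IsHopfSubalgebra k A C ∧ C ≤ inv J := by
    intro x hx
    obtain ⟨A₀, hs, hfg, hA₀⟩ := ProPoints.exists_fg_hopf_of_finset (k := k) {x}
    obtain ⟨C, -, hC, hCle, -, h⟩ := exists_hopf_le_inv hN A₀ hfg hA₀
    exact ⟨C, h x hx (hs (Finset.mem_singleton_self x)), hC, hCle⟩
  refine ⟨fun x hx => ?_, fun x hx => ?_⟩
  · obtain ⟨C, hxC, hC, hle⟩ := key x hx
    obtain ⟨z, hz⟩ := hC.1 x hxC
    refine ⟨TensorProduct.map (Subalgebra.inclusion hle).toLinearMap (Subalgebra.inclusion hle).toLinearMap z, ?_⟩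
    rw [← LinearMap.comp_apply, ← TensorProduct.map_comp]
    exact hz
  · obtain ⟨C, hxC, hC, hle⟩ := key x hx
    exact hle (hC.2 x hxC)

include hN in
theorem eq_augIdealSpan_inv [J.IsHopfIdeal k] : J = SGA3.augIdealSpan k A (inv J) := by
  classical
  refine le_antisymm (fun x hx => ?_) (augIdealSpan_inv_le J)
  obtain ⟨A₀, hs, hfg, hA₀⟩ := ProPoints.exists_fg_hopf_of_finset (k := k) {x}
  obtain ⟨C, -, -, hCle, h, -⟩ := exists_hopf_le_inv hN A₀ hfg hA₀
  have hm : SGA3.augIdealSpan k A C ≤ SGA3.augIdealSpan k A (inv J) :=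
    Ideal.span_mono fun c (hc : c ∈ C ∧ Coalgebra.counit (R := k) c = 0) => ⟨hCle hc.1, hc.2⟩
  exact hm (h x hx (hs (Finset.mem_singleton_self x)))

end Groth.Agent.GrpSchLib.TakeuchiInv
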