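import Groth.Agent.FComplLib.Thicken
import Groth.Agent.GrpSchLib.ThickIso
import Mathlib.AlgebraicGeometry.Morphisms.Immersion
import Mathlib.RingTheory.Artinian.Ring
import Mathlib.RingTheory.LocalRing.ResidueField.Defs

/-! Morphisms over an artinian local ring and their closed fibres. -/

universe u

open CategoryTheory CategoryTheory.Limits AlgebraicGeometry

namespace Groth.Agent.GrpSchLib.ArtinClosedFibre

variable (A : Type u) [CommRing A] [IsLocalRing A]

/-- The closed point of `Spec A`. -/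
noncomputable abbrev pt : Spec (.of (IsLocalRing.ResidueField A)) ⟶ Spec (.of A) :=
  Spec.map (CommRingCat.ofHom (IsLocalRing.residue A))

instance isClosedImmersion_pt : IsClosedImmersion (pt A) :=
  IsClosedImmersion.spec_of_surjective _ IsLocalRing.residue_surjective

variable [IsArtinianRing A]

instance surjective_pt : Surjective (pt A) :=
  ThickIso.surjective_SpecMap_quotient (IsLocalRing.maximalIdeal A) (IsLocalRing.jacobson_eq_maximalIdeal (R := A) ⊥ bot_ne_top ▸ IsArtinianRing.isNilpotent_jacobson_bot)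

theorem exists_pow_eq_bot : ∃ m : ℕ, (pt A).ker ^ m = ⊥ := by
  let U : (Spec (.of A)).affineOpens := ⟨⊤, isAffineOpen_top _⟩
  have hfg : ((pt A).ker.ideal U).FG := (IsLocallyNoetherian.component_noetherian U).noetherian _
  have hsupp : (pt A).ker.support = ⊤ := by
    ext1
    rw [Scheme.Hom.support_ker, Set.range_eq_univ.mpr (pt A).surjective, closure_univ]
    rfl
  obtain ⟨m, hm⟩ := (Ideal.FG.isNilpotent_iff_le_nilradical hfg).mpr (FComplLib.ideal_le_nilradical hsupp U)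
  refine ⟨m, Scheme.IdealSheafData.ext_of_iSup_eq_top (fun _ : Unit => U) (by simp [U]) fun _ => ?_⟩
  rw [Scheme.IdealSheafData.ideal_pow, Pi.pow_apply, hm]
  rfl

/-- A morphism whose base change to the closed point is an immersion is an immersion. -/
theorem isImmersion {X Y X₀ Y₀ : Scheme.{u}} (f : X ⟶ Y) (f₀ : X₀ ⟶ Y₀) (iX : X₀ ⟶ X) (iY : Y₀ ⟶ Y)
    (sq : IsPullback iX f₀ f iY) [IsClosedImmersion iY] [Surjective iX] [Surjective iY] {m : ℕ}
    (hm : iY.ker ^ m = ⊥) [IsImmersion f₀] : IsImmersion f := by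
  let W : Y.Opens := ⟨iY '' (f₀.coborderRange : Set Y₀), by
    have hemb : IsHomeomorph iY :=
      (isHomeomorph_iff_isEmbedding_surjective).mpr ⟨iY.isClosedEmbedding.isEmbedding, iY.surjective⟩
    exact hemb.isOpenMap _ f₀.coborderRange.isOpen⟩
  have hpre : iY ⁻¹ᵁ W = f₀.coborderRange :=
    TopologicalSpace.Opens.ext (Set.preimage_image_eq _ iY.isClosedEmbedding.injective)
  have hr : Set.range f ⊆ Set.range W.ι := by
    rw [Scheme.Opens.range_ι]
    rintro _ ⟨x, rfl⟩
    obtain ⟨x₀, rfl⟩ := iX.surjective x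
    refine ⟨f₀ x₀, ?_, ?_⟩
    · have := congrArg (fun g => g x₀) f₀.liftCoborder_ι
      rw [← this]
      exact (f₀.liftCoborder x₀).2
    · rw [← Scheme.Hom.comp_apply, ← sq.w, Scheme.Hom.comp_apply]
  let f' := IsOpenImmersion.lift W.ι f hr
  have hf' : f' ≫ W.ι = f := IsOpenImmersion.lift_fac _ _ _
  have hr₀ : Set.range f₀ ⊆ Set.range (iY ⁻¹ᵁ W).ι := by
    rw [Scheme.Opens.range_ι, hpre]
    rintro _ ⟨x₀, rfl⟩
    rw [show f₀ x₀ = f₀.coborderRange.ι (f₀.liftCoborder x₀) by rw [← Scheme.Hom.comp_apply, f₀.liftCoborder_ι]]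
    exact (f₀.liftCoborder x₀).2
  let f₀' := IsOpenImmersion.lift (iY ⁻¹ᵁ W).ι f₀ hr₀
  have hf₀' : f₀' ≫ (iY ⁻¹ᵁ W).ι = f₀ := IsOpenImmersion.lift_fac _ _ _
  haveI : IsClosedImmersion f₀' := by
    have e : f₀' = f₀.liftCoborder ≫ (Y₀.isoOfEq hpre.symm).hom := by
      rw [← cancel_mono (iY ⁻¹ᵁ W).ι, hf₀', Category.assoc, Scheme.isoOfEq_hom_ι, f₀.liftCoborder_ι]
    rw [e]
    infer_instance
  let iW := iY ∣_ W
  haveI : IsClosedImmersion iW := IsZariskiLocalAtTarget.restrict ‹IsClosedImmersion iY› W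
  have hwW : iW ≫ W.ι = (iY ⁻¹ᵁ W).ι ≫ iY := morphismRestrict_ι iY W
  have hw : iX ≫ f' = f₀' ≫ iW := by
    rw [← cancel_mono W.ι, Category.assoc, Category.assoc, hf', hwW, reassoc_of% hf₀', sq.w]
  have hsW : IsPullback (iY ⁻¹ᵁ W).ι iW iY W.ι := (isPullback_morphismRestrict iY W).flip
  have sq' : IsPullback iX f₀' f' iW := by
    refine IsPullback.of_bot (h₃₁ := iY) (v₂₂ := W.ι) (v₂₁ := (iY ⁻¹ᵁ W).ι) ?_ hw hsW.flip
    rw [hf', hf₀']
    exact sq
  have hm' : iW.ker ^ m = ⊥ := by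
    rw [FComplLib.ker_of_isPullback hsW.flip, ← FComplLib.comap_pow, hm]
    exact Scheme.IdealSheafData.comap_bot _
  haveI : IsClosedImmersion f' := FComplLib.isClosedImmersion_of_thickening sq' hm'
  rw [← hf']
  infer_instance

end Groth.Agent.GrpSchLib.ArtinClosedFibre
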