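import Groth.Agent.GrpSchLib.ImageFlatLft
import Groth.Agent.GrpSchLib.ArtinClosedFibre
import Groth.Agent.GrpSchLib.Loci
import Groth.Agent.GrpSchLib.HomClosedRange

/-! The image of a quasi-compact homomorphism of flat group schemes over an artinian local ring. -/

set_option backward.isDefEq.respectTransparency false
set_option backward.isDefEq.respectTransparency.types false

universe u

open CategoryTheory Limits AlgebraicGeometry MonoidalCategory CartesianMonoidalCategory MonObj GrpObj
open scoped TensorProduct CategoryTheory.Obj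

namespace Groth.Agent.GrpSchLib.ArtinImage

open Groth.Agent.GrpSchLib.ImageFlat (surjective_sigmaDesc flat_sigmaDesc appTop_injective_sigmaDesc flat_of_pullback)

/-- A scheme-theoretically dominant morphism with flat base change along itself is flat somewhere. -/
theorem exists_flat_stalkMap {X Y : Scheme.{u}} (f : X ⟶ Y) [QuasiCompact f] [IsSchemeTheoreticallyDominant f]
    [IsLocallyNoetherian Y] [Flat (pullback.fst f f)] (y₀ : Y) : ∃ x : X, (f.stalkMap x).hom.Flat := by
  classical
  obtain ⟨ξ, hξ, -⟩ := exists_isMaxPt y₀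
  let A := Y.presheaf.stalk ξ
  haveI : IsArtinianRing A := by
    refine isArtinianRing_iff_isNoetherianRing_krullDimLE_zero.mpr ⟨inferInstance, ?_⟩
    refine Ring.krullDimLE_zero_iff.mpr fun P hP => ?_
    have h1 : ∀ w, Y.fromSpecStalk ξ w = ξ := fun w => by
      have : Y.fromSpecStalk ξ w ∈ Set.range (Y.fromSpecStalk ξ) := ⟨w, rfl⟩
      rw [Scheme.range_fromSpecStalk] at this
      exact hξ _ this
    have h := (Y.fromSpecStalk ξ).isEmbedding.injective
      ((h1 ⟨P, hP⟩).trans (h1 ⟨IsLocalRing.maximalIdeal _, inferInstance⟩).symm)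
    have h' : P = IsLocalRing.maximalIdeal _ := congrArg PrimeSpectrum.asIdeal h
    rw [h']
    infer_instance
  let ιξ := Y.fromSpecStalk ξ
  haveI : Flat ιξ := flat_fromSpecStalk ξ
  haveI : CompactSpace (pullback f ιξ : Scheme.{u}) :=
    (quasiCompact_iff_compactSpace (pullback.snd f ιξ ≫ 𝟙 _)).mp inferInstance
  let 𝒰 := (pullback f ιξ).affineCover.finiteSubcover
  let C := ∐ 𝒰.X
  haveI : ∀ i, IsAffine (𝒰.X i) := fun i => inferInstanceAs (IsAffine ((pullback f ιξ).affineCover.X _))
  haveI : IsAffine C := inferInstance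
  let π : Spec Γ(C, ⊤) ⟶ pullback f ιξ := C.isoSpec.inv ≫ Sigma.desc 𝒰.f
  haveI := surjective_sigmaDesc 𝒰
  haveI := flat_sigmaDesc 𝒰
  haveI : Flat π := inferInstance
  haveI : Surjective π := inferInstance
  let a : Spec Γ(C, ⊤) ⟶ X := π ≫ pullback.fst f ιξ
  let v : Spec Γ(C, ⊤) ⟶ Spec A := π ≫ pullback.snd f ιξ
  have hva : v ≫ ιξ = a ≫ f := by simp only [v, a, Category.assoc, pullback.condition]
  haveI : Flat a := inferInstance
  obtain ⟨φ, hφ⟩ : ∃ φ : A ⟶ Γ(C, ⊤), Spec.map φ = v := ⟨_, Spec.map_preimage v⟩
  have hinj : Function.Injective φ.hom := by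
    haveI : IsIso C.isoSpec.inv.appTop := inferInstanceAs (IsIso (Scheme.Γ.map C.isoSpec.inv.op))
    have h1 : Function.Injective π.appTop := by
      rw [Scheme.Hom.comp_appTop]
      exact (ConcreteCategory.bijective_of_isIso C.isoSpec.inv.appTop).1.comp (appTop_injective_sigmaDesc 𝒰)
    have h2 : Function.Injective v.appTop := by
      rw [Scheme.Hom.comp_appTop]
      exact h1.comp ((pullback.snd f ιξ).app_injective ⊤)
    have h3 : φ ≫ (Scheme.ΓSpecIso _).inv = (Scheme.ΓSpecIso A).inv ≫ v.appTop := by
      rw [← hφ]; exact Scheme.ΓSpecIso_inv_naturality φ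
    intro x y hxy
    refine (ConcreteCategory.bijective_of_isIso (Scheme.ΓSpecIso A).inv).1 (h2 ?_)
    have hx := ConcreteCategory.congr_hom h3 x
    have hy := ConcreteCategory.congr_hom h3 y
    simp only [ConcreteCategory.comp_apply] at hx hy
    rw [← hx, ← hy]
    exact congrArg _ hxy
  have hfl : Flat v := by
    rw [← hφ]
    refine flat_of_pullback φ hinj ?_
    rw [hφ]
    haveI : Flat (pullback.fst (a ≫ f) f) := by
      rw [← pullbackRightPullbackFstIso_inv_fst]; infer_instance
    haveI : Flat (pullback.snd f (a ≫ f)) := by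
      rw [← pullbackSymmetry_hom_comp_fst]; infer_instance
    haveI : Flat (pullback.snd (a ≫ f) (a ≫ f)) := by
      rw [← pullbackRightPullbackFstIso_inv_snd_snd f (a ≫ f) a]; infer_instance
    haveI : Flat (pullback.fst (a ≫ f) (a ≫ f)) := by
      rw [← pullbackSymmetry_hom_comp_snd]; infer_instance
    have hk : IsKernelPair (v ≫ ιξ) (pullback.fst v v) (pullback.snd v v) := IsKernelPair.comp_of_mono (IsPullback.of_hasPullback v v)
    rw [hva] at hk
    rw [← hk.isoPullback_hom_fst]
    infer_instance
  haveI : Nontrivial Γ(C, ⊤) := hinj.nontrivial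
  obtain ⟨b⟩ : Nonempty ↥(Spec Γ(C, ⊤)) := inferInstance
  have h4 : ((a ≫ f).stalkMap b).hom.Flat := by
    have : Flat (a ≫ f) := by rw [← hva]; infer_instance
    exact Flat.stalkMap (a ≫ f) b
  rw [Scheme.Hom.stalkMap_comp] at h4
  exact ⟨a b, Triage.CMMor.flat_of_comp (f.stalkMap (a b)).hom (a.stalkMap b).hom (Flat.stalkMap a b) h4⟩

variable {A : Type u} [CommRing A] [IsArtinianRing A] [IsLocalRing A]
  {G H : Over (Spec (CommRingCat.of A))} [GrpObj G] [GrpObj H]

/-- The range of a quasi-compact homomorphism over an artinian local ring is closed. -/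
theorem isClosed_range [LocallyOfFiniteType G.hom] [LocallyOfFiniteType H.hom] (u : G ⟶ H) [IsMonHom u]
    [QuasiCompact u.left] : IsClosed (Set.range u.left) := by
  let i := ArtinClosedFibre.pt A
  let G₀ := (Over.pullback i).obj G
  let H₀ := (Over.pullback i).obj H
  let u₀ := (Over.pullback i).map u
  haveI : LocallyOfFiniteType G₀.hom := inferInstanceAs (LocallyOfFiniteType (pullback.snd G.hom i))
  haveI : LocallyOfFiniteType H₀.hom := inferInstanceAs (LocallyOfFiniteType (pullback.snd H.hom i))
  have h1 : u₀.left ≫ pullback.fst H.hom i = pullback.fst G.hom i ≫ u.left := pullback.lift_fst _ _ _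
  have h2 : u₀.left ≫ pullback.snd H.hom i = pullback.snd G.hom i := pullback.lift_snd _ _ _
  have sq : IsPullback (pullback.fst G.hom i) u₀.left u.left (pullback.fst H.hom i) :=
    IsPullback.of_bot (h₃₁ := i) (v₂₁ := pullback.snd H.hom i) (v₂₂ := H.hom)
      (by rw [Over.w u, h2]; exact IsPullback.of_hasPullback _ _) h1.symm (IsPullback.of_hasPullback _ _)
  haveI : QuasiCompact u₀.left := MorphismProperty.of_isPullback (P := @QuasiCompact) sq inferInstance
  have hc := HomClosedRange.isClosed_range u₀
  have hr : Set.range u.left = pullback.fst H.hom i '' Set.range u₀.left := by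
    ext y
    constructor
    · rintro ⟨x, rfl⟩
      obtain ⟨x₀, rfl⟩ := (pullback.fst G.hom i).surjective x
      exact ⟨_, ⟨x₀, rfl⟩, congrArg (fun f => f.base x₀) h1⟩
    · rintro ⟨_, ⟨x₀, rfl⟩, rfl⟩
      exact ⟨_, (congrArg (fun f => f.base x₀) h1).symm⟩
  rw [hr]
  exact (pullback.fst H.hom i).isClosedEmbedding.isClosedMap _ hc

/-- The schematic image of a quasi-compact homomorphism with flat kernel out of a flat group scheme over an
artinian local ring is a closed subgroup, flat over the base, onto which the homomorphism is faithfully flat. -/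
theorem exists_image [LocallyOfFiniteType G.hom] [LocallyOfFiniteType H.hom] [Flat G.hom] (u : G ⟶ H) [IsMonHom u]
    [QuasiCompact u.left] (hN : Flat (pullback.snd u.left η[H].left)) :
    ∃ (C : Over (Spec (CommRingCat.of A))) (_ : GrpObj C) (p : G ⟶ C) (i : C ⟶ H), IsMonHom p ∧ IsMonHom i ∧
      p ≫ i = u ∧ Flat p.left ∧ Surjective p.left ∧ LocallyOfFinitePresentation p.left ∧ IsClosedImmersion i.left ∧
      Flat C.hom := by
  let C : Over (Spec (CommRingCat.of A)) := Over.mk (u.left.imageι ≫ H.hom)
  let i : C ⟶ H := Over.homMk u.left.imageι rfl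
  let p : G ⟶ C := Over.homMk u.left.toImage (by
    show u.left.toImage ≫ u.left.imageι ≫ H.hom = G.hom
    rw [Scheme.Hom.toImage_imageι_assoc, Over.w u])
  have hpi : p ≫ i = u := Over.OverMorphism.ext u.left.toImage_imageι
  haveI : IsClosedImmersion i.left := inferInstanceAs (IsClosedImmersion u.left.imageι)
  haveI : IsSchemeTheoreticallyDominant p.left := Triage.SchDense.isSchemeTheoreticallyDominant_toImage u.left
  haveI : QuasiCompact p.left := by
    haveI : QuasiCompact (p.left ≫ i.left) := by rw [← Over.comp_left, hpi]; infer_instance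
    exact QuasiCompact.of_comp p.left i.left
  haveI : Mono i := (Over.forget _).mono_of_mono_map (inferInstanceAs (Mono i.left))
  haveI : LocallyOfFiniteType C.hom := inferInstanceAs (LocallyOfFiniteType (u.left.imageι ≫ H.hom))
  haveI : IsLocallyNoetherian C.left := LocallyOfFiniteType.isLocallyNoetherian C.hom
  haveI : LocallyOfFiniteType (p.left ≫ C.hom) := by rw [Over.w p]; infer_instance
  haveI : LocallyOfFiniteType p.left := locallyOfFiniteType_of_comp p.left C.hom
  haveI : LocallyOfFinitePresentation p.left := inferInstance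
  -- translations by `G` preserve the image
  have hif : i.left.ker = u.left.ker := by
    rw [← hpi, Over.comp_left, Scheme.Hom.ker_comp, p.left.ker_eq_bot, Scheme.IdealSheafData.map_bot]
  have hlift : ∀ {B : Over (Spec (CommRingCat.of A))} (d : B ⟶ H), i.left.ker ≤ d.left.ker → ∃ m : B ⟶ C, m ≫ i = d :=
    fun {B} d hd => ⟨Over.homMk (IsClosedImmersion.lift i.left d.left hd)
      (by rw [← Over.w i, ← Category.assoc, IsClosedImmersion.lift_fac]; exact Over.w d),
      Over.OverMorphism.ext (IsClosedImmersion.lift_fac _ _ _)⟩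
  have hl : ∀ B : Over (Spec (CommRingCat.of A)), Flat B.hom → IsSchemeTheoreticallyDominant (p ▷ B).left := fun B hB => by
    haveI := hB
    haveI : Flat (fst C B).left := inferInstanceAs (Flat (pullback.fst C.hom B.hom))
    exact IsSchemeTheoreticallyDominant.of_isPullback (f := p.left) (g := (fst C B).left)
      (GrpSchLib.isPullback_whiskerRight p B).flip
  have hr : ∀ B : Over (Spec (CommRingCat.of A)), Flat B.hom → IsSchemeTheoreticallyDominant (B ◁ p).left := fun B hB => by
    haveI := hl B hB
    have e : B ◁ p = (β_ B G).hom ≫ (p ▷ B) ≫ (β_ C B).hom := by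
      apply CartesianMonoidalCategory.hom_ext <;> simp
    haveI : IsIso (β_ B G).hom.left := ((Over.forget _).mapIso (β_ B G)).isIso_hom
    haveI : IsIso (β_ C B).hom.left := ((Over.forget _).mapIso (β_ C B)).isIso_hom
    rw [e, Over.comp_left, Over.comp_left]
    infer_instance
  obtain ⟨act, hact⟩ : ∃ act : G ⊗ C ⟶ C, act ≫ i = (fst G C ≫ u) * (snd G C ≫ i) := by
    refine hlift _ ?_
    set d : G ⊗ C ⟶ H := (fst G C ≫ u) * (snd G C ≫ i)
    haveI := hr G inferInstance
    have hd : (G ◁ p) ≫ d = (fst G G * snd G G) ≫ u := by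
      simp only [d, MonObj.comp_mul, MonObj.mul_comp]
      simp [hpi]
    have h2 : ((G ◁ p) ≫ d).left.ker = d.left.ker := by
      rw [Over.comp_left, Scheme.Hom.ker_comp, (G ◁ p).left.ker_eq_bot, Scheme.IdealSheafData.map_bot]
    rw [hif, ← h2, hd, Over.comp_left]
    exact Scheme.Hom.le_ker_comp _ _
  have hact' : ∀ {T : Over (Spec (CommRingCat.of A))} (g : T ⟶ G) (c : T ⟶ C),
      lift g c ≫ act ≫ i = (g ≫ u) * (c ≫ i) := fun g c => by
    rw [hact, MonObj.comp_mul]; simp
  let a : AlgGrp.Action G C :=
    { act := act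
      one_act := by
        rw [← cancel_mono i, Category.assoc, show η[G] ▷ C = lift (1 : 𝟙_ _ ⊗ C ⟶ G) (snd _ _) by
          apply CartesianMonoidalCategory.hom_ext <;> simp [Hom.one_def, toUnit_unique (fst (𝟙_ _) C) (toUnit _)],
          hact', MonObj.one_comp, _root_.one_mul, leftUnitor_hom]
      mul_act := by
        rw [← cancel_mono i, show μ[G] ▷ C = lift ((fst (G ⊗ G) C ≫ fst G G) * (fst (G ⊗ G) C ≫ snd G G)) (snd _ _) by
          apply CartesianMonoidalCategory.hom_ext <;> simp [Hom.mul_def, ← comp_lift], Category.assoc, hact']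
        have e : (α_ G G C).hom ≫ (G ◁ act) = lift (fst (G ⊗ G) C ≫ fst G G)
            (lift (fst (G ⊗ G) C ≫ snd G G) (snd (G ⊗ G) C) ≫ act) := by
          apply CartesianMonoidalCategory.hom_ext
          · simp
          · simp only [Category.assoc, whiskerLeft_snd, lift_snd]
            rw [← Category.assoc]
            congr 1
            apply CartesianMonoidalCategory.hom_ext <;> simp
        simp only [Category.assoc]
        rw [← Category.assoc (α_ G G C).hom, e]
        simp only [hact', MonObj.mul_comp, Category.assoc, _root_.mul_assoc] }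
  have heq : ∀ {T : Over (Spec (CommRingCat.of A))} (g h : T ⟶ G), lift g (h ≫ p) ≫ a.act = (g * h) ≫ p :=
    fun g h => by
      rw [← cancel_mono i, Category.assoc, hact', Category.assoc, Category.assoc, hpi, MonObj.mul_comp]
  -- flatness
  have hkp : Flat (pullback.fst p.left p.left) := by
    let N : Over (Spec (CommRingCat.of A)) := Over.mk (pullback.snd u.left η[H].left)
    let j : N ⟶ G := Over.homMk (pullback.fst u.left η[H].left) (by
      show pullback.fst u.left η[H].left ≫ G.hom = pullback.snd u.left η[H].left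
      rw [← Over.w u, reassoc_of% (pullback.condition (f := u.left) (g := η[H].left)), Over.w η[H]]
      exact Category.comp_id _)
    have hker : AlgGrp.IsKernel j u := by
      refine IsPullback.of_map (Over.forget _) (Over.OverMorphism.ext ?_) ?_
      · show pullback.fst u.left η[H].left ≫ u.left = (toUnit N).left ≫ η[H].left
        rw [pullback.condition, show (toUnit N).left = N.hom from (Category.comp_id _).symm.trans (Over.w (toUnit N))]
        rfl
      · show IsPullback (pullback.fst u.left η[H].left) (toUnit N).left u.left η[H].left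
        rw [show (toUnit N).left = N.hom from (Category.comp_id _).symm.trans (Over.w (toUnit N))]
        exact IsPullback.of_hasPullback _ _
    obtain ⟨q, hq, hqe⟩ := exists_kernelPair_iso j u hker
    haveI := hq
    haveI : Flat N.hom := hN
    haveI : Flat (pullback.snd N.hom G.hom) := inferInstance
    haveI : Flat (pullback.snd u.left u.left) := by
      rw [← IsIso.inv_hom_id_assoc q (pullback.snd u.left u.left), hqe]
      exact MorphismProperty.comp_mem @Flat _ _ inferInstance ‹Flat (pullback.snd N.hom G.hom)›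
    have hu : IsKernelPair (p.left ≫ i.left) (pullback.fst p.left p.left) (pullback.snd p.left p.left) :=
      IsKernelPair.comp_of_mono (IsPullback.of_hasPullback _ _)
    rw [← Over.comp_left, hpi] at hu
    haveI : Flat (pullback.fst u.left u.left) := by rw [← pullbackSymmetry_hom_comp_snd]; infer_instance
    rw [← hu.isoPullback_hom_fst]
    infer_instance
  haveI : Flat p.left := by
    haveI := hkp
    obtain ⟨x₀, hx₀⟩ := exists_flat_stalkMap p.left (p.left (η[G].left (IsLocalRing.closedPoint A)))
    refine Flat.of_stalkMap _ fun y => ?_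
    have hpt : Subsingleton ↥(Spec (CommRingCat.of A)) := ⟨fun a b => by
      obtain ⟨a₀, rfl⟩ := (ArtinClosedFibre.pt A).surjective a
      obtain ⟨b₀, rfl⟩ := (ArtinClosedFibre.pt A).surjective b
      rw [Subsingleton.elim (α := PrimeSpectrum (IsLocalRing.ResidueField A)) a₀ b₀]⟩
    exact Saturate.saturated a p heq Loci.compat_flatLocus ‹Flat G.hom› hx₀ (Subsingleton.elim _ _)
  haveI : Surjective p.left := by
    refine ⟨fun c => ?_⟩
    have hd : DenseRange p.left := DomHom.denseRange_of_ker_eq_bot p.left p.left.ker_eq_bot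
    have hcl : IsClosed (Set.range p.left) := by
      have e : Set.range p.left = i.left ⁻¹' Set.range u.left := by
        rw [← hpi, Over.comp_left, Scheme.Hom.comp_base, TopCat.coe_comp, Set.range_comp,
          Set.preimage_image_eq _ i.left.isClosedEmbedding.injective]
      rw [e]
      exact (isClosed_range u).preimage i.left.continuous
    exact hcl.closure_eq.subset (hd c)
  haveI : Flat C.hom := by
    refine Flat.of_stalkMap _ fun c => ?_
    obtain ⟨x, rfl⟩ := p.left.surjective c
    have h1 : ((p.left ≫ C.hom).stalkMap x).hom.Flat := by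
      haveI : Flat (p.left ≫ C.hom) := by rw [Over.w p]; infer_instance
      exact Flat.stalkMap _ x
    erw [Scheme.Hom.stalkMap_comp, CommRingCat.hom_comp] at h1
    exact Triage.CMMor.flat_of_comp (C.hom.stalkMap (p.left x)).hom (p.left.stalkMap x).hom (Flat.stalkMap _ x) h1
  -- the group structure
  let pp : G ⊗ G ⟶ C ⊗ C := (p ▷ G) ≫ (C ◁ p)
  have hpp : pp.left.ker = ⊥ := by
    haveI := hl G inferInstance
    haveI := hr C inferInstance
    haveI : IsSchemeTheoreticallyDominant pp.left := by simp only [pp, Over.comp_left]; infer_instance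
    exact pp.left.ker_eq_bot
  obtain ⟨m, hm⟩ : ∃ m : C ⊗ C ⟶ C, m ≫ i = (fst C C ≫ i) * (snd C C ≫ i) := by
    refine hlift _ ?_
    set d : C ⊗ C ⟶ H := (fst C C ≫ i) * (snd C C ≫ i)
    have hd : pp ≫ d = (fst G G * snd G G) ≫ u := by
      simp only [d, MonObj.comp_mul, MonObj.mul_comp]
      simp [pp, hpi]
    have h2 : (pp ≫ d).left.ker = d.left.ker := by
      rw [Over.comp_left, Scheme.Hom.ker_comp, hpp, Scheme.IdealSheafData.map_bot]
    rw [hif, ← h2, hd, Over.comp_left]
    exact Scheme.Hom.le_ker_comp _ _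
  obtain ⟨v, hv⟩ : ∃ v : C ⟶ C, v ≫ i = i⁻¹ := by
    refine hlift _ ?_
    have hd : p ≫ i⁻¹ = (GrpObj.inv : G ⟶ G) ≫ u := by
      rw [GrpObj.comp_inv, hpi, GrpObj.inv_hom u]; rfl
    have h2 : (p ≫ i⁻¹).left.ker = i⁻¹.left.ker := by
      rw [Over.comp_left, Scheme.Hom.ker_comp, p.left.ker_eq_bot, Scheme.IdealSheafData.map_bot]
    rw [hif, ← h2, hd, Over.comp_left]
    exact Scheme.Hom.le_ker_comp _ _
  obtain ⟨str, hi⟩ := exists_grpObj_of_mono i (η[G] ≫ p) (by rw [Category.assoc, hpi, IsMonHom.one_hom u]) m hm v hv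
  haveI := hi
  haveI hp : IsMonHom p :=
    { one_hom := by rw [← cancel_mono i, Category.assoc, hpi, IsMonHom.one_hom u, IsMonHom.one_hom i]
      mul_hom := by
        rw [← cancel_mono i, Category.assoc, hpi, IsMonHom.mul_hom u, Category.assoc, IsMonHom.mul_hom i,
          MonoidalCategory.tensorHom_comp_tensorHom_assoc, hpi] }
  exact ⟨C, str, p, i, hp, hi, hpi, inferInstance, inferInstance, inferInstance, inferInstance, inferInstance⟩

end Groth.Agent.GrpSchLib.ArtinImage
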