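import Groth.Agent.GrpSchLib.ComponentSpread
import Groth.Agent.MorLib.LimCons
import Mathlib.RingTheory.Extension.Presentation.Core

/-! Constructibility of the component through a section when its geometric fibres are irreducible. -/

set_option backward.isDefEq.respectTransparency false
set_option backward.isDefEq.respectTransparency.types false

universe u

open CategoryTheory Limits AlgebraicGeometry TopologicalSpace Topology TensorProduct

namespace Groth.Agent.GrpSchLib.ComponentCons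

open ComponentSpread

theorem section_comp {R A : Type u} [CommRing R] [CommRing A] [Algebra R A] (σ : A →ₐ[R] R) :
    Spec.map (CommRingCat.ofHom σ.toRingHom) ≫ Spec.map (CommRingCat.ofHom (algebraMap R A)) = 𝟙 _ := by
  rw [← Spec.map_comp, ← CommRingCat.ofHom_comp,
    show σ.toRingHom.comp (algebraMap R A) = RingHom.id R from σ.comp_algebraMap]
  exact Spec.map_id _

/-- The step at an irreducible closed subset of the model whose generic point comes from above. -/
theorem exists_open_step {R₀ A₀ : Type u} [CommRing R₀] [IsNoetherianRing R₀] [CommRing A₀] [Algebra R₀ A₀]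
    [Algebra.FiniteType R₀ A₀] (σ₀ : A₀ →ₐ[R₀] R₀) {R : Type u} [CommRing R] (ψ : R₀ →+* R)
    (hgood : ∀ (Ω : Type u) [Field Ω] [IsAlgClosed Ω] (a : Spec (CommRingCat.of Ω) ⟶ Spec (CommRingCat.of R)),
      GoodPt (Spec.map (CommRingCat.ofHom (algebraMap R₀ A₀))) (Spec.map (CommRingCat.ofHom σ₀.toRingHom))
        (section_comp σ₀) (a ≫ Spec.map (CommRingCat.ofHom ψ)))
    (y : Spec (CommRingCat.of R₀)) (hy : y ∈ Set.range (Spec.map (CommRingCat.ofHom ψ))) :
    ∃ (W : Set (Spec (CommRingCat.of R₀))) (Zc : Set (Spec (CommRingCat.of A₀))), IsOpen W ∧ IsClosed Zc ∧ y ∈ W ∧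
      ∀ x, Spec.map (CommRingCat.ofHom (algebraMap R₀ A₀)) x ∈ W →
        y ⤳ Spec.map (CommRingCat.ofHom (algebraMap R₀ A₀)) x →
        (x ∈ MoreMor.sectionComponents (Spec.map (CommRingCat.ofHom (algebraMap R₀ A₀)))
          (Spec.map (CommRingCat.ofHom σ₀.toRingHom)) ↔ x ∈ Zc) := by
  let p : Ideal R₀ := (show PrimeSpectrum R₀ from y).asIdeal
  haveI : p.IsPrime := (show PrimeSpectrum R₀ from y).2
  let R₁ := R₀ ⧸ p
  let A₁ := R₁ ⊗[R₀] A₀
  let σ₁ : A₁ →ₐ[R₁] R₁ :=
    Algebra.TensorProduct.lift (AlgHom.id R₁ R₁) ((Algebra.ofId R₀ R₁).comp σ₀) fun _ _ => Commute.all _ _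
  let j := Spec.map (CommRingCat.ofHom (algebraMap R₀ R₁))
  haveI : IsClosedImmersion j := IsClosedImmersion.spec_of_surjective _ Ideal.Quotient.mk_surjective
  let f₀ := Spec.map (CommRingCat.ofHom (algebraMap R₀ A₀))
  let f₁ := Spec.map (CommRingCat.ofHom (algebraMap R₁ A₁))
  let e₀ := Spec.map (CommRingCat.ofHom σ₀.toRingHom)
  let e₁ := Spec.map (CommRingCat.ofHom σ₁.toRingHom)
  let i : Spec (CommRingCat.of A₁) ⟶ Spec (CommRingCat.of A₀) :=
    Spec.map (CommRingCat.ofHom (Algebra.TensorProduct.includeRight (R := R₀) (A := R₁) (B := A₀)).toRingHom)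
  have sq : IsPullback i f₁ f₀ j :=
    (AlgebraicGeometry.isPullback_SpecMap_of_isPushout _ _ _ _
      (CommRingCat.isPushout_tensorProduct R₀ R₁ A₀)).flip
  have hc : e₁ ≫ i = j ≫ e₀ := by
    rw [← Spec.map_comp, ← Spec.map_comp, ← CommRingCat.ofHom_comp, ← CommRingCat.ofHom_comp]
    congr 2
    ext z
    show σ₁ ((1 : R₁) ⊗ₜ[R₀] z) = algebraMap R₀ R₁ (σ₀ z)
    rw [Algebra.TensorProduct.lift_tmul, map_one, one_mul]
    rfl
  obtain ⟨s, hs⟩ := hy
  let Ω := AlgebraicClosure (show PrimeSpectrum R from s).asIdeal.ResidueField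
  let χ : R →+* Ω := (algebraMap _ Ω).comp (algebraMap R (show PrimeSpectrum R from s).asIdeal.ResidueField)
  have hker : RingHom.ker (χ.comp ψ) = p := by
    rw [← RingHom.comap_ker, RingHom.ker_comp_of_injective _
      (algebraMap (show PrimeSpectrum R from s).asIdeal.ResidueField Ω).injective,
      Ideal.ker_algebraMap_residueField]
    exact congrArg PrimeSpectrum.asIdeal hs
  let χ₁ : R₁ →+* Ω := Ideal.Quotient.lift p (χ.comp ψ) fun z hz => by rwa [← RingHom.mem_ker, hker]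
  letI : Algebra R₁ Ω := χ₁.toAlgebra
  have hinj : Function.Injective (algebraMap R₁ Ω) := by
    rw [RingHom.injective_iff_ker_eq_bot, RingHom.algebraMap_toAlgebra, eq_bot_iff]
    rintro z hz
    obtain ⟨z, rfl⟩ := Ideal.Quotient.mk_surjective z
    rw [RingHom.mem_ker, Ideal.Quotient.lift_mk, ← RingHom.mem_ker, hker] at hz
    exact Ideal.Quotient.eq_zero_iff_mem.2 hz
  have hgood₁ : GoodPt f₁ e₁ (section_comp σ₁) (Spec.map (CommRingCat.ofHom (algebraMap R₁ Ω))) := by
    rw [goodPt_iff sq (section_comp σ₁) (section_comp σ₀) hc]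
    have h := hgood Ω (Spec.map (CommRingCat.ofHom χ))
    convert h using 1
    rw [← Spec.map_comp, ← Spec.map_comp]
    rfl
  haveI : IsNoetherianRing R₁ := inferInstance
  obtain ⟨U, Z, hU, hZ, hηU, hUZ⟩ := exists_nhd σ₁ hinj hgood₁
  obtain ⟨W, hW, rfl⟩ := j.isClosedEmbedding.isInducing.isOpen_iff.1 hU
  haveI : IsClosedImmersion i := MorphismProperty.of_isPullback sq.flip inferInstance
  refine ⟨W, i '' Z, hW, i.isClosedEmbedding.isClosedMap _ hZ, ?_, fun x hxW hyx => ?_⟩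
  · have h1 : j (⟨⊥, Ideal.bot_prime⟩ : PrimeSpectrum R₁) = y := by
      refine PrimeSpectrum.ext ?_
      show Ideal.comap (algebraMap R₀ R₁) ⊥ = p
      rw [← RingHom.ker_eq_comap_bot, Ideal.Quotient.algebraMap_eq, Ideal.mk_ker]
    rw [← h1]
    exact hηU
  obtain ⟨t₁, ht₁⟩ : f₀ x ∈ Set.range j := by
    show f₀ x ∈ Set.range (PrimeSpectrum.comap (algebraMap R₀ R₁))
    rw [range_comap_of_surjective _ _ (by exact Ideal.Quotient.mk_surjective),
      Ideal.Quotient.algebraMap_eq, Ideal.mk_ker]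
    exact (PrimeSpectrum.le_iff_specializes _ _).2 hyx
  obtain ⟨x₁, hx₁, hx₁'⟩ := Scheme.exists_preimage_of_isPullback sq x t₁ ht₁.symm
  have hmem : f₁ x₁ ∈ j ⁻¹' W := by
    show j (f₁ x₁) ∈ W
    rw [hx₁', ht₁]
    exact hxW
  have h1 := hUZ x₁ hmem
  rw [S1324.result f₀ e₀ (section_comp σ₀) f₁ i j sq e₁ (section_comp σ₁) hc] at h1
  rw [← hx₁]
  refine h1.trans ⟨fun h => ⟨x₁, h, rfl⟩, ?_⟩
  rintro ⟨z, hz, he⟩
  rwa [← i.isClosedEmbedding.injective he]

/-- A constructible set agreeing with the component over the image of the base. -/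
theorem exists_model_set {R₀ A₀ : Type u} [CommRing R₀] [IsNoetherianRing R₀] [CommRing A₀] [Algebra R₀ A₀]
    [Algebra.FiniteType R₀ A₀] (σ₀ : A₀ →ₐ[R₀] R₀) {R : Type u} [CommRing R] (ψ : R₀ →+* R)
    (hgood : ∀ (Ω : Type u) [Field Ω] [IsAlgClosed Ω] (a : Spec (CommRingCat.of Ω) ⟶ Spec (CommRingCat.of R)),
      GoodPt (Spec.map (CommRingCat.ofHom (algebraMap R₀ A₀))) (Spec.map (CommRingCat.ofHom σ₀.toRingHom))
        (section_comp σ₀) (a ≫ Spec.map (CommRingCat.ofHom ψ))) :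
    ∃ C : Set (Spec (CommRingCat.of A₀)), IsConstructible C ∧
      ∀ x, Spec.map (CommRingCat.ofHom (algebraMap R₀ A₀)) x ∈ Set.range (Spec.map (CommRingCat.ofHom ψ)) →
        (x ∈ MoreMor.sectionComponents (Spec.map (CommRingCat.ofHom (algebraMap R₀ A₀)))
          (Spec.map (CommRingCat.ofHom σ₀.toRingHom)) ↔ x ∈ C) := by
  classical
  let f₀ := Spec.map (CommRingCat.ofHom (algebraMap R₀ A₀))
  let π := Spec.map (CommRingCat.ofHom ψ)
  let E₀ := MoreMor.sectionComponents f₀ (Spec.map (CommRingCat.ofHom σ₀.toRingHom))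
  haveI : IsNoetherianRing A₀ := Algebra.FiniteType.isNoetherianRing R₀ A₀
  suffices H : ∀ Y : Set (Spec (CommRingCat.of R₀)), IsClosed Y →
      ∃ C : Set (Spec (CommRingCat.of A₀)), IsConstructible C ∧
        ∀ x, f₀ x ∈ Y → f₀ x ∈ Set.range π → (x ∈ E₀ ↔ x ∈ C) by
    obtain ⟨C, hC, h⟩ := H Set.univ isClosed_univ
    exact ⟨C, hC, fun x hx => h x trivial hx⟩
  intro Y hY
  refine SpecLib.irred_induction (P := fun Y => ∃ C : Set (Spec (CommRingCat.of A₀)), IsConstructible C ∧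
    ∀ x, f₀ x ∈ Y → f₀ x ∈ Set.range π → (x ∈ E₀ ↔ x ∈ C)) ?_ ?_ ?_ hY
  · exact ⟨∅, IsConstructible.empty, fun x h => h.elim⟩
  · rintro Y₁ Y₂ hY₁ hY₂ ⟨C₁, hC₁, h₁⟩ ⟨C₂, hC₂, h₂⟩
    refine ⟨(C₁ ∩ f₀ ⁻¹' Y₁) ∪ (C₂ \ f₀ ⁻¹' Y₁),
      (hC₁.inter (SpecLib.isConstructible_of_isClosed (hY₁.preimage f₀.continuous))).union
        (hC₂.sdiff (SpecLib.isConstructible_of_isClosed (hY₁.preimage f₀.continuous))), fun x hx hR => ?_⟩
    by_cases h : f₀ x ∈ Y₁
    · rw [h₁ x h hR]
      exact ⟨fun hc => Or.inl ⟨hc, h⟩, fun hc => hc.elim And.left fun hc => absurd h hc.2⟩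
    · rw [h₂ x (hx.resolve_left h) hR]
      exact ⟨fun hc => Or.inr ⟨hc, h⟩, fun hc => hc.elim (fun hc => absurd hc.2 h) And.left⟩
  · intro Y hY hirr ih
    have hgen := hirr.isGenericPoint_genericPoint hY
    let y := hirr.genericPoint
    by_cases hy : y ∈ Set.range π
    · obtain ⟨W, Zc, hW, hZc, hyW, hstep⟩ := exists_open_step σ₀ ψ hgood y hy
      obtain ⟨C', hC', h'⟩ := ih (Y ∩ Wᶜ) (hY.inter hW.isClosed_compl)
        (Set.inter_subset_left.ssubset_of_ne fun he => (he.ge hgen.mem).2 hyW)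
      refine ⟨(Zc ∩ f₀ ⁻¹' W) ∪ (C' \ f₀ ⁻¹' W),
        ((SpecLib.isConstructible_of_isClosed hZc).inter
          (SpecLib.isConstructible_of_isOpen (hW.preimage f₀.continuous))).union
          (hC'.sdiff (SpecLib.isConstructible_of_isOpen (hW.preimage f₀.continuous))), fun x hx hR => ?_⟩
      by_cases h : f₀ x ∈ W
      · rw [hstep x h (hgen.specializes hx)]
        exact ⟨fun hc => Or.inl ⟨hc, h⟩, fun hc => hc.elim And.left fun hc => absurd h hc.2⟩
      · rw [h' x ⟨hx, h⟩ hR]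
        exact ⟨fun hc => Or.inr ⟨hc, h⟩, fun hc => hc.elim (fun hc => absurd hc.2 h) And.left⟩
    · have hny : y ∉ closure (Y ∩ Set.range π) := fun hcl => by
        obtain ⟨z, hzY, hzy⟩ := ProConsLib.exists_specializes_of_mem_closure_image (E := π ⁻¹' Y)
          π.isSpectralMap (ProConsLib.consClosed_of_isClosed (hY.preimage π.continuous))
            (show y ∈ closure (π '' (π ⁻¹' Y)) by rwa [Set.image_preimage_eq_inter_range])
        exact hy ⟨z, (hzy.antisymm (hgen.specializes hzY)).eq⟩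
      obtain ⟨C', hC', h'⟩ := ih (closure (Y ∩ Set.range π)) isClosed_closure
        ((closure_minimal Set.inter_subset_left hY).ssubset_of_ne fun he => hny (he.ge hgen.mem))
      exact ⟨C', hC', fun x hx hR => h' x (subset_closure ⟨hx, hR⟩) hR⟩

/-- Constructibility, given a Noetherian model of the algebra and of the section. -/
theorem isConstructible_of_model {R₀ A₀ R A : Type u} [CommRing R₀] [IsNoetherianRing R₀] [CommRing A₀]
    [Algebra R₀ A₀] [Algebra.FiniteType R₀ A₀] [CommRing R] [CommRing A] [Algebra R A] [Algebra R₀ R]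
    (σ : A →ₐ[R] R) (σ₀ : A₀ →ₐ[R₀] R₀) (eq : R ⊗[R₀] A₀ ≃ₐ[R] A)
    (hσ : ∀ z, σ (eq (1 ⊗ₜ z)) = algebraMap R₀ R (σ₀ z))
    (hgood : ∀ (Ω : Type u) [Field Ω] [IsAlgClosed Ω] (a : Spec (CommRingCat.of Ω) ⟶ Spec (CommRingCat.of R)),
      GoodPt (Spec.map (CommRingCat.ofHom (algebraMap R A))) (Spec.map (CommRingCat.ofHom σ.toRingHom))
        (section_comp σ) a) :
    IsConstructible (MoreMor.sectionComponents (Spec.map (CommRingCat.ofHom (algebraMap R A)))
      (Spec.map (CommRingCat.ofHom σ.toRingHom))) := by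
  let g : A₀ →+* A := eq.toRingHom.comp (Algebra.TensorProduct.includeRight (R := R₀) (A := R) (B := A₀)).toRingHom
  let π := Spec.map (CommRingCat.ofHom (algebraMap R₀ R))
  let q := Spec.map (CommRingCat.ofHom g)
  let f := Spec.map (CommRingCat.ofHom (algebraMap R A))
  let f₀ := Spec.map (CommRingCat.ofHom (algebraMap R₀ A₀))
  let e := Spec.map (CommRingCat.ofHom σ.toRingHom)
  let e₀ := Spec.map (CommRingCat.ofHom σ₀.toRingHom)
  have sq : IsPullback q f f₀ π := by
    refine (AlgebraicGeometry.isPullback_SpecMap_of_isPushout _ _ _ _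
      ((CommRingCat.isPushout_tensorProduct R₀ R A₀).of_iso (Iso.refl _) (Iso.refl _) (Iso.refl _)
        eq.toRingEquiv.toCommRingCatIso ?_ ?_ ?_ ?_)).flip
    · simp
    · simp
    · ext r
      show eq (r ⊗ₜ[R₀] (1 : A₀)) = algebraMap R A r
      exact eq.commutes r
    · ext z
      rfl
  have hc : e ≫ q = π ≫ e₀ := by
    rw [← Spec.map_comp, ← Spec.map_comp, ← CommRingCat.ofHom_comp, ← CommRingCat.ofHom_comp]
    congr 2
    ext z
    exact hσ z
  have hg₀ : ∀ (Ω : Type u) [Field Ω] [IsAlgClosed Ω] (a : Spec (CommRingCat.of Ω) ⟶ Spec (CommRingCat.of R)),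
      GoodPt f₀ e₀ (section_comp σ₀) (a ≫ π) := fun Ω _ _ a =>
    (goodPt_iff sq (section_comp σ) (section_comp σ₀) hc a).1 (hgood Ω a)
  obtain ⟨C, hC, h⟩ := exists_model_set σ₀ (algebraMap R₀ R) hg₀
  have hE : MoreMor.sectionComponents f e = q ⁻¹' C := by
    rw [S1324.result f₀ e₀ (section_comp σ₀) f q π sq e (section_comp σ) hc]
    ext x
    exact h (q x) ⟨f x, congrArg (fun m : Spec (CommRingCat.of A) ⟶ _ => m x) sq.w.symm⟩
  rw [hE]
  exact MorLib.LimCons.isConstructible_preimage q hC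

/-- Constructibility, given a model over a subring containing the values of the section. -/
theorem isConstructible_of_subring {R A A₀ : Type u} [CommRing R] [CommRing A] [Algebra R A]
    (R₀ : Subalgebra ℤ R) [IsNoetherianRing R₀] [CommRing A₀] [Algebra R₀ A₀] [Algebra.FiniteType R₀ A₀]
    (σ : A →ₐ[R] R) (eq : R ⊗[R₀] A₀ ≃ₐ[R] A) (hτ : ∀ z : A₀, σ (eq (1 ⊗ₜ z)) ∈ R₀)
    (hgood : ∀ (Ω : Type u) [Field Ω] [IsAlgClosed Ω] (a : Spec (CommRingCat.of Ω) ⟶ Spec (CommRingCat.of R)),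
      GoodPt (Spec.map (CommRingCat.ofHom (algebraMap R A))) (Spec.map (CommRingCat.ofHom σ.toRingHom))
        (section_comp σ) a) :
    IsConstructible (MoreMor.sectionComponents (Spec.map (CommRingCat.ofHom (algebraMap R A)))
      (Spec.map (CommRingCat.ofHom σ.toRingHom))) := by
  let τ : A₀ →+* R := (σ.toRingHom.comp eq.toRingHom).comp
    (Algebra.TensorProduct.includeRight (R := R₀) (A := R) (B := A₀)).toRingHom
  let σ₀ : A₀ →ₐ[R₀] R₀ :=
    { toRingHom := τ.codRestrict R₀ hτ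
      commutes' := fun r => Subtype.ext (by
        show σ (eq ((1 : R) ⊗ₜ[R₀] algebraMap R₀ A₀ r)) = (r : R)
        rw [Algebra.algebraMap_eq_smul_one, ← TensorProduct.smul_tmul]
        show σ (eq ((r • (1 : R)) ⊗ₜ[R₀] (1 : A₀))) = (r : R)
        rw [show (r • (1 : R)) = (r : R) from mul_one _]
        exact (congrArg σ (eq.commutes _)).trans (σ.commutes _)) }
  exact isConstructible_of_model σ σ₀ eq (fun _ => rfl) hgood

/-- A model of finite type of an algebra and of its section over a subring with enough elements. -/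
theorem exists_model {R A R₀ ι κ : Type u} [CommRing R] [CommRing A] [Algebra R A] [CommRing R₀] [Algebra R₀ R]
    [Algebra R₀ A] [IsScalarTower R₀ R A] [Finite ι] [Finite κ] (P : Algebra.Presentation R A ι κ) [P.HasCoeffs R₀]
    (σ : A →ₐ[R] R) (hv : ∀ i, σ (P.val i) ∈ (algebraMap R₀ R).range) :
    ∃ (A₀ : Type u) (_ : CommRing A₀) (_ : Algebra R₀ A₀) (_ : Algebra.FiniteType R₀ A₀)
      (e : R ⊗[R₀] A₀ ≃ₐ[R] A), ∀ z, σ (e (1 ⊗ₜ z)) ∈ (algebraMap R₀ R).range := by
  refine ⟨P.ModelOfHasCoeffs R₀, inferInstance, inferInstance, inferInstance,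
    P.tensorModelOfHasCoeffsEquiv R₀, fun z => ?_⟩
  obtain ⟨z, rfl⟩ := Ideal.Quotient.mk_surjective z
  rw [Algebra.Presentation.tensorModelOfHasCoeffsEquiv_tmul, map_one, one_mul]
  induction z using MvPolynomial.induction_on with
  | C r =>
    rw [MvPolynomial.aeval_C, IsScalarTower.algebraMap_apply R₀ R A, AlgHom.commutes]
    exact ⟨r, rfl⟩
  | add a b ha hb => rw [map_add, map_add]; exact Subring.add_mem _ ha hb
  | mul_X a i ha =>
    rw [map_mul, map_mul, MvPolynomial.aeval_X]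
    exact Subring.mul_mem _ ha (hv i)

/-- Constructibility for algebras of finite presentation. -/
theorem isConstructible_of_algebra {R A : Type u} [CommRing R] [CommRing A] [Algebra R A]
    [Algebra.FinitePresentation R A] (σ : A →ₐ[R] R)
    (hgood : ∀ (Ω : Type u) [Field Ω] [IsAlgClosed Ω] (a : Spec (CommRingCat.of Ω) ⟶ Spec (CommRingCat.of R)),
      GoodPt (Spec.map (CommRingCat.ofHom (algebraMap R A))) (Spec.map (CommRingCat.ofHom σ.toRingHom))
        (section_comp σ) a) :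
    IsConstructible (MoreMor.sectionComponents (Spec.map (CommRingCat.ofHom (algebraMap R A)))
      (Spec.map (CommRingCat.ofHom σ.toRingHom))) := by
  obtain ⟨n, k, ⟨P⟩⟩ : ∃ n k, Nonempty (Algebra.Presentation R A (ULift.{u} (Fin n)) (ULift.{u} (Fin k))) :=
    ⟨_, _, ⟨(Algebra.Presentation.ofFinitePresentation R A).reindex Equiv.ulift Equiv.ulift⟩⟩
  let gens : Set R := P.coeffs ∪ Set.range fun i => σ (P.val i)
  let R₀ : Subalgebra ℤ R := Algebra.adjoin ℤ gens
  haveI : Algebra.FiniteType ℤ R₀ :=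
    .adjoin_of_finite (P.finite_coeffs.union (Set.finite_range _))
  haveI : IsNoetherianRing R₀ := Algebra.FiniteType.isNoetherianRing ℤ R₀
  haveI : P.HasCoeffs R₀ := ⟨fun z hz => ⟨⟨z, Algebra.subset_adjoin (Or.inl hz)⟩, rfl⟩⟩
  obtain ⟨A₀, _, _, _, e, he⟩ := exists_model (R₀ := R₀) P σ
    fun i => ⟨⟨σ (P.val i), Algebra.subset_adjoin (Or.inr ⟨i, rfl⟩)⟩, rfl⟩
  refine isConstructible_of_subring R₀ σ e (fun z => ?_) hgood
  obtain ⟨r, hr⟩ := he z
  exact hr ▸ r.2

theorem isConstructible_sectionComponents {X S : Scheme.{u}} [IsAffine X] [IsAffine S] (f : X ⟶ S)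
    [LocallyOfFinitePresentation f] (e : S ⟶ X) (he : e ≫ f = 𝟙 S)
    (hgood : ∀ (Ω : Type u) [Field Ω] [IsAlgClosed Ω] (a : Spec (CommRingCat.of Ω) ⟶ S), GoodPt f e he a) :
    IsConstructible (MoreMor.sectionComponents f e) := by
  let R : Type u := Γ(S, ⊤)
  let A : Type u := Γ(X, ⊤)
  letI : Algebra R A := f.appTop.hom.toAlgebra
  haveI : Algebra.FinitePresentation R A :=
    (HasRingHomProperty.iff_of_isAffine (P := @LocallyOfFinitePresentation)).1 inferInstance
  have hσ : f.appTop ≫ e.appTop = 𝟙 _ := by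
    rw [← Scheme.Hom.comp_appTop, he]
    rfl
  let σ : A →ₐ[R] R :=
    { toRingHom := e.appTop.hom, commutes' := fun r => congrArg (fun m : Γ(S, ⊤) ⟶ Γ(S, ⊤) => m r) hσ }
  let f' := Spec.map (CommRingCat.ofHom (algebraMap R A))
  let e' := Spec.map (CommRingCat.ofHom σ.toRingHom)
  have sq : IsPullback X.isoSpec.hom f f' S.isoSpec.hom :=
    IsPullback.of_horiz_isIso ⟨Scheme.isoSpec_hom_naturality f⟩
  have hc : e ≫ X.isoSpec.hom = S.isoSpec.hom ≫ e' := (Scheme.isoSpec_hom_naturality e).symm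
  have h := isConstructible_of_algebra σ fun Ω _ _ a => by
    have h1 := (goodPt_iff sq he (section_comp σ) hc (a ≫ S.isoSpec.inv)).1 (hgood Ω _)
    rw [Category.assoc, S.isoSpec.inv_hom_id] at h1
    erw [Category.comp_id] at h1
    exact h1
  rw [S1324.result f' e' (section_comp σ) f X.isoSpec.hom S.isoSpec.hom sq e he hc]
  exact MorLib.LimCons.isConstructible_preimage X.isoSpec.hom h

end Groth.Agent.GrpSchLib.ComponentCons
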