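import Groth.Agent.ArSurfBase.IrredSpread
import Groth.Agent.ConsPropLib.FibreTop
import Groth.Agent.GeomField.Field
import Groth.Agent.S1324
import Groth.Agent.SGA7X.SectionOpen
import Groth.Prelude.Def_MoreMor

/-! Spreading out a geometrically irreducible component through a section. -/

set_option backward.isDefEq.respectTransparency false
set_option backward.isDefEq.respectTransparency.types false

universe u

open CategoryTheory Limits AlgebraicGeometry TopologicalSpace Topology TensorProduct

namespace Groth.Agent.GrpSchLib.ComponentSpread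

/-- The section component over a field valued point is irreducible. -/
def GoodPt {X S : Scheme.{u}} (f : X ⟶ S) (e : S ⟶ X) (he : e ≫ f = 𝟙 S) {K : CommRingCat.{u}}
    (a : Spec K ⟶ S) : Prop :=
  IsIrreducible (MoreMor.sectionComponents (pullback.snd f a)
    (pullback.lift (a ≫ e) (𝟙 _) (by rw [Category.assoc, he, Category.comp_id, Category.id_comp])))

theorem goodPt_iff {X S X₀ S₀ : Scheme.{u}} {f : X ⟶ S} {f₀ : X₀ ⟶ S₀} {q : X ⟶ X₀} {π : S ⟶ S₀}
    (sq : IsPullback q f f₀ π) {e : S ⟶ X} (he : e ≫ f = 𝟙 S) {e₀ : S₀ ⟶ X₀} (he₀ : e₀ ≫ f₀ = 𝟙 S₀)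
    (hc : e ≫ q = π ≫ e₀) {K : CommRingCat.{u}} (a : Spec K ⟶ S) :
    GoodPt f e he a ↔ GoodPt f₀ e₀ he₀ (a ≫ π) := by
  have big := (IsPullback.of_hasPullback f a).paste_horiz sq
  let m := big.isoPullback
  have h1 : m.hom ≫ pullback.snd f₀ (a ≫ π) = pullback.snd f a := big.isoPullback_hom_snd
  have h2 : m.hom ≫ pullback.fst f₀ (a ≫ π) = pullback.fst f a ≫ q := big.isoPullback_hom_fst
  let eK : Spec K ⟶ pullback f a :=
    pullback.lift (a ≫ e) (𝟙 _) (by rw [Category.assoc, he, Category.comp_id, Category.id_comp])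
  let eK₀ : Spec K ⟶ pullback f₀ (a ≫ π) :=
    pullback.lift ((a ≫ π) ≫ e₀) (𝟙 _) (by rw [Category.assoc, he₀, Category.comp_id, Category.id_comp])
  have hm : eK ≫ m.hom = eK₀ := by
    apply pullback.hom_ext
    · rw [Category.assoc, h2, pullback.lift_fst, pullback.lift_fst_assoc, Category.assoc, hc, Category.assoc]
    · rw [Category.assoc, h1, pullback.lift_snd, pullback.lift_snd]
  have key := S1324.result (pullback.snd f₀ (a ≫ π)) eK₀ (pullback.lift_snd _ _ _) (pullback.snd f a) m.hom
    (𝟙 _) (IsPullback.of_horiz_isIso ⟨by rw [h1, Category.comp_id]⟩) eK (pullback.lift_snd _ _ _)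
    (by rw [hm, Category.id_comp])
  show IsIrreducible (MoreMor.sectionComponents (pullback.snd f a) eK) ↔
    IsIrreducible (MoreMor.sectionComponents (pullback.snd f₀ (a ≫ π)) eK₀)
  rw [key]
  constructor
  · intro h
    have := h.image _ m.hom.continuous.continuousOn
    rwa [Set.image_preimage_eq _ m.hom.surjective] at this
  · intro h
    have := h.image _ m.inv.continuous.continuousOn
    convert this using 1
    ext x
    constructor
    · intro hx
      exact ⟨m.hom x, hx, by rw [← Scheme.Hom.comp_apply, m.hom_inv_id]; rfl⟩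
    · rintro ⟨y, hy, rfl⟩
      show m.hom (m.inv y) ∈ MoreMor.sectionComponents (pullback.snd f₀ (a ≫ π)) eK₀
      rwa [← Scheme.Hom.comp_apply, m.inv_hom_id]

variable {R A : Type u} [CommRing R] [IsDomain R] [IsNoetherianRing R] [CommRing A] [Algebra R A]
  [Algebra.FiniteType R A] (σ : A →ₐ[R] R)

set_option maxHeartbeats 2000000 in
set_option synthInstance.maxHeartbeats 400000 in
/-- Near the generic point of the base the component through the section is the closure of its generic part. -/
theorem exists_nhd {Ω : Type u} [Field Ω] [IsAlgClosed Ω] [Algebra R Ω]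
    (hinj : Function.Injective (algebraMap R Ω))
    (hgood : GoodPt (Spec.map (CommRingCat.ofHom (algebraMap R A))) (Spec.map (CommRingCat.ofHom σ.toRingHom))
      (by rw [← Spec.map_comp, ← CommRingCat.ofHom_comp, show σ.toRingHom.comp (algebraMap R A) = RingHom.id R from σ.comp_algebraMap]; exact Spec.map_id _)
      (Spec.map (CommRingCat.ofHom (algebraMap R Ω)))) :
    ∃ (U : Set (Spec (CommRingCat.of R))) (Z : Set (Spec (CommRingCat.of A))), IsOpen U ∧ IsClosed Z ∧
      (⟨⊥, Ideal.bot_prime⟩ : PrimeSpectrum R) ∈ U ∧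
      ∀ x, Spec.map (CommRingCat.ofHom (algebraMap R A)) x ∈ U →
        (x ∈ MoreMor.sectionComponents (Spec.map (CommRingCat.ofHom (algebraMap R A)))
          (Spec.map (CommRingCat.ofHom σ.toRingHom)) ↔ x ∈ Z) := by
  classical
  let f := Spec.map (CommRingCat.ofHom (algebraMap R A))
  let e := Spec.map (CommRingCat.ofHom σ.toRingHom)
  let a := Spec.map (CommRingCat.ofHom (algebraMap R Ω))
  have hef : e ≫ f = 𝟙 _ := by
    rw [← Spec.map_comp, ← CommRingCat.ofHom_comp,
      show σ.toRingHom.comp (algebraMap R A) = RingHom.id R from σ.comp_algebraMap]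
    exact Spec.map_id _
  have hfe : ∀ t, f (e t) = t := fun t => congrArg (fun m : Spec (CommRingCat.of R) ⟶ _ => m t) hef
  haveI : LocallyOfFiniteType f := by
    rw [HasRingHomProperty.Spec_iff (P := @LocallyOfFiniteType)]
    exact RingHom.finiteType_algebraMap.2 inferInstance
  haveI : IsNoetherianRing A := Algebra.FiniteType.isNoetherianRing R A
  let η : Spec (CommRingCat.of R) := (⟨⊥, Ideal.bot_prime⟩ : PrimeSpectrum R)
  have hgen : ∀ t : Spec (CommRingCat.of R), η ⤳ t := fun t =>
    (PrimeSpectrum.le_iff_specializes _ _).1 bot_le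
  have hη : η = genericPoint (Spec (CommRingCat.of R)) :=
    ((hgen _).antisymm ((genericPoint_spec _).specializes (Set.mem_univ _))).eq
  have ha : ∀ z, a z = η := fun z => by
    refine PrimeSpectrum.ext ?_
    show Ideal.comap (algebraMap R Ω) z.asIdeal = ⊥
    rw [(Ideal.eq_bot_or_top z.asIdeal).resolve_right z.2.ne_top, ← RingHom.ker_eq_comap_bot,
      (RingHom.injective_iff_ker_eq_bot _).1 hinj]
  -- the fibre over the algebraically closed point
  let q := pullback.fst f a
  let eΩ : Spec (CommRingCat.of Ω) ⟶ pullback f a :=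
    pullback.lift (a ≫ e) (𝟙 _) (by rw [Category.assoc, hef, Category.comp_id, Category.id_comp])
  let CΩ := MoreMor.sectionComponents (pullback.snd f a) eΩ
  let E := MoreMor.sectionComponents f e
  have hCΩ : CΩ = q ⁻¹' E :=
    S1324.result f e hef (pullback.snd f a) q a (IsPullback.of_hasPullback f a) eΩ (pullback.lift_snd _ _ _)
      (pullback.lift_fst _ _ _)
  have hfq : ∀ z, f (q z) = η := fun z => by
    rw [← Scheme.Hom.comp_apply, pullback.condition, Scheme.Hom.comp_apply]
    exact ha _
  have hsurj : ∀ x, f x = η → ∃ z, q z = x := fun x hx => by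
    obtain ⟨z, hz, -⟩ := Scheme.Pullback.exists_preimage_pullback (f := f) (g := a) x
      (IsLocalRing.closedPoint Ω) (hx.trans (ha _).symm)
    exact ⟨z, hz⟩
  haveI : Subsingleton ↥(Spec (CommRingCat.of Ω)) := FibDim.subsingleton_spec_field Ω
  have hCcl : IsClosed CΩ := by
    let z₀ := eΩ (IsLocalRing.closedPoint Ω)
    have : CΩ = connectedComponent z₀ := by
      ext x
      show x ∈ connectedComponentIn (pullback.snd f a ⁻¹' {pullback.snd f a x}) (eΩ (pullback.snd f a x)) ↔ _
      have h1 : (pullback.snd f a ⁻¹' {pullback.snd f a x} : Set ↥(pullback f a)) = Set.univ :=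
        Set.eq_univ_of_forall fun z => (Subsingleton.elim _ _ : pullback.snd f a z = pullback.snd f a x)
      rw [h1, connectedComponentIn_univ, Subsingleton.elim (pullback.snd f a x) (IsLocalRing.closedPoint Ω)]
    rw [this]
    exact isClosed_connectedComponent
  have hirr : IsIrreducible CΩ := hgood
  let g := hirr.genericPoint
  have hg : ∀ z ∈ CΩ, g ⤳ z := fun z hz =>
    hirr.isGenericPoint_genericPoint_closure.specializes (subset_closure hz)
  have hgC : g ∈ CΩ := by
    have := hirr.isGenericPoint_genericPoint_closure.mem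
    rwa [hCcl.closure_eq] at this
  let ξ : Spec (CommRingCat.of A) := q g
  have hξη : f ξ = η := hfq g
  have hξE : ξ ∈ E := hCΩ.le hgC
  have hspec : ∀ x ∈ E, f x = η → ξ ⤳ x := fun x hx hxη => by
    obtain ⟨z, rfl⟩ := hsurj x hxη
    exact (hg z (hCΩ.ge hx)).map q.continuous
  have hE : ∀ x, f x = η → ξ ⤳ x → x ∈ E := fun x hx h =>
    SGA7X.SectionOpen.subset_sectionComponents f (T := {ξ, x})
      (isPreconnected_singleton.subset_closure (Set.singleton_subset_iff.2 (Set.mem_insert ξ _))
        (Set.insert_subset (subset_closure (Set.mem_singleton ξ))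
          (Set.singleton_subset_iff.2 (specializes_iff_mem_closure.1 h))))
      (Set.insert_subset hξη (Set.singleton_subset_iff.2 hx)) (Set.mem_insert ξ _) hξE
      (Set.mem_insert_of_mem _ rfl)
  -- the other components of the generic fibre
  let F := f.fiber η
  let ι := f.fiberι η
  haveI : LocallyOfFiniteType (f.fiberToSpecResidueField η) :=
    MorphismProperty.pullback_snd (P := @LocallyOfFiniteType) _ _ ‹_›
  haveI : IsLocallyNoetherian F := LocallyOfFiniteType.isLocallyNoetherian (f.fiberToSpecResidueField η)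
  haveI : QuasiCompact (f.fiberToSpecResidueField η) :=
    MorphismProperty.pullback_snd (P := @QuasiCompact) _ _ inferInstance
  haveI : CompactSpace F := QuasiCompact.compactSpace_of_compactSpace (f.fiberToSpecResidueField η)
  haveI : IsNoetherian F := {}
  have hιη : ∀ w, f (ι w) = η := FibDim.fiber_apply_fiberι f
  have hCc : IsClosed (ι ⁻¹' E)ᶜ := by
    have : (ι ⁻¹' E)ᶜ = ⋃ T ∈ {T ∈ irreducibleComponents F | T ⊆ (ι ⁻¹' E)ᶜ}, T := by
      refine Set.Subset.antisymm (fun w hw => ?_) (Set.iUnion₂_subset fun T hT => hT.2)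
      refine Set.mem_biUnion ⟨irreducibleComponent_mem_irreducibleComponents w, fun v hv hvE => hw ?_⟩
        mem_irreducibleComponent
      refine SGA7X.SectionOpen.subset_sectionComponents f
        ((isIrreducible_irreducibleComponent.image _ ι.continuous.continuousOn).2.isPreconnected)
        (s := η) ?_ ⟨v, hv, rfl⟩ hvE ⟨w, mem_irreducibleComponent, rfl⟩
      rintro _ ⟨u, -, rfl⟩
      exact hιη u
    rw [this]
    exact Set.Finite.isClosed_biUnion
      (NoetherianSpace.finite_irreducibleComponents.subset fun T hT => hT.1)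
      fun T hT => isClosed_of_mem_irreducibleComponents T hT.1
  let D := closure (ι '' (ι ⁻¹' E)ᶜ)
  have hD : ∀ x, f x = η → x ∈ D → x ∉ E := by
    intro x hx hxD
    obtain ⟨w, rfl⟩ : x ∈ Set.range ι := by rw [f.range_fiberι]; exact hx
    have : w ∈ closure (ι ⁻¹' E)ᶜ := by
      rw [ι.isEmbedding.isInducing.closure_eq_preimage_closure_image]
      exact hxD
    rwa [hCc.closure_eq] at this
  let Z : Set (Spec (CommRingCat.of A)) := closure {ξ}
  have hZD : ∀ x ∈ Z ∩ D, f x ≠ genericPoint (Spec (CommRingCat.of R)) := fun x hx h => by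
    rw [← hη] at h
    exact hD x h hx.2 (hE x h (specializes_iff_mem_closure.2 hx.1))
  have hcov : ∀ x ∈ (Z ∪ D)ᶜ, f x ≠ genericPoint (Spec (CommRingCat.of R)) := fun x hx h => by
    rw [← hη] at h
    by_cases hxE : x ∈ E
    · exact hx (Or.inl (hspec x hxE h).mem_closure)
    · obtain ⟨w, rfl⟩ : x ∈ Set.range ι := by rw [f.range_fiberι]; exact h
      exact hx (Or.inr (subset_closure ⟨w, hxE, rfl⟩))
  obtain ⟨U₁, hU₁, hηU₁, hU₁Z⟩ := ConsPropLib.image_avoid f
    (SpecLib.isConstructible_of_isClosed (isClosed_closure.inter isClosed_closure) :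
      IsConstructible (Z ∩ D)) hZD
  obtain ⟨U₂, hU₂, hηU₂, hU₂Z⟩ := ConsPropLib.image_avoid f
    (SpecLib.isConstructible_of_isOpen (isClosed_closure.union isClosed_closure).isOpen_compl :
      IsConstructible (Z ∪ D)ᶜ) hcov
  -- irreducibility of the fibres of the closure
  let Q : Ideal A := (show PrimeSpectrum A from ξ).asIdeal
  haveI : Q.IsPrime := (show PrimeSpectrum A from ξ).2
  let B := A ⧸ Q
  have hQ : Q.comap (algebraMap R A) = ⊥ := congrArg PrimeSpectrum.asIdeal hξη
  have hRB : Function.Injective (algebraMap R B) := by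
    rw [RingHom.injective_iff_ker_eq_bot, IsScalarTower.algebraMap_eq R A B, ← RingHom.comap_ker,
      Ideal.Quotient.algebraMap_eq, Ideal.mk_ker, hQ]
  let L := Q.ResidueField
  let K := FractionRing R
  have hRL : Function.Injective (algebraMap R L) := by
    rw [IsScalarTower.algebraMap_eq R B L]
    exact (IsFractionRing.injective B L).comp hRB
  letI : Algebra K L := (IsFractionRing.lift hRL).toAlgebra
  haveI : IsScalarTower R K L := IsScalarTower.of_algebraMap_eq fun r => (IsFractionRing.lift_algebraMap hRL r).symm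
  letI : Algebra K Ω := (IsFractionRing.lift hinj).toAlgebra
  haveI : IsScalarTower R K Ω := IsScalarTower.of_algebraMap_eq fun r => (IsFractionRing.lift_algebraMap hinj r).symm
  let l : Spec (CommRingCat.of L) ⟶ Spec (CommRingCat.of A) := Spec.map (CommRingCat.ofHom (algebraMap A L))
  haveI : IsPreimmersion l := by
    have : l = Spec.map (CommRingCat.ofHom (algebraMap B L)) ≫ Spec.map (CommRingCat.ofHom (algebraMap A B)) := by
      rw [← Spec.map_comp, ← CommRingCat.ofHom_comp, ← IsScalarTower.algebraMap_eq]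
    rw [this]
    haveI : IsPreimmersion (Spec.map (CommRingCat.ofHom (algebraMap B L))) :=
      IsPreimmersion.of_isLocalization (nonZeroDivisors B)
    haveI : IsClosedImmersion (Spec.map (CommRingCat.ofHom (algebraMap A B))) :=
      IsClosedImmersion.spec_of_surjective _ Ideal.Quotient.mk_surjective
    infer_instance
  have hl : ∀ z, l z = ξ := fun z => by
    refine PrimeSpectrum.ext ?_
    show Ideal.comap (algebraMap A L) z.asIdeal = Q
    rw [(Ideal.eq_bot_or_top z.asIdeal).resolve_right z.2.ne_top, ← RingHom.ker_eq_comap_bot]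
    exact Ideal.ker_algebraMap_residueField Q
  have hlf : l ≫ f = Spec.map (CommRingCat.ofHom (algebraMap R L)) := by
    rw [← Spec.map_comp, ← CommRingCat.ofHom_comp, ← IsScalarTower.algebraMap_eq]
  let M : pullback (l ≫ f) a ⟶ pullback f a :=
    pullback.map (l ≫ f) a f a l (𝟙 _) (𝟙 _) (Category.comp_id _) (by simp)
  haveI : IsPreimmersion M := by
    have sq : IsPullback (pullback.fst (l ≫ f) a) M l q := by
      refine (IsPullback.of_right (h₁₁ := M) (h₁₂ := pullback.snd f a) (h₂₁ := l) (h₂₂ := f)
        (v₁₁ := pullback.fst (l ≫ f) a) (v₁₂ := q) (v₁₃ := a) ?_ (pullback.lift_fst _ _ _)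
        (IsPullback.of_hasPullback f a).flip).flip
      have : M ≫ pullback.snd f a = pullback.snd (l ≫ f) a :=
        (pullback.lift_snd _ _ _).trans (Category.comp_id _)
      rw [this]
      exact (IsPullback.of_hasPullback (l ≫ f) a).flip
    exact MorphismProperty.of_isPullback sq inferInstance
  have hMq : ∀ w, q (M w) = ξ := fun w => by
    rw [← Scheme.Hom.comp_apply, pullback.lift_fst, Scheme.Hom.comp_apply]
    exact hl _
  obtain ⟨w₀, hw₀⟩ : g ∈ Set.range M := by
    rw [Scheme.Pullback.range_map]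
    exact ⟨⟨IsLocalRing.closedPoint L, hl _⟩, ⟨_, rfl⟩⟩
  haveI : IrreducibleSpace ↥(pullback (l ≫ f) a) := by
    have h : closure {w₀} = (Set.univ : Set ↥(pullback (l ≫ f) a)) := Set.eq_univ_of_forall fun w => by
      refine specializes_iff_mem_closure.1 (M.isEmbedding.isInducing.specializes_iff.1 ?_)
      rw [hw₀]
      exact hg _ (hCΩ.ge (show q (M w) ∈ E from (hMq w).symm ▸ hξE))
    refine (irreducibleSpace_def _).2 ?_
    show IsIrreducible (Set.univ : Set ↥(pullback (l ≫ f) a))
    rw [← h]
    exact isIrreducible_singleton.closure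
  haveI : IrreducibleSpace (PrimeSpectrum (L ⊗[R] Ω)) := by
    have iso : pullback (l ≫ f) a ≅ Spec (CommRingCat.of (L ⊗[R] Ω)) :=
      pullback.congrHom hlf rfl ≪≫ pullbackSpecIso R L Ω
    exact iso.hom.homeomorph.surjective.irreducibleSpace iso.hom.homeomorph.continuous
  have hsep : ∀ x : L, IsSeparable K x → x ∈ Set.range (algebraMap K L) := fun x hx => by
    haveI := IntermediateField.adjoin.finiteDimensional hx.isIntegral
    haveI := IsLocalization.tensorProduct_compatibleSMul (nonZeroDivisors R) K L Ω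
    let c := (Algebra.TensorProduct.equivOfCompatibleSMul R K L L Ω).toRingEquiv
    refine GeomField.mem_range_of_irreducibleSpace_tensor L hx Ω IsAlgClosed.lift ?_
    first
      | exact (PrimeSpectrum.homeomorphOfRingEquiv c).irreducibleSpace_iff.mp inferInstance
      | exact (PrimeSpectrum.homeomorphOfRingEquiv c.symm).irreducibleSpace_iff.mp inferInstance
  obtain ⟨r, hr, hfib⟩ := ArSurfBase.IrredSpread.exists_irreducible_fibres hRB K L hsep
  refine ⟨U₁ ∩ U₂ ∩ (PrimeSpectrum.basicOpen r : Set (PrimeSpectrum R)), Z,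
    (hU₁.inter hU₂).inter (PrimeSpectrum.basicOpen r).2, isClosed_closure,
    ⟨⟨show η ∈ U₁ by rw [hη]; exact hηU₁, show η ∈ U₂ by rw [hη]; exact hηU₂⟩, fun h => hr ((Submodule.mem_bot R).1 h)⟩, fun x hx => ?_⟩
  let t := f x
  obtain ⟨⟨ht₁, ht₂⟩, htr⟩ := hx
  have het : e t ∈ Z := by
    have h1 : ξ ⤳ e η := hspec _ (by
      show e η ∈ connectedComponentIn (f ⁻¹' {f (e η)}) (e (f (e η)))
      rw [hfe]
      exact mem_connectedComponentIn (hfe η)) (hfe η)
    exact (h1.trans ((hgen t).map e.continuous)).mem_closure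
  have hconn : _root_.IsPreconnected (Z ∩ f ⁻¹' {t}) := by
    refine isPreconnected_of_forall (e t) fun y ⟨hyZ, hyt⟩ => ?_
    have hyQ : Q ≤ (show PrimeSpectrum A from y).asIdeal :=
      (PrimeSpectrum.le_iff_specializes _ _).2 (specializes_iff_mem_closure.2 hyZ)
    have heQ : Q ≤ (show PrimeSpectrum A from e t).asIdeal :=
      (PrimeSpectrum.le_iff_specializes _ _).2 (specializes_iff_mem_closure.2 het)
    let P : Ideal B := (show PrimeSpectrum A from y).asIdeal.map (Ideal.Quotient.mk Q)
    let P' : Ideal B := (show PrimeSpectrum A from e t).asIdeal.map (Ideal.Quotient.mk Q)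
    haveI : P.IsPrime := Ideal.map_isPrime_of_surjective Ideal.Quotient.mk_surjective (by rwa [Ideal.mk_ker])
    haveI : P'.IsPrime := Ideal.map_isPrime_of_surjective Ideal.Quotient.mk_surjective (by rwa [Ideal.mk_ker])
    have hPc : P.comap (algebraMap A B) = (show PrimeSpectrum A from y).asIdeal := by
      rw [Ideal.Quotient.algebraMap_eq, Ideal.comap_map_of_surjective' _ Ideal.Quotient.mk_surjective,
        Ideal.mk_ker, sup_eq_left.2 hyQ]
    have hPc' : P'.comap (algebraMap A B) = (show PrimeSpectrum A from e t).asIdeal := by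
      rw [Ideal.Quotient.algebraMap_eq, Ideal.comap_map_of_surjective' _ Ideal.Quotient.mk_surjective,
        Ideal.mk_ker, sup_eq_left.2 heQ]
    have hR : ∀ I : Ideal B, I.comap (algebraMap R B) = (I.comap (algebraMap A B)).comap (algebraMap R A) :=
      fun I => by rw [Ideal.comap_comap, ← IsScalarTower.algebraMap_eq]
    have hyt' : (show PrimeSpectrum A from y).asIdeal.comap (algebraMap R A) = (show PrimeSpectrum R from t).asIdeal :=
      congrArg PrimeSpectrum.asIdeal (show f y = t from hyt)
    have het' : (show PrimeSpectrum A from e t).asIdeal.comap (algebraMap R A) = (show PrimeSpectrum R from t).asIdeal :=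
      congrArg PrimeSpectrum.asIdeal (hfe t)
    obtain ⟨P₀, hP₀, hP₀t, hle, hle'⟩ := hfib P P' (by rw [hR, hR, hPc, hPc', hyt', het'])
      (by rw [hR, hPc, hyt']; exact htr)
    let w : Spec (CommRingCat.of A) := (⟨P₀.comap (algebraMap A B), Ideal.IsPrime.comap _⟩ : PrimeSpectrum A)
    have hwy : w ⤳ y := (PrimeSpectrum.le_iff_specializes _ _).1 ((Ideal.comap_mono hle).trans_eq hPc : P₀.comap (algebraMap A B) ≤ (show PrimeSpectrum A from y).asIdeal)
    have hwe : w ⤳ e t := (PrimeSpectrum.le_iff_specializes _ _).1 ((Ideal.comap_mono hle').trans_eq hPc' : P₀.comap (algebraMap A B) ≤ (show PrimeSpectrum A from e t).asIdeal)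
    have hwZ : w ∈ Z := ((PrimeSpectrum.le_iff_specializes _ _).1 (show Q ≤ P₀.comap (algebraMap A B) from
      fun z hz => by
        show algebraMap A B z ∈ P₀
        rw [Ideal.Quotient.algebraMap_eq, Ideal.Quotient.eq_zero_iff_mem.2 hz]
        exact P₀.zero_mem)).mem_closure
    have hwt : f w = t := PrimeSpectrum.ext (by
      show (P₀.comap (algebraMap A B)).comap (algebraMap R A) = _
      rw [← hR, hP₀t, hR, hPc, hyt'])
    refine ⟨{w, e t, y}, ?_, by simp, by simp, ?_⟩
    · rintro v (rfl | rfl | rfl)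
      · exact ⟨hwZ, hwt⟩
      · exact ⟨het, hfe t⟩
      · exact ⟨hyZ, hyt⟩
    · exact isPreconnected_singleton.subset_closure (Set.singleton_subset_iff.2 (Set.mem_insert w _))
        (Set.insert_subset (subset_closure (Set.mem_singleton w))
          (Set.insert_subset hwe.mem_closure (Set.singleton_subset_iff.2 hwy.mem_closure)))
  constructor
  · intro hxE
    have hC : connectedComponentIn (f ⁻¹' {t}) (e t) ⊆ Z := by
      intro y hy
      have hsub : connectedComponentIn (f ⁻¹' {t}) (e t) ⊆ Z ∪ D := fun v hv => by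
        by_contra h
        have : f v = t := connectedComponentIn_subset (f ⁻¹' {t}) _ hv
        exact hU₂Z v h (this ▸ ht₂)
      by_contra hyZ
      obtain ⟨v, hv, hvZ, hvD⟩ := isPreconnected_closed_iff.1
        (isPreconnected_connectedComponentIn (F := f ⁻¹' {t}) (x := e t)) Z D isClosed_closure isClosed_closure
        hsub ⟨e t, mem_connectedComponentIn (hfe t), het⟩ ⟨y, hy, (hsub hy).resolve_left hyZ⟩
      have : f v = t := connectedComponentIn_subset (f ⁻¹' {t}) _ hv
      exact hU₁Z v ⟨hvZ, hvD⟩ (this ▸ ht₁)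
    exact hC hxE
  · intro hxZ
    show x ∈ connectedComponentIn (f ⁻¹' {f x}) (e (f x))
    exact hconn.subset_connectedComponentIn ⟨het, hfe t⟩ Set.inter_subset_right ⟨hxZ, rfl⟩

end Groth.Agent.GrpSchLib.ComponentSpread
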