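import Groth.Agent.GrpSchLib.RedSubgroup
import Groth.Agent.GrpSchLib.HomFlatLft
import Groth.Agent.GrpSchLib.FieldTop
import Groth.Agent.GrpSchLib.HomClosedRange
import Groth.Agent.GrpSchLib.AntiAffineHom
import Groth.Agent.QCoh.ProperOver
import Groth.Agent.EtFound.Descent

/-! A homomorphism with proper kernel pair is proper. -/

universe u

open CategoryTheory Limits AlgebraicGeometry MonoidalCategory CartesianMonoidalCategory MonObj GrpObj

namespace Groth.Agent.GrpSchLib.HomProper

variable {k : Type u} [Field k] {G H : Over (Spec (CommRingCat.of k))} [GrpObj G] [GrpObj H]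
  [LocallyOfFiniteType G.hom] [LocallyOfFiniteType H.hom]

/-- The reduced image of a homomorphism with closed range is a subgroup. -/
theorem exists_red_image [PerfectField k] (u : G ⟶ H) [IsMonHom u] (hcl : IsClosed (Set.range u.left)) :
    ∃ (Z : Over (Spec (CommRingCat.of k))) (_ : GrpObj Z) (j : Z ⟶ H), IsMonHom j ∧ IsClosedImmersion j.left ∧
      IsReduced Z.left ∧ LocallyOfFiniteType Z.hom ∧ Set.range j.left = Set.range u.left ∧
      ∀ (T : Over (Spec (CommRingCat.of k))) (_ : IsReduced T.left) (f : T ⟶ H),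
        Set.range f.left ⊆ Set.range u.left → ∃ g : T ⟶ Z, g ≫ j = f := by
  let I := Scheme.IdealSheafData.vanishingIdeal ⟨_, hcl⟩
  let Z : Over (Spec (CommRingCat.of k)) := Over.mk (I.subschemeι ≫ H.hom)
  let j : Z ⟶ H := Over.homMk I.subschemeι rfl
  haveI : IsReduced Z.left := H23.RedSub.isReduced_vanishingIdeal _
  haveI : IsClosedImmersion j.left := inferInstanceAs (IsClosedImmersion I.subschemeι)
  have hr : Set.range j.left = Set.range u.left :=
    (Scheme.IdealSheafData.range_subschemeι _).trans (Scheme.IdealSheafData.coe_support_vanishingIdeal _)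
  haveI : Mono j.left := inferInstance
  haveI : Mono j := (Over.forget _).mono_of_mono_map (inferInstanceAs (Mono j.left))
  haveI : IsReduced (Z ⊗ Z).left := isReduced_pullback_of_perfectField Z.hom Z.hom
  haveI : IsReduced (𝟙_ (Over (Spec (CommRingCat.of k)))).left := inferInstanceAs (IsReduced (Spec (CommRingCat.of k)))
  have hl : ∀ (T : Over (Spec (CommRingCat.of k))) (_ : IsReduced T.left) (f : T ⟶ H),
      Set.range f.left ⊆ Set.range u.left → ∃ g : T ⟶ Z, g ≫ j = f := by
    intro T _ f hf
    obtain ⟨g, hg⟩ := H23.RedSub.exists_lift_closed f.left j.left (hr ▸ hf)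
    exact ⟨Over.homMk g (by rw [← Over.w j, reassoc_of% hg, Over.w f]), Over.OverMorphism.ext hg⟩
  obtain ⟨e, he⟩ := hl _ inferInstance η[H] (by
    rintro _ ⟨z, rfl⟩
    exact ⟨η[G].left z, by rw [← Scheme.Hom.comp_apply, ← Over.comp_left, IsMonHom.one_hom u]⟩)
  obtain ⟨m, hm⟩ := hl _ inferInstance ((fst Z Z ≫ j) * (snd Z Z ≫ j)) (by
    have e1 : (fst Z Z ≫ j) * (snd Z Z ≫ j) = (j ⊗ₘ j) ≫ μ[H] := by
      rw [Hom.mul_def]
      congr 1
    rintro _ ⟨z, rfl⟩
    rw [e1, Over.comp_left, Scheme.Hom.comp_apply]
    have hz : (j ⊗ₘ j).left z ∈ Set.range (u ⊗ₘ u).left := by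
      rw [range_tensorHom, ← hr, ← range_tensorHom]
      exact ⟨z, rfl⟩
    obtain ⟨w, hw⟩ := hz
    rw [← hw, ← Scheme.Hom.comp_apply, ← Over.comp_left, ← IsMonHom.mul_hom u, Over.comp_left, Scheme.Hom.comp_apply]
    exact ⟨_, rfl⟩)
  obtain ⟨v, hv⟩ := hl _ inferInstance j⁻¹ (by
    rintro _ ⟨z, rfl⟩
    obtain ⟨x, hx⟩ : j.left z ∈ Set.range u.left := hr ▸ ⟨z, rfl⟩
    refine ⟨(GrpObj.inv : G ⟶ G).left x, ?_⟩
    rw [show j⁻¹ = j ≫ (GrpObj.inv : H ⟶ H) from rfl, Over.comp_left, Scheme.Hom.comp_apply, ← hx,
      ← Scheme.Hom.comp_apply, ← Over.comp_left, ← Scheme.Hom.comp_apply, ← Over.comp_left]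
    rw [show u ≫ (GrpObj.inv : H ⟶ H) = (GrpObj.inv : G ⟶ G) ≫ u from
      (GrpObj.inv_hom u).symm])
  obtain ⟨str, hi⟩ := exists_grpObj_of_mono j e he m hm v hv
  exact ⟨Z, str, j, hi, inferInstance, inferInstance,
    inferInstanceAs (LocallyOfFiniteType (I.subschemeι ≫ H.hom)), hr, hl⟩

/-- Over an algebraically closed field. -/
theorem isProper_algClosed [IsAlgClosed k] (u : G ⟶ H) [IsMonHom u] [QuasiCompact u.left]
    (h : IsProper (pullback.snd u.left u.left)) : IsProper u.left := by
  haveI : LocallyOfFiniteType u.left := by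
    haveI : LocallyOfFiniteType (u.left ≫ H.hom) := by rw [Over.w u]; infer_instance
    exact locallyOfFiniteType_of_comp u.left H.hom
  haveI : IsMonHom (𝟙 G) := inferInstance
  obtain ⟨G₀, _, i, _, _, _, _, hri, -⟩ := exists_red_image (𝟙 G) (by simp)
  haveI : Surjective i.left := ⟨fun x => hri.ge ⟨x, by simp⟩⟩
  obtain ⟨Z, _, j, _, _, _, _, hrj, hl⟩ := exists_red_image u (HomClosedRange.isClosed_range u)
  obtain ⟨q, hq⟩ := hl G₀ inferInstance (i ≫ u) (by
    rintro _ ⟨z, rfl⟩
    exact ⟨i.left z, by rw [← Scheme.Hom.comp_apply, ← Over.comp_left]⟩)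
  haveI : Mono j.left := inferInstance
  haveI : Mono j := (Over.forget _).mono_of_mono_map (inferInstanceAs (Mono j.left))
  haveI : IsMonHom q :=
    ⟨by rw [← cancel_mono j, Category.assoc, hq, IsMonHom.one_hom (i ≫ u), IsMonHom.one_hom j],
      by rw [← cancel_mono j, Category.assoc, hq, IsMonHom.mul_hom (i ≫ u), Category.assoc, IsMonHom.mul_hom j,
        tensorHom_comp_tensorHom_assoc, hq]⟩
  have hq' : q.left ≫ j.left = i.left ≫ u.left := congrArg CommaMorphism.left hq
  haveI : Surjective q.left := ⟨fun z => by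
    obtain ⟨x, hx⟩ : j.left z ∈ Set.range u.left := hrj ▸ ⟨z, rfl⟩
    obtain ⟨x₀, rfl⟩ := i.left.surjective x
    refine ⟨x₀, j.left.isClosedEmbedding.injective ?_⟩
    rw [← Scheme.Hom.comp_apply, hq', Scheme.Hom.comp_apply, hx]⟩
  haveI : Flat q.left := HomFlatLft.flat_algClosed q
  haveI : QuasiCompact (q.left ≫ j.left) := by rw [hq']; infer_instance
  haveI : QuasiCompact q.left := QuasiCompact.of_comp q.left j.left
  have hP : IsProper (pullback.snd q.left q.left) := by
    let l : pullback q.left q.left ⟶ pullback (i.left ≫ u.left) (i.left ≫ u.left) :=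
      pullback.lift (pullback.fst _ _) (pullback.snd _ _)
        (by rw [← hq', pullback.condition_assoc])
    haveI : IsIso l := by
      let l' : pullback (i.left ≫ u.left) (i.left ≫ u.left) ⟶ pullback q.left q.left :=
        pullback.lift (pullback.fst _ _) (pullback.snd _ _)
          ((cancel_mono j.left).1 (by simp only [Category.assoc, hq']; exact pullback.condition))
      refine ⟨l', ?_, ?_⟩ <;> apply pullback.hom_ext
      · rw [Category.assoc, show l' ≫ pullback.fst _ _ = _ from pullback.lift_fst _ _ _,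
          show l ≫ pullback.fst _ _ = _ from pullback.lift_fst _ _ _, Category.id_comp]
      · rw [Category.assoc, show l' ≫ pullback.snd _ _ = _ from pullback.lift_snd _ _ _,
          show l ≫ pullback.snd _ _ = _ from pullback.lift_snd _ _ _, Category.id_comp]
      · rw [Category.assoc, show l ≫ pullback.fst _ _ = _ from pullback.lift_fst _ _ _,
          show l' ≫ pullback.fst _ _ = _ from pullback.lift_fst _ _ _, Category.id_comp]
      · rw [Category.assoc, show l ≫ pullback.snd _ _ = _ from pullback.lift_snd _ _ _,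
          show l' ≫ pullback.snd _ _ = _ from pullback.lift_snd _ _ _, Category.id_comp]
    have hsnd : pullback.snd q.left q.left = l ≫ pullback.snd (i.left ≫ u.left) (i.left ≫ u.left) :=
      (pullback.lift_snd _ _ _).symm
    let p := pullback.map (i.left ≫ u.left) (i.left ≫ u.left) u.left (i.left ≫ u.left) i.left (𝟙 _) (𝟙 _)
      (by simp) (by simp)
    haveI : IsClosedImmersion p := by
      refine MorphismProperty.of_isPullback (P := @IsClosedImmersion) (IsPullback.of_bot
        (h₁₁ := pullback.fst (i.left ≫ u.left) (i.left ≫ u.left)) (v₁₂ := i.left) ?_ ?_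
        (IsPullback.of_hasPullback u.left (i.left ≫ u.left))) (inferInstance : IsClosedImmersion i.left)
      · rw [show p ≫ pullback.snd _ _ = _ from pullback.lift_snd _ _ _, Category.comp_id]
        exact IsPullback.of_hasPullback _ _
      · exact (pullback.lift_fst _ _ _).symm
    have hp : pullback.snd (i.left ≫ u.left) (i.left ≫ u.left) = p ≫ pullback.snd u.left (i.left ≫ u.left) := by
      rw [show p ≫ pullback.snd _ _ = _ from pullback.lift_snd _ _ _, Category.comp_id]
    haveI : IsProper (pullback.snd u.left (i.left ≫ u.left)) := by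
      let c := pullback.map u.left (i.left ≫ u.left) u.left u.left (𝟙 _) i.left (𝟙 _) (by simp) (by simp)
      have hc : IsPullback c (pullback.snd u.left (i.left ≫ u.left)) (pullback.snd u.left u.left) i.left := by
        refine IsPullback.of_right ?_ (pullback.lift_snd _ _ _) (IsPullback.of_hasPullback u.left u.left)
        rw [show c ≫ pullback.fst _ _ = pullback.fst u.left (i.left ≫ u.left) from
          (pullback.lift_fst _ _ _).trans (Category.comp_id _)]
        exact IsPullback.of_hasPullback _ _
      exact MorphismProperty.of_isPullback hc h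
    rw [hsnd, hp]
    infer_instance
  haveI := EtFound.fpqc_isProper.{u}
  haveI : IsProper q.left := MorphismProperty.of_isPullback_of_descendsAlong
    (P := @IsProper) (Q := (@Surjective ⊓ @Flat ⊓ @QuasiCompact : MorphismProperty Scheme.{u}))
    (IsPullback.of_hasPullback q.left q.left).flip
    ⟨⟨‹_›, ‹_›⟩, ‹_›⟩ hP
  haveI : IsProper (i.left ≫ u.left) := hq' ▸ inferInstanceAs (IsProper (q.left ≫ j.left))
  exact QCoh.isProper_of_comp_surjective i.left u.left

/-- Over any field. -/
theorem isProper (u : G ⟶ H) [IsMonHom u] [QuasiCompact u.left]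
    (h : IsProper (pullback.snd u.left u.left)) : IsProper u.left := by
  let K := AlgebraicClosure k
  let σ : Spec (CommRingCat.of K) ⟶ Spec (CommRingCat.of k) := Spec.map (CommRingCat.ofHom (algebraMap k K))
  haveI : Flat σ := by
    rw [HasRingHomProperty.Spec_iff (P := @Flat)]
    exact RingHom.Flat.of_isField (Field.toIsField k) _
  haveI : Surjective σ := ⟨Function.surjective_to_subsingleton (α := Spec (CommRingCat.of K))
    (β := Spec (CommRingCat.of k)) _⟩
  let GK := (Over.pullback σ).obj G
  let HK := (Over.pullback σ).obj H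
  let uK : GK ⟶ HK := (Over.pullback σ).map u
  haveI : LocallyOfFiniteType GK.hom := inferInstanceAs (LocallyOfFiniteType (pullback.snd G.hom σ))
  haveI : LocallyOfFiniteType HK.hom := inferInstanceAs (LocallyOfFiniteType (pullback.snd H.hom σ))
  haveI : IsMonHom uK := inferInstanceAs (IsMonHom ((Over.pullback σ).map u))
  have hsq : IsPullback uK.left (pullback.fst G.hom σ) (pullback.fst H.hom σ) u.left := by
    refine IsPullback.of_right ?_ (pullback.lift_fst _ _ _) (IsPullback.of_hasPullback H.hom σ).flip
    rw [Over.w u, show uK.left ≫ pullback.snd H.hom σ = pullback.snd G.hom σ from Over.w uK]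
    exact (IsPullback.of_hasPullback G.hom σ).flip
  haveI : QuasiCompact uK.left := MorphismProperty.of_isPullback hsq.flip ‹QuasiCompact u.left›
  let gG := pullback.fst G.hom σ
  let c := pullback.map uK.left uK.left u.left u.left gG gG (pullback.fst H.hom σ) hsq.w hsq.w
  have hK : IsProper (pullback.snd uK.left uK.left) := by
    have h1 : IsPullback (pullback.fst uK.left uK.left ≫ gG) (pullback.snd uK.left uK.left) u.left
        (gG ≫ u.left) := by
      rw [show gG ≫ u.left = uK.left ≫ pullback.fst H.hom σ from hsq.w.symm]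
      exact (IsPullback.of_hasPullback uK.left uK.left).paste_horiz hsq.flip
    have hc : IsPullback c (pullback.snd uK.left uK.left) (pullback.snd u.left u.left) gG := by
      refine IsPullback.of_right ?_ (pullback.lift_snd _ _ _) (IsPullback.of_hasPullback u.left u.left)
      rw [show c ≫ pullback.fst _ _ = pullback.fst uK.left uK.left ≫ gG from pullback.lift_fst _ _ _]
      exact h1
    exact MorphismProperty.of_isPullback hc h
  haveI := EtFound.fpqc_isProper.{u}
  exact MorphismProperty.of_isPullback_of_descendsAlong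
    (P := @IsProper) (Q := (@Surjective ⊓ @Flat ⊓ @QuasiCompact : MorphismProperty Scheme.{u}))
    hsq
    ⟨⟨MorphismProperty.of_isPullback (P := @Surjective) (IsPullback.of_hasPullback H.hom σ).flip ‹Surjective σ›,
      MorphismProperty.of_isPullback (P := @Flat) (IsPullback.of_hasPullback H.hom σ).flip ‹Flat σ›⟩,
      MorphismProperty.of_isPullback (P := @QuasiCompact) (IsPullback.of_hasPullback H.hom σ).flip (inferInstance : QuasiCompact σ)⟩
    (isProper_algClosed uK hK)

end Groth.Agent.GrpSchLib.HomProper
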