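import Groth.Agent.GrpSchLib.HomogTop
import Groth.Agent.GrpSchLib.HomFlat

/-! Open hulls and components in homogeneous spaces over a field. -/

open CategoryTheory AlgebraicGeometry MonoidalCategory CartesianMonoidalCategory MonObj GrpObj
open Limits TopologicalSpace
open scoped CategoryTheory.Obj

namespace Groth.Agent.GrpSchLib.HomogTop

universe u

variable {K : Type u} [Field K] {G X : Over (Spec (CommRingCat.of K))} [GrpObj G]
variable (a : AlgGrp.Action G X) (hΦ : Surjective (lift a.act (snd G X)).left)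
variable {g : G.left} (hg : IsMaxPt g) (hge : g ⤳ η[G].left (IsLocalRing.closedPoint K))

/-- The translates of a subset by the neutral component. -/
def mulSet (g : G.left) (U : Set X.left) : Set X.left :=
  a.act.left '' {z : ↥(G ⊗ X).left | (fst G X).left z ∈ closure ({g} : Set G.left) ∧ (snd G X).left z ∈ U}

omit [GrpObj G] in
theorem range_whiskerRight {T : Over (Spec (CommRingCat.of K))} (j : T ⟶ G) :
    Set.range (j ▷ X).left = (fst G X).left ⁻¹' Set.range j.left := by
  ext z
  constructor
  · rintro ⟨p, rfl⟩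
    refine ⟨(fst T X).left p, ?_⟩
    rw [← left_comp_apply, ← left_comp_apply]
    simp
  · rintro ⟨t, ht⟩
    obtain ⟨p, hp, -⟩ := Scheme.exists_preimage_of_isPullback (GrpSchLib.isPullback_whiskerRight j X) z t ht.symm
    exact ⟨p, hp⟩

include hg hge in
theorem mulSet_subset_hull {U : Set X.left} (hU : IsOpen U) : mulSet a g U ⊆ hull U := by
  rintro _ ⟨z, ⟨hz1, hz2⟩, rfl⟩
  obtain ⟨T, j, hj, hjr⟩ := exists_over_range_eq (closure {g}) isClosed_closure
  have := geometricallyIrreducible_one hg hge j hjr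
  obtain ⟨p, hp⟩ : z ∈ Set.range (j ▷ X).left := by rw [range_whiskerRight, hjr]; exact hz1
  set v := (snd T X).left p
  have hv : v ∈ U := by
    show (snd T X).left p ∈ U
    rw [show snd T X = j ▷ X ≫ snd G X by simp, left_comp_apply, hp]
    exact hz2
  have hfib : IsIrreducible ((snd T X).left ⁻¹' {v}) := by
    have : GeometricallyIrreducible (snd T X).left :=
      inferInstanceAs (GeometricallyIrreducible (pullback.snd T.hom X.hom))
    have : UniversallyOpen (snd T X).left :=
      inferInstanceAs (UniversallyOpen (pullback.snd T.hom X.hom))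
    exact (snd T X).left.isIrreducible_preimage (snd T X).left.isOpenMap isIrreducible_singleton
  let m := (j ▷ X ≫ a.act).left
  have hW := isIrreducible_closure_image m.continuous hfib
  have hgen := hW.isGenericPoint_genericPoint isClosed_closure
  refine ⟨hW.genericPoint, ?_, hgen.specializes (subset_closure ⟨p, rfl, ?_⟩)⟩
  · have : (lift (toUnit X ≫ η[G]) (𝟙 X)).left v ∈ Set.range (j ▷ X).left := by
      rw [range_whiskerRight, hjr, Set.mem_preimage, ← left_comp_apply, lift_fst, apply_pointSection]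
      exact hge.mem_closure
    obtain ⟨q, hq⟩ := this
    refine (hgen.specializes (y := v) (subset_closure ⟨q, ?_, ?_⟩)).mem_open hU hv
    · show (snd T X).left q = v
      rw [show snd T X = j ▷ X ≫ snd G X by simp, left_comp_apply, hq, ← left_comp_apply, lift_snd]
      rfl
    · show a.act.left ((j ▷ X).left q) = v
      rw [hq, ← left_comp_apply, show toUnit X ≫ η[G] = (1 : X ⟶ G) from rfl, act_one]
      rfl
  · show a.act.left ((j ▷ X).left p) = _
    rw [hp]

include hΦ hg hge in
theorem hull_subset_mulSet {U : Set X.left} (hU : IsOpen U) : hull U ⊆ mulSet a g U := by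
  rintro y ⟨c, hcU, hcy⟩
  obtain ⟨ξ, hξ, hξc⟩ := exists_isMaxPt c
  obtain ⟨L, _, _, φ, x, rfl⟩ := exists_geomPt (X := X) y
  let w : (spOf φ).left := IsLocalRing.closedPoint L
  have hw : (fst X (spOf φ)).left ((lift x (𝟙 (spOf φ))).left w) = x.left w := by
    rw [← left_comp_apply, lift_fst]
  obtain ⟨ξ', hξ'm, hξ'x⟩ := exists_isMaxPt ((lift x (𝟙 (spOf φ))).left w)
  have hpξ : (fst X (spOf φ)).left ξ' = ξ :=
    (IsMaxPt.of_fst hξ'm).eq (uniComp a hΦ) hξ (by
      have := hξ'x.map (fst X (spOf φ)).left.continuous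
      rwa [hw] at this) (hξc.trans hcy)
  obtain ⟨g', hg', hFg⟩ := exists_orb_eq_maxPt a hΦ hg hge x hξ'm hξ'x
  let ψ : G ⊗ spOf φ ⟶ G ⊗ X := lift (fst G (spOf φ))⁻¹ (lift (fst G (spOf φ)) (snd G (spOf φ) ≫ x) ≫ a.act)
  refine ⟨ψ.left g', ⟨?_, ?_⟩, ?_⟩
  · rw [← left_comp_apply, lift_fst, Hom.inv_def, left_comp_apply, hg']
    exact inv_mem_closure hg hge (subset_closure rfl)
  · rw [← left_comp_apply, lift_snd]
    have e : lift (fst G (spOf φ)) (snd G (spOf φ) ≫ x) ≫ a.act = orb a x ≫ fst X (spOf φ) := by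
      rw [orb, lift_fst]
    rw [e, left_comp_apply, hFg, hpξ]
    exact hξc.mem_open hU hcU
  · rw [← left_comp_apply, act_mul, inv_mul_cancel, act_one, left_comp_apply]
    exact congrArg x.left (@Subsingleton.elim ↥(Spec (CommRingCat.of L)) inferInstance _ _)

include hΦ hg hge in
theorem mulSet_eq_hull {U : Set X.left} (hU : IsOpen U) : mulSet a g U = hull U :=
  (mulSet_subset_hull a hg hge hU).antisymm (hull_subset_mulSet a hΦ hg hge hU)

include hΦ in
theorem isOpen_hull {U : Set X.left} (hU : IsOpen U) : IsOpen (hull U) := by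
  obtain ⟨g, hg, hge⟩ := exists_isMaxPt (η[G].left (IsLocalRing.closedPoint K))
  obtain ⟨T, j, hj, hjr⟩ := exists_over_range_eq (closure {g}) isClosed_closure
  let m := j ▷ X ≫ a.act
  let e : T ⊗ X ≅ T ⊗ X :=
    { hom := lift (fst T X) m
      inv := lift (fst T X) (lift (fst T X ≫ j)⁻¹ (snd T X) ≫ a.act)
      hom_inv_id := by
        have hm : m = lift (fst T X ≫ j) (snd T X) ≫ a.act := by
          simp only [m]
          congr 1
        apply CartesianMonoidalCategory.hom_ext
        · simp
        · rw [Category.assoc, lift_snd, ← Category.assoc, comp_lift, GrpObj.comp_inv, lift_fst_assoc, lift_snd,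
            hm, act_mul, inv_mul_cancel, act_one, Category.id_comp]
      inv_hom_id := by
        have hm : m = lift (fst T X ≫ j) (snd T X) ≫ a.act := by
          simp only [m]
          congr 1
        apply CartesianMonoidalCategory.hom_ext
        · simp
        · rw [Category.assoc, lift_snd, hm, ← Category.assoc, comp_lift, lift_fst_assoc, lift_snd, act_mul,
            mul_inv_cancel, act_one, Category.id_comp] }
  haveI : IsIso e.hom.left := ((Over.forget _).mapIso e).isIso_hom
  haveI : UniversallyOpen (snd T X).left :=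
    inferInstanceAs (UniversallyOpen (pullback.snd T.hom X.hom))
  have hm : IsOpenMap m.left := by
    rw [show m = e.hom ≫ snd T X by simp [e]]
    haveI : UniversallyOpen (e.hom ≫ snd T X).left := by rw [Over.comp_left]; infer_instance
    exact (e.hom ≫ snd T X).left.isOpenMap
  rw [← mulSet_eq_hull a hΦ hg hge hU]
  have : mulSet a g U = m.left '' ((snd T X).left ⁻¹' U) := by
    have hpre : (snd T X).left ⁻¹' U = (j ▷ X).left ⁻¹' ((snd G X).left ⁻¹' U) := by
      rw [show snd T X = j ▷ X ≫ snd G X by simp]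
      rfl
    rw [hpre, show (⇑m.left : (T ⊗ X).left → X.left) = a.act.left ∘ (j ▷ X).left from rfl, Set.image_comp,
      Set.image_preimage_eq_inter_range, range_whiskerRight, hjr, mulSet, Set.inter_comm]
    rfl
  rw [this]
  exact hm _ (hU.preimage (snd T X).left.continuous)

omit [GrpObj G] in
/-- Hulls of retrocompact opens are closed. -/
theorem isClosed_hull {U : X.left.Opens} (hc : IsRetrocompact (U : Set X.left)) :
    IsClosed (hull (U : Set X.left)) := by
  refine isClosed_of_closure_subset fun x hx => ?_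
  have hxV : x ∈ closure (U : Set X.left) :=
    closure_minimal (s := hull (U : Set X.left)) (fun y ⟨c, hc, hcy⟩ => hcy.mem_closed isClosed_closure (subset_closure hc))
      isClosed_closure hx
  obtain ⟨W, hW, hxW, -⟩ := exists_isAffineOpen_mem_and_subset (show x ∈ (⊤ : X.left.Opens) from trivial)
  let V : (Spec Γ(X.left, W)).Opens := ⟨hW.fromSpec ⁻¹' U, U.2.preimage hW.fromSpec.continuous⟩
  have hV : IsCompact (V : Set (Spec Γ(X.left, W))) := by
    rw [hW.fromSpec.isOpenEmbedding.isInducing.isCompact_iff]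
    show IsCompact (hW.fromSpec '' (hW.fromSpec ⁻¹' U))
    rw [Set.image_preimage_eq_inter_range, hW.range_fromSpec]
    exact hc hW.isCompact W.2
  obtain ⟨R, f, hf⟩ := isCompact_iff_exists.mp hV
  obtain ⟨φ, rfl⟩ := Spec.map_surjective f
  obtain ⟨y, rfl⟩ : x ∈ Set.range hW.fromSpec := hW.range_fromSpec.symm ▸ hxW
  have hy : y ∈ closure (Set.range (Spec.map φ)) := by
    rw [hf]
    show y ∈ closure (hW.fromSpec ⁻¹' U)
    rw [← hW.fromSpec.isOpenEmbedding.isOpenMap.preimage_closure_eq_closure_preimage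
      hW.fromSpec.continuous]
    exact hxV
  have hy' : RingHom.ker φ.hom ≤ y.asIdeal := by
    have : y ∈ closure (Set.range (PrimeSpectrum.comap φ.hom)) := hy
    rw [PrimeSpectrum.closure_range_comap] at this
    exact (PrimeSpectrum.mem_zeroLocus _ _).mp this
  have : y.asIdeal.IsPrime := PrimeSpectrum.isPrime y
  obtain ⟨q, hq, hqy⟩ := Ideal.exists_minimalPrimes_le hy'
  obtain ⟨p, hp, -, hpq⟩ := Ideal.exists_comap_eq_of_mem_minimalPrimes (I := ⊥) φ.hom q
    (by rw [← RingHom.ker_eq_comap_bot]; exact hq)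
  have hc' : (Spec.map φ ⟨p, hp⟩ : Spec Γ(X.left, W)) ⤳ y :=
    (PrimeSpectrum.le_iff_specializes _ _).mp (show p.comap φ.hom ≤ y.asIdeal from hpq ▸ hqy)
  refine ⟨hW.fromSpec (Spec.map φ ⟨p, hp⟩), ?_, hc'.map hW.fromSpec.continuous⟩
  exact (hf.subset ⟨_, rfl⟩ : Spec.map φ ⟨p, hp⟩ ∈ (V : Set (Spec Γ(X.left, W))))

/-- Maximal points give the components. -/
theorem closure_mem_components {S : Type*} [TopologicalSpace S] [QuasiSober S] {c : S} (hc : IsMaxPt c) :
    closure {c} ∈ irreducibleComponents S := by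
  refine ⟨isIrreducible_singleton.closure, fun Z hZ hcZ => ?_⟩
  have hgen := hZ.closure.isGenericPoint_genericPoint isClosed_closure
  have : hZ.closure.genericPoint = c :=
    hc _ (hgen.specializes (subset_closure (hcZ (subset_closure rfl))))
  intro z hz
  rw [← this]
  exact (hgen.specializes (subset_closure hz)).mem_closure

theorem exists_maxPt_of_component {S : Type*} [TopologicalSpace S] [T0Space S] [QuasiSober S] {Z : Set S}
    (hZ : Z ∈ irreducibleComponents S) : ∃ c, IsMaxPt c ∧ closure {c} = Z := by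
  have hgen := hZ.1.isGenericPoint_genericPoint (isClosed_of_mem_irreducibleComponents Z hZ)
  exact ⟨_, fun d => Groth.Agent.FDescent.eq_of_specializes_of_mem hZ hgen, hgen.def⟩

omit [GrpObj G] in
theorem hull_eq_sUnion {U : Set X.left} (hU : IsOpen U) :
    hull U = ⋃₀ {Z : Set X.left | Z ∈ irreducibleComponents ↥X.left ∧ ∃ ξ ∈ U, closure {ξ} = Z} := by
  ext x
  constructor
  · rintro ⟨c, hcU, hcx⟩
    obtain ⟨ξ, hξ, hξc⟩ := exists_isMaxPt c
    exact ⟨_, ⟨closure_mem_components hξ, ξ, hξc.mem_open hU hcU, rfl⟩, (hξc.trans hcx).mem_closure⟩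
  · rintro ⟨_, ⟨-, ξ, hξU, rfl⟩, hx⟩
    exact ⟨ξ, hξU, specializes_iff_mem_closure.mpr hx⟩

omit [GrpObj G] in
theorem subset_closure_hull {U : Set X.left} : U ⊆ hull U ∧ hull U ⊆ closure U :=
  ⟨fun u hu => ⟨u, hu, specializes_rfl⟩,
    fun _ ⟨_, hc, hcy⟩ => hcy.mem_closed isClosed_closure (subset_closure hc)⟩

include hΦ in
/-- Connected components are irreducible. -/
theorem connectedComponent_eq_closure [QuasiSeparatedSpace X.left] {c x : X.left} (hc : IsMaxPt c)
    (hcx : c ⤳ x) : connectedComponent x = closure {c} := by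
  refine subset_antisymm (fun y hy => ?_)
    (isIrreducible_singleton.closure.isPreirreducible.isPreconnected.subset_connectedComponent
      hcx.mem_closure)
  by_contra hyc
  obtain ⟨cy, hcy, hcyy⟩ := exists_isMaxPt y
  have hx : x ∉ closure {cy} := fun h => hyc <| by
    rw [hc.eq (uniComp a hΦ) hcy hcx (specializes_iff_mem_closure.mpr h)]
    exact hcyy.mem_closure
  obtain ⟨V, hV, hxV, hVs⟩ := exists_isAffineOpen_mem_and_subset
    (U := (⟨(closure {cy})ᶜ, isClosed_closure.isOpen_compl⟩ : X.left.Opens)) hx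
  have hr : IsRetrocompact (V : Set X.left) := fun W hW hWo =>
    QuasiSeparatedSpace.inter_isCompact _ _ V.2 hV.isCompact hWo hW
  have hclopen : IsClopen (hull (V : Set X.left)) := ⟨isClosed_hull hr, isOpen_hull a hΦ V.2⟩
  obtain ⟨d, hdV, hd⟩ := hclopen.connectedComponent_subset ⟨_, hxV, specializes_rfl⟩ hy
  exact hVs hdV (hcy.specializes (uniComp a hΦ) hcyy hd).mem_closure

include hΦ in
/-- The component of a rational point is geometrically irreducible. -/
theorem geometricallyIrreducible_component (x : 𝟙_ (Over (Spec (CommRingCat.of K))) ⟶ X) {c : X.left}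
    (hc0 : IsMaxPt c) (hcx : c ⤳ x.left (IsLocalRing.closedPoint K))
    {T : Over (Spec (CommRingCat.of K))} (j : T ⟶ X) [IsClosedImmersion j.left]
    (hj : Set.range j.left = closure {c}) : GeometricallyIrreducible T.hom := by
  refine geometricallyIrreducible_of_algClosure T.hom ?_
  let φ := algebraMap K (AlgebraicClosure K)
  let j' : bc T φ ⟶ bc X φ := (Over.pullback (Spec.map (CommRingCat.ofHom φ))).map j
  have : IsClosedImmersion j'.left :=
    MorphismProperty.baseChange_map (P := @IsClosedImmersion) _ j ‹_›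
  have hr : Set.range j'.left = bcProj X φ ⁻¹' closure {c} := by
    have : j'.left = pullback.map _ _ _ _ j.left (𝟙 _) (𝟙 _) (by simp) (by simp) := by
      apply pullback.hom_ext <;> simp [j', pullback.map, pullback.lift_fst, pullback.lift_snd]
    rw [this, Scheme.Pullback.range_map, hj]
    simp
  suffices h : IsIrreducible (bcProj X φ ⁻¹' closure {c}) from
    irreducibleSpace_of_range j' (hr ▸ h)
  have : IsIntegralHom (Spec.map (CommRingCat.ofHom φ)) :=
    (IsIntegralHom.SpecMap_iff).mpr (algebraMap_isIntegral_iff.mpr inferInstance)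
  have hcl : IsClosedMap (bcProj X φ) := (bcProj X φ).isClosedMap
  set e₀ := x.left (IsLocalRing.closedPoint K)
  have key : (bcProj X φ ⁻¹' {e₀}).Subsingleton := by
    have hr : Set.range x.left = {e₀} := by
      refine Set.Subset.antisymm ?_ (Set.singleton_subset_iff.mpr ⟨_, rfl⟩)
      rintro _ ⟨y, rfl⟩
      exact congrArg x.left (@Subsingleton.elim (Spec (CommRingCat.of K)) inferInstance _ _)
    rw [← hr, ← Scheme.Pullback.range_snd, ← Set.image_univ]
    refine Set.Subsingleton.image ?_ _
    have : Subsingleton ↥(pullback x.left (bcProj X φ)) :=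
      ((pullbackRightPullbackFstIso X.hom (Spec.map (CommRingCat.ofHom φ)) x.left) ≪≫
        pullback.congrHom (show x.left ≫ X.hom = 𝟙 _ from Over.w x) rfl ≪≫
        asIso (pullback.snd (𝟙 _) _)).hom.homeomorph.subsingleton
    exact Set.subsingleton_univ
  have hu : UniComp (bc X φ).left := uniComp_bc a hΦ φ
  have main : ∀ b, b ∈ bcProj X φ ⁻¹' closure {c} →
      ∃ d e', IsMaxPt d ∧ d ⤳ b ∧ d ⤳ e' ∧ bcProj X φ e' = e₀ ∧ bcProj X φ d = c := by
    intro b hb
    obtain ⟨d, hd, hdb⟩ := exists_isMaxPt b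
    have hdc : bcProj X φ d = c := (hd.map (generalizing_fst φ)).eq (uniComp a hΦ) hc0
      (hdb.map (bcProj X φ).continuous) (specializes_iff_mem_closure.mpr hb)
    obtain ⟨e', he', he''⟩ :=
      (hdc ▸ hcx).mem_closed (hcl (closure {d}) isClosed_closure) ⟨d, subset_closure rfl, rfl⟩
    exact ⟨d, e', hd, hdb, specializes_iff_mem_closure.mpr he', he'', hdc⟩
  have := surjective_spec_map_field φ
  obtain ⟨c', hcc⟩ := (bcProj X φ).surjective c
  obtain ⟨d, e', hd, hdb, hde, he', hdc⟩ := main c' (by rw [Set.mem_preimage, hcc]; exact subset_closure rfl)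
  have : bcProj X φ ⁻¹' closure {c} = closure {d} := by
    refine subset_antisymm (fun b hb => ?_) (closure_minimal ?_ (isClosed_closure.preimage (bcProj X φ).continuous))
    · obtain ⟨d', e'', hd', hdb', hde', he'', -⟩ := main b hb
      obtain rfl := key he' he''
      rw [hd.eq hu hd' hde hde']
      exact hdb'.mem_closure
    · rintro _ rfl
      rw [Set.mem_preimage, hdc]
      exact subset_closure rfl
  rw [this]
  exact isIrreducible_singleton.closure

include hΦ in
theorem isIrreducible_preimage_component (x : 𝟙_ (Over (Spec (CommRingCat.of K))) ⟶ X) {c : X.left}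
    (hc0 : IsMaxPt c) (hcx : c ⤳ x.left (IsLocalRing.closedPoint K)) {L : Type u} [Field L] (φ : K →+* L) :
    IsIrreducible ((fst X (spOf φ)).left ⁻¹' closure {c}) := by
  obtain ⟨T, j, hj, hjr⟩ := exists_over_range_eq (G := X) (closure {c}) isClosed_closure
  haveI : GeometricallyIrreducible (j.left ≫ X.hom) := by
    rw [Over.w j]
    exact geometricallyIrreducible_component a hΦ x hc0 hcx j hjr
  rw [← hjr]
  exact isIrreducible_preimage_range (IsPullback.of_hasPullback X.hom (Spec.map (CommRingCat.ofHom φ))) j.left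

include hΦ hg hge in
/-- The neutral component acts transitively on each component with a rational point. -/
theorem orbitMap_image (x : 𝟙_ (Over (Spec (CommRingCat.of K))) ⟶ X) {c : X.left}
    (hc : IsMaxPt c) (hcx : c ⤳ x.left (IsLocalRing.closedPoint K)) :
    (a.orbitMap x).left '' closure {g} = closure {c} := by
  refine subset_antisymm ?_ fun y hy => ?_
  · rintro _ ⟨h, hh, rfl⟩
    have hirr : IsIrreducible ((a.orbitMap x).left '' closure {g}) :=
      isIrreducible_singleton.closure.image _ (a.orbitMap x).left.continuous.continuousOn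
    have hW := hirr.closure
    have hgen := hW.isGenericPoint_genericPoint isClosed_closure
    have hx0 : x.left (IsLocalRing.closedPoint K) ∈ (a.orbitMap x).left '' closure {g} := by
      refine ⟨_, hge.mem_closure, ?_⟩
      have e : η[G] ≫ a.orbitMap x = x := by
        rw [AlgGrp.Action.orbitMap, ← Category.assoc, comp_lift, Category.comp_id, ← Category.assoc, comp_toUnit,
          toUnit_unique (toUnit _) (𝟙 _), Category.id_comp,
          show η[G] = (1 : 𝟙_ _ ⟶ G) by rw [MonObj.one_eq_one], act_one]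
      exact (left_comp_apply η[G] (a.orbitMap x) _).symm.trans
        (congrArg (fun f : 𝟙_ _ ⟶ X => f.left (IsLocalRing.closedPoint K)) e)
    exact ((hc.specializes (uniComp a hΦ) hcx (hgen.specializes (subset_closure hx0))).trans
      (hgen.specializes (subset_closure ⟨h, hh, rfl⟩))).mem_closure
  · obtain ⟨L, _, _, φ, yT, rfl⟩ := exists_geomPt (X := X) y
    let w : (spOf φ).left := IsLocalRing.closedPoint L
    let xT : spOf φ ⟶ X := toUnit _ ≫ x
    have hxw : xT.left w = x.left (IsLocalRing.closedPoint K) := apply_pointSection x w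
    obtain ⟨ξ₁, hξ₁, h1⟩ := exists_isMaxPt ((lift xT (𝟙 (spOf φ))).left w)
    obtain ⟨ξ₂, hξ₂, h2⟩ := exists_isMaxPt ((lift yT (𝟙 (spOf φ))).left w)
    have hproj : ∀ {ξ : (X ⊗ spOf φ).left} {z : spOf φ ⟶ X}, IsMaxPt ξ →
        ξ ⤳ (lift z (𝟙 (spOf φ))).left w → c ⤳ z.left w → (fst X (spOf φ)).left ξ = c := fun {ξ z} hξ h hz => by
      have := h.map (fst X (spOf φ)).left.continuous
      rw [← left_comp_apply, lift_fst] at this
      exact (IsMaxPt.of_fst hξ).eq (uniComp a hΦ) hc this hz
    have hp1 := hproj hξ₁ h1 (hxw ▸ hcx)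
    have hp2 := hproj hξ₂ h2 (specializes_iff_mem_closure.mpr hy)
    have hirr := isIrreducible_preimage_component a hΦ x hc hcx φ
    have hgen := hirr.isGenericPoint_genericPoint (isClosed_closure.preimage (fst X (spOf φ)).left.continuous)
    have e1 : hirr.genericPoint = ξ₁ := hξ₁ _ (hgen.specializes (by rw [Set.mem_preimage, hp1]; exact subset_closure rfl))
    have e2 : hirr.genericPoint = ξ₂ := hξ₂ _ (hgen.specializes (by rw [Set.mem_preimage, hp2]; exact subset_closure rfl))
    obtain ⟨g₁, hg₁, hF₁⟩ := exists_orb_eq_maxPt a hΦ hg hge xT hξ₁ h1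
    obtain ⟨g₂, hg₂, hF₂⟩ := exists_orb_eq_maxPt a hΦ hg hge yT hξ₂ h2
    obtain ⟨q, hq1, hq2⟩ := Scheme.Pullback.exists_preimage_pullback (f := (orb a xT).left) (g := (orb a yT).left)
      g₁ g₂ (by rw [hF₁, hF₂, ← e1, e2])
    let P : Over (Spec (CommRingCat.of K)) := Over.mk (pullback.fst (orb a xT).left (orb a yT).left ≫ (G ⊗ spOf φ).hom)
    let p₁ : P ⟶ G ⊗ spOf φ := Over.homMk (pullback.fst (orb a xT).left (orb a yT).left) rfl
    let p₂ : P ⟶ G ⊗ spOf φ := Over.homMk (pullback.snd (orb a xT).left (orb a yT).left) (by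
      show pullback.snd _ _ ≫ (G ⊗ spOf φ).hom = pullback.fst _ _ ≫ (G ⊗ spOf φ).hom
      exact ((congrArg (pullback.fst _ _ ≫ ·) (Over.w (orb a xT))).symm.trans (pullback.condition_assoc _) |>.trans
        (congrArg (pullback.snd _ _ ≫ ·) (Over.w (orb a yT)))).symm)
    have hcond : p₁ ≫ orb a xT = p₂ ≫ orb a yT := Over.OverMorphism.ext pullback.condition
    let d : P ⟶ G := (p₂ ≫ fst G _)⁻¹ * (p₁ ≫ fst G _)
    have hd : d ≫ a.orbitMap x = (p₂ ≫ snd G (spOf φ)) ≫ yT := by
      have h0 := congrArg (· ≫ fst X (spOf φ)) hcond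
      simp only [orb, Category.assoc, lift_fst] at h0
      rw [← Category.assoc p₁, comp_lift, ← Category.assoc p₂, comp_lift] at h0
      rw [AlgGrp.Action.orbitMap, ← Category.assoc, comp_lift, Category.comp_id, ← Category.assoc, comp_toUnit]
      rw [show p₁ ≫ snd G (spOf φ) ≫ xT = toUnit P ≫ x by
        simp only [xT, ← Category.assoc, comp_toUnit]] at h0
      show lift ((p₂ ≫ fst G _)⁻¹ * (p₁ ≫ fst G _)) (toUnit P ≫ x) ≫ a.act = _
      rw [← act_mul, h0, act_mul, inv_mul_cancel, act_one, Category.assoc]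
    refine ⟨d.left q, ?_, ?_⟩
    · show d.left q ∈ closure {g}
      rw [show d = lift (p₂ ≫ fst G _)⁻¹ (p₁ ≫ fst G _) ≫ μ[G] from rfl, left_comp_apply]
      refine mul_mem_closure hg hge ⟨?_, ?_⟩
      · rw [Set.mem_preimage, ← left_comp_apply, lift_fst, Hom.inv_def, left_comp_apply]
        refine inv_mem_closure hg hge ?_
        rw [left_comp_apply, show p₂.left q = g₂ from hq2, hg₂]
        exact subset_closure rfl
      · rw [Set.mem_preimage, ← left_comp_apply, lift_snd, left_comp_apply, show p₁.left q = g₁ from hq1, hg₁]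
        exact subset_closure rfl
    · rw [← left_comp_apply, hd, left_comp_apply]
      exact congrArg yT.left (@Subsingleton.elim ↥(Spec (CommRingCat.of L)) inferInstance _ _)

end Groth.Agent.GrpSchLib.HomogTop
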