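import Groth.Agent.GrpSchLib.FieldDim
import Groth.Agent.GrpSchLib.FieldAllComp
import Groth.Agent.GrpSchLib.Action
import Groth.Agent.GrpSchLib.ArtinTop
import Groth.Agent.GrpSchLib.FibreIrr
import Groth.Agent.VarDim.Top

/-! Homogeneous spaces over artinian local rings are equidimensional. -/

open CategoryTheory AlgebraicGeometry MonoidalCategory CartesianMonoidalCategory MonObj GrpObj
open Limits TopologicalSpace
open scoped CategoryTheory.Obj

namespace Groth.Agent.GrpSchLib.HomogDim

universe u

/-- A maximal point has a closed specialization with no other maximal generalization. -/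
theorem exists_good_closed {K : Type u} [Field K] {X : Scheme.{u}} (f : X ⟶ Spec (CommRingCat.of K))
    [LocallyOfFiniteType f] {c : X} (hc : IsMaxPt c) :
    ∃ x, IsClosed ({x} : Set X) ∧ c ⤳ x ∧ ∀ d, IsMaxPt d → d ⤳ x → d = c := by
  have := LocallyOfFiniteType.jacobsonSpace f
  haveI : IsLocallyNoetherian X := LocallyOfFiniteType.isLocallyNoetherian f
  obtain ⟨V, hV, hcV, -⟩ := exists_isAffineOpen_mem_and_subset (show c ∈ (⊤ : X.Opens) from trivial)
  haveI : IsNoetherianRing Γ(X, V) := IsLocallyNoetherian.component_noetherian ⟨V, hV⟩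
  haveI : NoetherianSpace (V : Set X) := noetherianSpace_of_isAffineOpen V hV
  let Z₀ : Set (V : Set X) := closure {⟨c, hcV⟩}
  let bad : Set (Set (V : Set X)) := {Z ∈ irreducibleComponents _ | (⟨c, hcV⟩ : (V : Set X)) ∉ Z}
  have hbad : bad.Finite := NoetherianSpace.finite_irreducibleComponents.subset fun Z h => h.1
  have hB : IsClosed (⋃₀ bad) := by
    rw [Set.sUnion_eq_biUnion]
    exact hbad.isClosed_biUnion fun Z hZ => isClosed_of_mem_irreducibleComponents Z hZ.1
  let O : Set X := Subtype.val '' (⋃₀ bad)ᶜ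
  have hO : IsOpen O := V.2.isOpenMap_subtype_val _ hB.isOpen_compl
  have hcO : c ∈ O := ⟨⟨c, hcV⟩, fun ⟨Z, hZ, hcZ⟩ => hZ.2 hcZ, rfl⟩
  obtain ⟨x, ⟨hxO, hxc⟩, hxcl⟩ := nonempty_inter_closedPoints (Z := O ∩ closure {c})
    ⟨c, hcO, subset_closure rfl⟩ (hO.isLocallyClosed.inter isClosed_closure.isLocallyClosed)
  refine ⟨x, hxcl, specializes_iff_mem_closure.mpr hxc, fun d hd hdx => ?_⟩
  obtain ⟨⟨x', hx'V⟩, hx', rfl⟩ := hxO
  have hdV : d ∈ (V : Set X) := hdx.mem_open V.2 hx'V
  let Z : Set (V : Set X) := irreducibleComponent ⟨d, hdV⟩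
  have hdx' : (⟨d, hdV⟩ : (V : Set X)) ⤳ ⟨x', hx'V⟩ := (subtype_specializes_iff _ _).2 hdx
  have hxZ : (⟨x', hx'V⟩ : (V : Set X)) ∈ Z := hdx'.mem_closed isClosed_irreducibleComponent mem_irreducibleComponent
  have hcZ : (⟨c, hcV⟩ : (V : Set X)) ∈ Z := by
    by_contra h
    exact hx' ⟨Z, ⟨irreducibleComponent_mem_irreducibleComponents _, h⟩, hxZ⟩
  have hirr : IsIrreducible (Subtype.val '' Z : Set X) :=
    isIrreducible_irreducibleComponent.image _ continuous_subtype_val.continuousOn
  have hg := hirr.isGenericPoint_genericPoint_closure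
  have hgd := hd _ (hg.specializes (subset_closure ⟨_, mem_irreducibleComponent, rfl⟩))
  have hgc := hc _ (hg.specializes (subset_closure ⟨_, hcZ, rfl⟩))
  exact hgd.symm.trans hgc

variable {A : Type u} [CommRing A] [IsArtinianRing A] [IsLocalRing A]
variable {G X : Over (Spec (CommRingCat.of A))} [GrpObj G]
  [LocallyOfFiniteType G.hom] [LocallyOfFiniteType X.hom]

omit [IsArtinianRing A] [IsLocalRing A] in
/-- All maximal points of a homogeneous space over an algebraically closed point have the same height. -/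
theorem height_eq_of_isMaxPt {K : Type u} [Field K] [IsAlgClosed K]
    (t : Spec (CommRingCat.of K) ⟶ Spec (CommRingCat.of A)) (a : AlgGrp.Action G X)
    (hΦ : Surjective (lift a.act (snd G X)).left) {c d : (X ⊗ Over.mk t).left}
    (hc : IsMaxPt c) (hd : IsMaxPt d) : Order.height c = Order.height d := by
  let T := Over.mk t
  let f : (X ⊗ T).left ⟶ Spec (CommRingCat.of K) := (snd X T).left
  haveI : LocallyOfFiniteType f :=
    MorphismProperty.of_isPullback (IsPullback.of_hasPullback X.hom t) ‹LocallyOfFiniteType X.hom›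
  let fG : (G ⊗ T).left ⟶ Spec (CommRingCat.of K) := (snd G T).left
  haveI : LocallyOfFiniteType fG :=
    MorphismProperty.of_isPullback (IsPullback.of_hasPullback G.hom t) ‹LocallyOfFiniteType G.hom›
  have := LocallyOfFiniteType.jacobsonSpace f
  have := LocallyOfFiniteType.jacobsonSpace fG
  have hpt : ∀ {Y : Over (Spec (CommRingCat.of A))} [LocallyOfFiniteType (snd Y T).left]
      (z : (Y ⊗ T).left), IsClosed ({z} : Set (Y ⊗ T).left) →
      ∃ y : T ⟶ Y, (lift y (𝟙 T)).left (IsLocalRing.closedPoint K) = z := by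
    intro Y _ z hz
    let s := (pointEquivClosedPoint (snd Y T).left).symm ⟨z, hz⟩
    have hs : s.1 (IsLocalRing.closedPoint K) = z :=
      congrArg Subtype.val ((pointEquivClosedPoint (snd Y T).left).apply_symm_apply ⟨z, hz⟩)
    let σ : T ⟶ Y ⊗ T := Over.homMk s.1 (by
      rw [← Over.w (snd Y T), ← Category.assoc, s.2]
      exact Category.id_comp _)
    have hσ : σ ≫ snd Y T = 𝟙 T := Over.OverMorphism.ext s.2
    refine ⟨σ ≫ fst Y T, ?_⟩
    rw [← hσ, ← comp_lift, lift_fst_snd, Category.comp_id]
    exact hs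
  haveI : LocallyOfFiniteType (snd X T).left := ‹LocallyOfFiniteType f›
  haveI : LocallyOfFiniteType (snd G T).left := ‹LocallyOfFiniteType fG›
  obtain ⟨x, hxc, hcx, hxu⟩ := exists_good_closed f hc
  obtain ⟨y, hyc, hdy, hyu⟩ := exists_good_closed f hd
  obtain ⟨xT, hxT⟩ := hpt (Y := X) x hxc
  let F := lift (lift (fst G T) (snd G T ≫ xT) ≫ a.act) (snd G T)
  haveI : Surjective F.left := FibreIrr.surjective_orbit_point a hΦ xT
  obtain ⟨h₀, hh₀⟩ := F.left.surjective y
  obtain ⟨h₁, hh₁, hh₁c⟩ := nonempty_inter_closedPoints (Z := F.left ⁻¹' {y}) ⟨h₀, hh₀⟩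
    (hyc.preimage F.left.continuous).isLocallyClosed
  obtain ⟨g, hg⟩ := hpt (Y := G) h₁ hh₁c
  let τ : X ⊗ T ≅ X ⊗ T :=
    { hom := lift (lift (snd X T ≫ g) (fst X T) ≫ a.act) (snd X T)
      inv := lift (lift (snd X T ≫ g⁻¹) (fst X T) ≫ a.act) (snd X T)
      hom_inv_id := by
        apply CartesianMonoidalCategory.hom_ext
        · rw [Category.assoc, lift_fst, ← Category.assoc, comp_lift, lift_snd_assoc, lift_fst, act_mul,
            ← MonObj.comp_mul, inv_mul_cancel, MonObj.comp_one, act_one, Category.id_comp]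
        · simp
      inv_hom_id := by
        apply CartesianMonoidalCategory.hom_ext
        · rw [Category.assoc, lift_fst, ← Category.assoc, comp_lift, lift_snd_assoc, lift_fst, act_mul,
            ← MonObj.comp_mul, mul_inv_cancel, MonObj.comp_one, act_one, Category.id_comp]
        · simp }
  haveI : IsIso τ.hom.left := ((Over.forget _).mapIso τ).isIso_hom
  have hτx : τ.hom.left x = y := by
    have e : lift xT (𝟙 T) ≫ τ.hom = lift g (𝟙 T) ≫ F := by
      simp only [τ, F]
      rw [comp_lift, comp_lift, ← Category.assoc, ← Category.assoc, comp_lift, comp_lift, lift_snd_assoc,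
        lift_snd_assoc, lift_fst, lift_fst, lift_snd, lift_snd, Category.id_comp, Category.id_comp]
    have h := congrArg (fun m : T ⟶ X ⊗ T => m.left (IsLocalRing.closedPoint K)) e
    dsimp only at h
    rw [show (lift xT (𝟙 T) ≫ τ.hom).left (IsLocalRing.closedPoint K) =
        τ.hom.left ((lift xT (𝟙 T)).left (IsLocalRing.closedPoint K)) from rfl, hxT,
      show (lift g (𝟙 T) ≫ F).left (IsLocalRing.closedPoint K) =
        F.left ((lift g (𝟙 T)).left (IsLocalRing.closedPoint K)) from rfl, hg] at h
    exact h.trans hh₁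
  have hcd : τ.hom.left c = d :=
    hyu _ (hc.map τ.hom.left.isOpenEmbedding.generalizingMap) (hτx ▸ hcx.map τ.hom.left.continuous)
  rw [← hcd]
  exact height_apply_of_isIntegralHom τ.hom.left c

/-- All connected components of a homogeneous space have the same dimension. -/
theorem dim_connectedComponent_eq (a : AlgGrp.Action G X) (hΦ : Surjective (lift a.act (snd G X)).left)
    (x y : X.left) : topologicalKrullDim ↥(connectedComponent x) = topologicalKrullDim ↥(connectedComponent y) := by
  let κ := IsLocalRing.ResidueField A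
  let K := AlgebraicClosure κ
  let X' := clFib X
  haveI : LocallyOfFiniteType X'.hom := inferInstanceAs (LocallyOfFiniteType (pullback.snd X.hom _))
  let σ : Spec (CommRingCat.of K) ⟶ Spec (CommRingCat.of κ) := Spec.map (CommRingCat.ofHom (algebraMap κ K))
  let T : Over (Spec (CommRingCat.of A)) := Over.mk (σ ≫ clPt A)
  let p : (X ⊗ T).left ⟶ X'.left := pullback.map X.hom T.hom X.hom (clPt A) (𝟙 _) σ (𝟙 _) (by simp) (by simp [T])
  have hp : IsPullback p (pullback.snd X.hom T.hom) (pullback.snd X.hom (clPt A)) σ := by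
    refine IsPullback.of_right ?_ (pullback.lift_snd _ _ _) (IsPullback.of_hasPullback X.hom (clPt A))
    rw [show p ≫ pullback.fst _ _ = pullback.fst X.hom T.hom from (pullback.lift_fst _ _ _).trans (Category.comp_id _)]
    exact IsPullback.of_hasPullback X.hom T.hom
  haveI : IsIntegralHom p := MorphismProperty.of_isPullback (P := @IsIntegralHom) hp.flip
    ((IsIntegralHom.SpecMap_iff).mpr (algebraMap_isIntegral_iff.mpr inferInstance))
  haveI : Surjective p := MorphismProperty.of_isPullback (P := @Surjective) hp.flip (surjective_spec_map_field _)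
  have hgen : GeneralizingMap p := by
    haveI : Flat p := MorphismProperty.of_isPullback (P := @Flat) hp.flip (flat_spec_map_field _)
    exact Flat.generalizingMap p
  have hmax : ∀ c d : X'.left, IsMaxPt c → IsMaxPt d → VarDim.deg X'.hom c = VarDim.deg X'.hom d := by
    intro c d hc hd
    obtain ⟨c₀, rfl⟩ := p.surjective c
    obtain ⟨c₁, hc₁, hcc⟩ := exists_isMaxPt c₀
    obtain ⟨d₀, rfl⟩ := p.surjective d
    obtain ⟨d₁, hd₁, hdd⟩ := exists_isMaxPt d₀
    have h := height_eq_of_isMaxPt (σ ≫ clPt A) a hΦ hc₁ hd₁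
    rw [height_apply_of_isIntegralHom p c₁, height_apply_of_isIntegralHom p d₁,
      hc _ (hcc.map p.continuous), hd _ (hdd.map p.continuous),
      VarDim.height_eq_deg X'.hom, VarDim.height_eq_deg X'.hom] at h
    exact_mod_cast h
  have key : ∀ x' : X'.left, ∀ c : X'.left, IsMaxPt c →
      topologicalKrullDim ↥(connectedComponent x') = ((VarDim.deg X'.hom c : ℕ∞) : WithBot ℕ∞) := by
    intro x' c hc
    rw [VarDim.topologicalKrullDim_set_eq_iSup_deg X'.hom isClosed_connectedComponent]
    refine le_antisymm (iSup_le fun z => ?_) ?_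
    · obtain ⟨e, he, hez⟩ := exists_isMaxPt z.1
      have := VarDim.deg_le_of_specializes X'.hom hez
      rw [hmax e c he hc] at this
      exact_mod_cast this
    · obtain ⟨e, he, hex⟩ := exists_isMaxPt x'
      have hmem : e ∈ connectedComponent x' :=
        isIrreducible_singleton.closure.isPreirreducible.isPreconnected.subset_connectedComponent
          hex.mem_closure (subset_closure rfl)
      exact le_iSup_of_le ⟨e, hmem⟩ (le_of_eq (by rw [hmax c e hc he]))
  obtain ⟨c, hc, -⟩ := exists_isMaxPt ((clHomeo X).symm x)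
  have hx : ∀ z : X.left, topologicalKrullDim ↥(connectedComponent z) = ((VarDim.deg X'.hom c : ℕ∞) : WithBot ℕ∞) := by
    intro z
    rw [← key ((clHomeo X).symm z) c hc,
      ← (Homeomorph.setCongr ((clHomeo X).apply_symm_apply z ▸ image_connectedComponent X ((clHomeo X).symm z))).isHomeomorph.topologicalKrullDim_eq]
    exact (((clHomeo X).image _).isHomeomorph.topologicalKrullDim_eq).symm
  rw [hx x, hx y]

end Groth.Agent.GrpSchLib.HomogDim
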