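import Groth.Agent.GrpSchLib.FieldAllComp
import Groth.Agent.GrpSchLib.Action
import Groth.Agent.GrpSchLib.FibreIrr

/-! Components of homogeneous spaces over a field. -/

open CategoryTheory AlgebraicGeometry MonoidalCategory CartesianMonoidalCategory MonObj GrpObj
open Limits TopologicalSpace
open scoped CategoryTheory.Obj

namespace Groth.Agent.GrpSchLib.HomogTop

universe u

/-! Irreducible inverse images. -/

section Preimage

variable {k L : Type u} [Field k] [Field L] {P W : Scheme.{u}} {p : P ⟶ W} {q : P ⟶ Spec (CommRingCat.of L)}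
  {f : W ⟶ Spec (CommRingCat.of k)} {φ : k →+* L}

/-- The inverse image of the range of a geometrically irreducible closed subscheme. -/
theorem isIrreducible_preimage_range (h : IsPullback p q f (Spec.map (CommRingCat.ofHom φ))) {Z : Scheme.{u}}
    (i : Z ⟶ W) [GeometricallyIrreducible (i ≫ f)] : IsIrreducible (p ⁻¹' Set.range i) := by
  haveI : IrreducibleSpace ↥(pullback (i ≫ f) (Spec.map (CommRingCat.ofHom φ))) :=
    GeometricallyIrreducible.geometrically_irreducibleSpace _ _ _ (IsPullback.of_hasPullback _ _)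
  have h1 : IsPullback (pullback.snd p i) (pullback.fst p i ≫ q) (i ≫ f) (Spec.map (CommRingCat.ofHom φ)) :=
    (IsPullback.of_hasPullback p i).flip.paste_vert h
  haveI : IrreducibleSpace ↥(pullback p i) :=
    h1.isoPullback.hom.homeomorph.irreducibleSpace_iff.mpr inferInstance
  rw [← Scheme.Pullback.range_fst, ← Set.image_univ]
  exact (IrreducibleSpace.isIrreducible_univ _).image _ (pullback.fst p i).continuous.continuousOn

/-- Over an algebraically closed field inverse images of irreducible closed sets are irreducible. -/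
theorem isIrreducible_preimage [IsAlgClosed k] (h : IsPullback p q f (Spec.map (CommRingCat.ofHom φ)))
    {Z : Set W} (hZ : IsIrreducible Z) (hZc : IsClosed Z) : IsIrreducible (p ⁻¹' Z) := by
  let W' : Over (Spec (CommRingCat.of k)) := Over.mk f
  obtain ⟨T, j, hj, hjr⟩ := exists_over_range_eq (G := W') Z hZc
  haveI := irreducibleSpace_of_range j (hjr ▸ hZ)
  haveI : GeometricallyIrreducible (j.left ≫ f) := by
    rw [show j.left ≫ f = T.hom from Over.w j]
    exact geometricallyIrreducible_of_isAlgClosed T.hom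
  have := isIrreducible_preimage_range h j.left
  rwa [show Set.range j.left = Z from hjr] at this

/-- A single maximal point lies over a maximal point. -/
theorem exists_maxPt_over [IsAlgClosed k] (h : IsPullback p q f (Spec.map (CommRingCat.ofHom φ)))
    {c : W} (hc : IsMaxPt c) :
    ∃ ε, IsMaxPt ε ∧ p ε = c ∧ ∀ a, p a ∈ closure ({c} : Set W) → ε ⤳ a := by
  have hirr := isIrreducible_preimage h isIrreducible_singleton.closure (isClosed_closure (s := {c}))
  have hcl : IsClosed (p ⁻¹' closure {c}) := isClosed_closure.preimage p.continuous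
  have hgen := hirr.isGenericPoint_genericPoint hcl
  haveI : Surjective p := MorphismProperty.of_isPullback (P := @Surjective) h.flip (surjective_spec_map_field φ)
  obtain ⟨z, hz⟩ := p.surjective c
  have hzm : z ∈ p ⁻¹' closure {c} := by
    rw [Set.mem_preimage, hz]
    exact subset_closure rfl
  have hpe : p hirr.genericPoint = c := hc _ (hz ▸ (hgen.specializes hzm).map p.continuous)
  refine ⟨hirr.genericPoint, fun d hd => ?_, hpe, fun a ha => hgen.specializes ha⟩
  have hd' : p d = c := hc _ (hpe ▸ hd.map p.continuous)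
  exact (hd.antisymm (hgen.specializes (show d ∈ p ⁻¹' closure {c} by
    rw [Set.mem_preimage, hd']; exact subset_closure rfl))).eq

end Preimage

variable {K : Type u} [Field K] {G X : Over (Spec (CommRingCat.of K))} [GrpObj G]

/-- The test object of an extension of the base field. -/
noncomputable abbrev spOf {L : Type u} [Field L] (φ : K →+* L) : Over (Spec (CommRingCat.of K)) :=
  Over.mk (Spec.map (CommRingCat.ofHom φ))

omit [GrpObj G] in
/-- Every point is the image of a geometric point. -/
theorem exists_geomPt (z : X.left) : ∃ (L : Type u) (_ : Field L) (_ : IsAlgClosed L) (φ : K →+* L)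
    (x : spOf φ ⟶ X), x.left (IsLocalRing.closedPoint L) = z := by
  let t : Spec (CommRingCat.of (AlgebraicClosure (X.left.residueField z))) ⟶ X.left :=
    Spec.map (CommRingCat.ofHom (algebraMap (X.left.residueField z) _)) ≫ X.left.fromSpecResidueField z
  obtain ⟨φ, hφ⟩ := Spec.map_surjective (t ≫ X.hom)
  exact ⟨AlgebraicClosure (X.left.residueField z), inferInstance,
    AlgebraicClosure.isAlgClosed (X.left.residueField z), φ.hom, Over.homMk t hφ.symm,
    X.left.fromSpecResidueField_apply z (Spec.map (CommRingCat.ofHom (algebraMap (X.left.residueField z) _)) _)⟩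

omit [GrpObj G] in
/-- Every point of a product with a geometric point is the image of a geometric point over it. -/
theorem exists_geomPt_prod {L : Type u} [Field L] {φ : K →+* L} (z : (G ⊗ spOf φ).left) :
    ∃ (L' : Type u) (_ : Field L') (_ : IsAlgClosed L') (φ' : K →+* L') (ψ : L →+* L')
      (r : spOf φ' ⟶ spOf φ) (g : spOf φ' ⟶ G),
      r.left = Spec.map (CommRingCat.ofHom ψ) ∧ (lift g r).left (IsLocalRing.closedPoint L') = z := by
  obtain ⟨L', _, _, φ', w, hw⟩ := exists_geomPt (X := G ⊗ spOf φ) z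
  obtain ⟨ψ, hψ⟩ := Spec.map_surjective (w ≫ snd G (spOf φ)).left
  refine ⟨L', inferInstance, ‹_›, φ', ψ.hom, w ≫ snd G (spOf φ), w ≫ fst G (spOf φ), hψ.symm, ?_⟩
  rw [← comp_lift, lift_fst_snd, Category.comp_id]
  exact hw

omit [GrpObj G] in
theorem isPullback_whiskerLeft (Y : Over (Spec (CommRingCat.of K))) {T T' : Over (Spec (CommRingCat.of K))}
    (r : T' ⟶ T) : IsPullback (Y ◁ r).left (snd Y T').left (snd Y T).left r.left := by
  have h : IsPullback (Y ◁ r) (snd Y T') (snd Y T) r := by
    refine IsPullback.of_isLimit' ⟨by simp⟩ (Limits.PullbackCone.IsLimit.mk _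
      (fun s => lift (s.fst ≫ fst Y T) s.snd) (fun s => ?_) (fun s => by simp) (fun s m h1 h2 => ?_))
    · apply CartesianMonoidalCategory.hom_ext
      · simp
      · simpa using s.condition.symm
    · apply CartesianMonoidalCategory.hom_ext
      · rw [lift_fst, ← h1]; simp
      · simpa using h2
  exact h.map (Over.forget _)

omit [GrpObj G] in
theorem generalizing_fst {L : Type u} [Field L] (φ : K →+* L) :
    GeneralizingMap (fst X (spOf φ)).left :=
  have := flat_spec_map_field φ
  Flat.generalizingMap (pullback.fst X.hom (Spec.map (CommRingCat.ofHom φ)))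

variable (a : AlgGrp.Action G X)

/-- The orbit map of a point with values in `T`. -/
noncomputable def orb {T : Over (Spec (CommRingCat.of K))} (x : T ⟶ X) : G ⊗ T ⟶ X ⊗ T :=
  lift (lift (fst G T) (snd G T ≫ x) ≫ a.act) (snd G T)

@[reassoc]
theorem lift_orb {T U : Over (Spec (CommRingCat.of K))} (x : T ⟶ X) (g : U ⟶ G) (t : U ⟶ T) :
    lift g t ≫ orb a x = lift (lift g (t ≫ x) ≫ a.act) t := by
  rw [orb, comp_lift, ← Category.assoc, comp_lift, lift_fst, lift_snd, ← Category.assoc, lift_snd]

theorem whiskerLeft_orb {T T' : Over (Spec (CommRingCat.of K))} (x : T ⟶ X) (r : T' ⟶ T) :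
    (G ◁ r) ≫ orb a x = orb a (r ≫ x) ≫ (X ◁ r) := by
  rw [orb, orb, comp_lift, lift_whiskerLeft, ← Category.assoc, comp_lift, whiskerLeft_fst, whiskerLeft_snd,
    ← Category.assoc, whiskerLeft_snd, Category.assoc]

theorem orb_surjective (hΦ : Surjective (lift a.act (snd G X)).left) {T : Over (Spec (CommRingCat.of K))}
    (x : T ⟶ X) : Surjective (orb a x).left :=
  FibreIrr.surjective_orbit_point a hΦ x

theorem isPullback_orb {T T' : Over (Spec (CommRingCat.of K))} (x : T ⟶ X) (r : T' ⟶ T) :
    IsPullback (G ◁ r).left (orb a (r ≫ x)).left (orb a x).left (X ◁ r).left := by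
  refine IsPullback.of_bot ?_ ?_ (isPullback_whiskerLeft X r)
  · rw [← Over.comp_left, ← Over.comp_left]
    simp only [orb, lift_snd]
    exact isPullback_whiskerLeft G r
  · rw [← Over.comp_left, ← Over.comp_left, whiskerLeft_orb]

/-- Translation by a point with values in `T`. -/
noncomputable def transT {T : Over (Spec (CommRingCat.of K))} (g : T ⟶ G) : X ⊗ T ≅ X ⊗ T where
  hom := lift (lift (snd X T ≫ g) (fst X T) ≫ a.act) (snd X T)
  inv := lift (lift (snd X T ≫ g⁻¹) (fst X T) ≫ a.act) (snd X T)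
  hom_inv_id := by
    apply CartesianMonoidalCategory.hom_ext
    · rw [Category.assoc, lift_fst, ← Category.assoc, comp_lift, lift_snd_assoc, lift_fst, act_mul,
        ← MonObj.comp_mul, inv_mul_cancel, MonObj.comp_one, act_one, Category.id_comp]
    · simp
  inv_hom_id := by
    apply CartesianMonoidalCategory.hom_ext
    · rw [Category.assoc, lift_fst, ← Category.assoc, comp_lift, lift_snd_assoc, lift_fst, act_mul,
        ← MonObj.comp_mul, mul_inv_cancel, MonObj.comp_one, act_one, Category.id_comp]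
    · simp

instance {T : Over (Spec (CommRingCat.of K))} (g : T ⟶ G) : IsIso (transT a g).hom.left :=
  ((Over.forget _).mapIso (transT a g)).isIso_hom

theorem lift_transT {T U : Over (Spec (CommRingCat.of K))} (g : T ⟶ G) (y : U ⟶ X) (t : U ⟶ T) :
    lift y t ≫ (transT a g).hom = lift (lift (t ≫ g) y ≫ a.act) t := by
  simp only [transT]
  rw [comp_lift, ← Category.assoc, comp_lift, lift_snd_assoc, lift_fst, lift_snd]

/-- Left multiplication by a point with values in `T`. -/
noncomputable def mulT {T : Over (Spec (CommRingCat.of K))} (g : T ⟶ G) : G ⊗ T ≅ G ⊗ T where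
  hom := lift ((snd G T ≫ g) * fst G T) (snd G T)
  inv := lift ((snd G T ≫ g⁻¹) * fst G T) (snd G T)
  hom_inv_id := by
    apply CartesianMonoidalCategory.hom_ext
    · rw [Category.assoc, lift_fst, MonObj.comp_mul, lift_snd_assoc, lift_fst, ← _root_.mul_assoc,
        ← MonObj.comp_mul, inv_mul_cancel, MonObj.comp_one, _root_.one_mul, Category.id_comp]
    · simp
  inv_hom_id := by
    apply CartesianMonoidalCategory.hom_ext
    · rw [Category.assoc, lift_fst, MonObj.comp_mul, lift_snd_assoc, lift_fst, ← _root_.mul_assoc,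
        ← MonObj.comp_mul, mul_inv_cancel, MonObj.comp_one, _root_.one_mul, Category.id_comp]
    · simp

instance {T : Over (Spec (CommRingCat.of K))} (g : T ⟶ G) : IsIso (mulT g).hom.left :=
  ((Over.forget _).mapIso (mulT g)).isIso_hom

theorem lift_mulT {T U : Over (Spec (CommRingCat.of K))} (g : T ⟶ G) (y : U ⟶ G) (t : U ⟶ T) :
    lift y t ≫ (mulT g).hom = lift ((t ≫ g) * y) t := by
  simp only [mulT]
  rw [comp_lift, MonObj.comp_mul, lift_snd_assoc, lift_fst, lift_snd]

theorem mulT_orb {T : Over (Spec (CommRingCat.of K))} (g : T ⟶ G) (x : T ⟶ X) :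
    (mulT g).hom ≫ orb a x = orb a x ≫ (transT a g).hom := by
  rw [show (mulT g).hom = lift ((snd G T ≫ g) * fst G T) (snd G T) from rfl, lift_orb,
    show orb a x = lift (lift (fst G T) (snd G T ≫ x) ≫ a.act) (snd G T) from rfl, lift_transT, act_mul]

variable (hΦ : Surjective (lift a.act (snd G X)).left)
include hΦ

/-- The components through a geometric point of a homogeneous space. -/
theorem uniComp_geom {L : Type u} [Field L] [IsAlgClosed L] {φ : K →+* L} (x : spOf φ ⟶ X)
    {b c : (X ⊗ spOf φ).left} (hb : b ⤳ (lift x (𝟙 (spOf φ))).left (IsLocalRing.closedPoint L))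
    (hc : c ⤳ (lift x (𝟙 (spOf φ))).left (IsLocalRing.closedPoint L)) : ∃ e, e ⤳ b ∧ e ⤳ c := by
  obtain ⟨ξ, hξ, -⟩ := exists_isMaxPt ((lift x (𝟙 (spOf φ))).left (IsLocalRing.closedPoint L))
  obtain ⟨h₁, hh₁⟩ := (orb_surjective a hΦ x).surj ξ
  obtain ⟨L', _, _, φ', ψ, r, h, hr, hh⟩ := exists_geomPt_prod h₁
  let w : (spOf φ').left := IsLocalRing.closedPoint L'
  have hrw : r.left w = IsLocalRing.closedPoint L :=
    @Subsingleton.elim ↥(Spec (CommRingCat.of L)) inferInstance _ _
  let τ := (transT a h).hom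
  let x' : spOf φ' ⟶ X ⊗ spOf φ' := lift (r ≫ x) (𝟙 _)
  have hy : (X ◁ r).left (τ.left (x'.left w)) = ξ := by
    have e : x' ≫ τ ≫ (X ◁ r) = lift h r ≫ orb a x := by
      rw [← Category.assoc, lift_transT, lift_orb, lift_whiskerLeft, Category.id_comp, Category.id_comp]
    rw [← left_comp_apply, ← left_comp_apply, e, left_comp_apply, hh, hh₁]
  obtain ⟨ε, hεm, -, hε⟩ := exists_maxPt_over (hr ▸ isPullback_whiskerLeft X r) hξ
  have hgen : ∀ d, d ⤳ τ.left (x'.left w) → ε ⤳ d := fun d hd => hε d (by
    have h1 : (X ◁ r).left d ⤳ ξ := by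
      have := hd.map (X ◁ r).left.continuous
      rwa [hy] at this
    rw [hξ _ h1]
    exact subset_closure rfl)
  have hx' : (X ◁ r).left (x'.left w) = (lift x (𝟙 (spOf φ))).left (IsLocalRing.closedPoint L) := by
    have e : x' ≫ (X ◁ r) = r ≫ lift x (𝟙 _) := by simp [x']
    rw [← left_comp_apply, e, left_comp_apply, hrw]
  haveI : Flat (X ◁ r).left :=
    MorphismProperty.of_isPullback (P := @Flat) (hr ▸ isPullback_whiskerLeft X r).flip (flat_spec_map_field ψ)
  rw [← hx'] at hb hc
  obtain ⟨b', hb', rfl⟩ := Flat.generalizingMap (X ◁ r).left hb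
  obtain ⟨c', hc', rfl⟩ := Flat.generalizingMap (X ◁ r).left hc
  obtain ⟨e, he⟩ := τ.left.homeomorph.surjective ε
  refine ⟨(X ◁ r).left e, ?_, ?_⟩
  · exact (τ.left.homeomorph.isInducing.specializes_iff.mp
      (he ▸ hgen _ (hb'.map τ.left.continuous))).map (X ◁ r).left.continuous
  · exact (τ.left.homeomorph.isInducing.specializes_iff.mp
      (he ▸ hgen _ (hc'.map τ.left.continuous))).map (X ◁ r).left.continuous

/-- Every point of a homogeneous space lies on one irreducible component. -/
theorem uniComp : UniComp X.left := by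
  intro z b c hb hc
  obtain ⟨L, _, _, φ, x, rfl⟩ := exists_geomPt (X := X) z
  have hx' : (fst X (spOf φ)).left ((lift x (𝟙 (spOf φ))).left (IsLocalRing.closedPoint L)) =
      x.left (IsLocalRing.closedPoint L) := by
    rw [← left_comp_apply, lift_fst]
  rw [← hx'] at hb hc
  obtain ⟨b', hb', rfl⟩ := generalizing_fst φ hb
  obtain ⟨c', hc', rfl⟩ := generalizing_fst φ hc
  obtain ⟨e, he1, he2⟩ := uniComp_geom a hΦ x hb' hc'
  exact ⟨_, he1.map (fst X _).left.continuous, he2.map (fst X _).left.continuous⟩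

/-- The same after any extension of the base field. -/
theorem uniComp_bc {L : Type u} [Field L] (φ : K →+* L) : UniComp (X ⊗ spOf φ).left := by
  intro z b c hb hc
  obtain ⟨L', _, _, φ', y, rfl⟩ := exists_geomPt (X := X ⊗ spOf φ) z
  obtain ⟨ψ, hψ⟩ := Spec.map_surjective (y ≫ snd X (spOf φ)).left
  let r := y ≫ snd X (spOf φ)
  let x := y ≫ fst X (spOf φ)
  have hx' : (X ◁ r).left ((lift x (𝟙 (spOf φ'))).left (IsLocalRing.closedPoint L')) =
      y.left (IsLocalRing.closedPoint L') := by
    have e : lift x (𝟙 (spOf φ')) ≫ (X ◁ r) = y := by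
      rw [lift_whiskerLeft, Category.id_comp, ← comp_lift, lift_fst_snd, Category.comp_id]
    rw [← left_comp_apply, e]
  haveI : Flat (X ◁ r).left :=
    MorphismProperty.of_isPullback (P := @Flat) ((show r.left = Spec.map (CommRingCat.ofHom ψ.hom) from hψ.symm) ▸ isPullback_whiskerLeft X r).flip (flat_spec_map_field ψ.hom)
  rw [← hx'] at hb hc
  obtain ⟨b', hb', rfl⟩ := Flat.generalizingMap (X ◁ r).left hb
  obtain ⟨c', hc', rfl⟩ := Flat.generalizingMap (X ◁ r).left hc
  obtain ⟨e, he1, he2⟩ := uniComp_geom a hΦ x hb' hc'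
  exact ⟨_, he1.map (X ◁ r).left.continuous, he2.map (X ◁ r).left.continuous⟩

omit hΦ in
theorem IsMaxPt.of_fst {L : Type u} [Field L] {φ : K →+* L} {c : (X ⊗ spOf φ).left} (hc : IsMaxPt c) :
    IsMaxPt ((fst X (spOf φ)).left c) := hc.map (generalizing_fst φ)

variable {g : G.left} (hg : IsMaxPt g) (hge : g ⤳ η[G].left (IsLocalRing.closedPoint K))
include hg hge

/-- The orbit map of the neutral component is dominant on the component of a geometric point. -/
theorem exists_orb_eq_maxPt {L : Type u} [Field L] [IsAlgClosed L] {φ : K →+* L} (x : spOf φ ⟶ X)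
    {ξ : (X ⊗ spOf φ).left} (hξ : IsMaxPt ξ)
    (hξx : ξ ⤳ (lift x (𝟙 (spOf φ))).left (IsLocalRing.closedPoint L)) :
    ∃ g' : (G ⊗ spOf φ).left, (fst G (spOf φ)).left g' = g ∧ (orb a x).left g' = ξ := by
  obtain ⟨h₀, hh₀⟩ := (orb_surjective a hΦ x).surj ξ
  obtain ⟨h₁, hm₁, hh₁0⟩ := exists_isMaxPt h₀
  have hh₁ : (orb a x).left h₁ = ξ := hξ _ (hh₀ ▸ hh₁0.map (orb a x).left.continuous)
  obtain ⟨L', _, _, φ', ψ, r, h, hr, hh⟩ := exists_geomPt_prod h₁
  let w : (spOf φ').left := IsLocalRing.closedPoint L'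
  have hrw : r.left w = IsLocalRing.closedPoint L :=
    @Subsingleton.elim ↥(Spec (CommRingCat.of L)) inferInstance _ _
  let F := orb a (r ≫ x)
  let τ := (transT a h).hom
  let x' : spOf φ' ⟶ X ⊗ spOf φ' := lift (r ≫ x) (𝟙 _)
  obtain ⟨ξ', hξm, hξp, hξ'⟩ := exists_maxPt_over (hr ▸ isPullback_whiskerLeft X r) hξ
  obtain ⟨ε, hεm, hεp, hε⟩ := exists_maxPt_over (hr ▸ isPullback_whiskerLeft G r) hm₁
  have hξ'x : ξ' ⤳ x'.left w := hξ' _ (by
    have e : x' ≫ (X ◁ r) = r ≫ lift x (𝟙 _) := by simp [x']
    rw [← left_comp_apply, e, left_comp_apply, hrw]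
    exact hξx.mem_closure)
  have hFε : F.left ε = ξ' := by
    obtain ⟨z, hz1, hz2⟩ := Scheme.exists_preimage_of_isPullback (isPullback_orb a x r) h₁ ξ' (hh₁.trans hξp.symm)
    exact hξm _ (hz2 ▸ (hε z (by rw [hz1]; exact subset_closure rfl)).map F.left.continuous)
  obtain ⟨g'', hgm, hgu⟩ := exists_isMaxPt ((lift (1 : spOf φ' ⟶ G) (𝟙 (spOf φ'))).left w)
  let ρ := (mulT h).hom
  have hρε : ρ.left g'' = ε := by
    have e : lift (1 : spOf φ' ⟶ G) (𝟙 (spOf φ')) ≫ ρ ≫ (G ◁ r) = lift h r := by
      rw [← Category.assoc, lift_mulT, lift_whiskerLeft, Category.id_comp, Category.id_comp, _root_.mul_one]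
    have h1 : (G ◁ r).left (ρ.left g'') ⤳ h₁ := by
      have := hgu.map (ρ ≫ (G ◁ r)).left.continuous
      rwa [← left_comp_apply, e, hh] at this
    have h2 := hε (ρ.left g'') (by rw [hm₁ _ h1]; exact subset_closure rfl)
    exact ((hgm.map ρ.left.isOpenEmbedding.generalizingMap) ε h2).symm
  have hτξ : τ.left ξ' = ξ' := by
    have e : x' ≫ τ ≫ (X ◁ r) = lift h r ≫ orb a x := by
      rw [← Category.assoc, lift_transT, lift_orb, lift_whiskerLeft, Category.id_comp, Category.id_comp]
    have h1 : (X ◁ r).left (τ.left ξ') ⤳ ξ := by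
      have := hξ'x.map (τ ≫ (X ◁ r)).left.continuous
      rw [← left_comp_apply x' (τ ≫ (X ◁ r)), e] at this
      change _ ⤳ (orb a x).left ((lift h r).left w) at this
      rwa [show (lift h r).left w = h₁ from hh, hh₁] at this
    have h2 := hξ' (τ.left ξ') (by rw [hξ _ h1]; exact subset_closure rfl)
    exact ((hξm.map τ.left.isOpenEmbedding.generalizingMap) ξ' h2).symm
  have hFg : F.left g'' = ξ' := by
    refine τ.left.homeomorph.injective ?_
    show τ.left (F.left g'') = τ.left ξ'
    rw [hτξ, ← left_comp_apply, ← mulT_orb, left_comp_apply, hρε, hFε]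
  refine ⟨(G ◁ r).left g'', ?_, ?_⟩
  · rw [← left_comp_apply, whiskerLeft_fst]
    refine (IsMaxPt.of_fst hgm).eq GrpSchLib.uniComp hg ?_ hge
    have := hgu.map (fst G (spOf φ')).left.continuous
    rwa [← left_comp_apply, lift_fst, show (1 : spOf φ' ⟶ G) = toUnit _ ≫ η[G] from rfl, apply_pointSection] at this
  · rw [← left_comp_apply, whiskerLeft_orb, left_comp_apply, hFg, hξp]

end Groth.Agent.GrpSchLib.HomogTop
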