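import Groth.Agent.GrpSchLib.ImageFlat
import Groth.Agent.GrpSchLib.DomHom
import Mathlib.RingTheory.Artinian.Ring
import Mathlib.AlgebraicGeometry.Morphisms.Flat

/-! A scheme-theoretically dominant quasi-compact homomorphism of groups locally of finite type over a field is faithfully flat. -/

universe u

open CategoryTheory Limits AlgebraicGeometry MonoidalCategory CartesianMonoidalCategory MonObj
open scoped TensorProduct

namespace Groth.Agent.GrpSchLib.ImageFlatLft

open Groth.Agent.GrpSchLib.ImageFlat (surjective_sigmaDesc flat_sigmaDesc appTop_injective_sigmaDesc flat_of_pullback)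

variable {k : Type u} [Field k] {G H : Over (Spec (CommRingCat.of k))} [GrpObj G] [GrpObj H]
  [LocallyOfFiniteType G.hom] [LocallyOfFiniteType H.hom]

/-- A scheme-theoretically dominant quasi-compact homomorphism is faithfully flat. -/
theorem flat_surjective_of_dominant (f : G ⟶ H) [IsMonHom f] [QuasiCompact f.left] [IsSchemeTheoreticallyDominant f.left] :
    Flat f.left ∧ Surjective f.left := by
  classical
  haveI := AntiAffine.isSeparated_grp H
  haveI : LocallyOfFiniteType (f.left ≫ H.hom) := by rw [Over.w f]; infer_instance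
  haveI : LocallyOfFiniteType f.left := locallyOfFiniteType_of_comp f.left H.hom
  haveI : IsClosedImmersion (𝟙 H : H ⟶ H).left := inferInstanceAs (IsClosedImmersion (𝟙 H.left))
  haveI : Surjective f.left := (S18825.result k G H H f (𝟙 H) f (Category.comp_id f)).2
  refine ⟨?_, inferInstance⟩
  haveI : IsLocallyNoetherian H.left := LocallyOfFiniteType.isLocallyNoetherian H.hom
  haveI : IsSeparated (terminal.from H.left) := by
    rw [show terminal.from H.left = H.hom ≫ terminal.from _ from Subsingleton.elim _ _]
    infer_instance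
  haveI : H.left.IsSeparated := ⟨inferInstance⟩
  obtain ⟨ξ, hξ, -⟩ := exists_isMaxPt (η[H].left (IsLocalRing.closedPoint k))
  let A := H.left.presheaf.stalk ξ
  haveI : IsArtinianRing A := by
    refine isArtinianRing_iff_isNoetherianRing_krullDimLE_zero.mpr ⟨inferInstance, ?_⟩
    refine Ring.krullDimLE_zero_iff.mpr fun P hP => ?_
    have h1 : ∀ w, H.left.fromSpecStalk ξ w = ξ := fun w => by
      have : H.left.fromSpecStalk ξ w ∈ Set.range (H.left.fromSpecStalk ξ) := ⟨w, rfl⟩
      rw [Scheme.range_fromSpecStalk] at this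
      exact hξ _ this
    have h := (H.left.fromSpecStalk ξ).isEmbedding.injective
      ((h1 ⟨P, hP⟩).trans (h1 ⟨IsLocalRing.maximalIdeal _, inferInstance⟩).symm)
    have h' : P = IsLocalRing.maximalIdeal _ := congrArg PrimeSpectrum.asIdeal h
    rw [h']
    infer_instance
  let ιξ := H.left.fromSpecStalk ξ
  haveI : Flat ιξ := flat_fromSpecStalk ξ
  haveI : CompactSpace (pullback f.left ιξ : Scheme.{u}) :=
    (quasiCompact_iff_compactSpace (pullback.snd f.left ιξ ≫ 𝟙 _)).mp inferInstance
  let 𝒰 := (pullback f.left ιξ).affineCover.finiteSubcover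
  let C := ∐ 𝒰.X
  haveI : ∀ i, IsAffine (𝒰.X i) := fun i => inferInstanceAs (IsAffine ((pullback f.left ιξ).affineCover.X _))
  haveI : IsAffine C := inferInstance
  let π : Spec Γ(C, ⊤) ⟶ pullback f.left ιξ := C.isoSpec.inv ≫ Sigma.desc 𝒰.f
  haveI := surjective_sigmaDesc 𝒰
  haveI := flat_sigmaDesc 𝒰
  haveI : Flat π := inferInstance
  haveI : Surjective π := inferInstance
  let a : Spec Γ(C, ⊤) ⟶ G.left := π ≫ pullback.fst f.left ιξ
  let v : Spec Γ(C, ⊤) ⟶ Spec A := π ≫ pullback.snd f.left ιξ
  have hva : v ≫ ιξ = a ≫ f.left := by simp only [v, a, Category.assoc, pullback.condition]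
  haveI : Flat a := inferInstance
  obtain ⟨φ, hφ⟩ : ∃ φ : A ⟶ Γ(C, ⊤), Spec.map φ = v := ⟨_, Spec.map_preimage v⟩
  have hinj : Function.Injective φ.hom := by
    haveI : IsIso C.isoSpec.inv.appTop := inferInstanceAs (IsIso (Scheme.Γ.map C.isoSpec.inv.op))
    have h1 : Function.Injective π.appTop := by
      rw [Scheme.Hom.comp_appTop]
      exact (ConcreteCategory.bijective_of_isIso C.isoSpec.inv.appTop).1.comp (appTop_injective_sigmaDesc 𝒰)
    have h2 : Function.Injective v.appTop := by
      rw [Scheme.Hom.comp_appTop]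
      exact h1.comp ((pullback.snd f.left ιξ).app_injective ⊤)
    have h3 : φ ≫ (Scheme.ΓSpecIso _).inv = (Scheme.ΓSpecIso A).inv ≫ v.appTop := by
      rw [← hφ]; exact Scheme.ΓSpecIso_inv_naturality φ
    intro x y hxy
    refine (ConcreteCategory.bijective_of_isIso (Scheme.ΓSpecIso A).inv).1 (h2 ?_)
    have hx := ConcreteCategory.congr_hom h3 x
    have hy := ConcreteCategory.congr_hom h3 y
    simp only [ConcreteCategory.comp_apply] at hx hy
    rw [← hx, ← hy]
    exact congrArg _ hxy
  have hfl : Flat v := by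
    rw [← hφ]
    refine flat_of_pullback φ hinj ?_
    rw [hφ]
    obtain ⟨N, _, i, hi, _, _, hker⟩ := exists_kernel f
    obtain ⟨p, hp, hpe⟩ := exists_kernelPair_iso i f hker
    haveI : Flat (pullback.snd f.left f.left) := by
      haveI := hp
      rw [← IsIso.inv_hom_id_assoc p (pullback.snd f.left f.left), hpe]
      haveI : Flat (pullback.snd N.hom G.hom) := inferInstance
      exact MorphismProperty.comp_mem @Flat _ _ inferInstance ‹Flat (pullback.snd N.hom G.hom)›
    haveI : Flat (pullback.fst f.left f.left) := by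
      rw [← pullbackSymmetry_hom_comp_snd]; infer_instance
    haveI : Flat (pullback.fst (a ≫ f.left) f.left) := by
      rw [← pullbackRightPullbackFstIso_inv_fst]; infer_instance
    haveI : Flat (pullback.snd f.left (a ≫ f.left)) := by
      rw [← pullbackSymmetry_hom_comp_fst]; infer_instance
    haveI : Flat (pullback.snd (a ≫ f.left) (a ≫ f.left)) := by
      rw [← pullbackRightPullbackFstIso_inv_snd_snd f.left (a ≫ f.left) a]; infer_instance
    haveI : Flat (pullback.fst (a ≫ f.left) (a ≫ f.left)) := by
      rw [← pullbackSymmetry_hom_comp_snd]; infer_instance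
    have hk : IsKernelPair (v ≫ ιξ) (pullback.fst v v) (pullback.snd v v) := IsKernelPair.comp_of_mono (IsPullback.of_hasPullback v v)
    rw [hva] at hk
    rw [← hk.isoPullback_hom_fst]
    infer_instance
  haveI : Nontrivial Γ(C, ⊤) := hinj.nontrivial
  obtain ⟨b⟩ : Nonempty ↥(Spec Γ(C, ⊤)) := inferInstance
  have h4 : ((a ≫ f.left).stalkMap b).hom.Flat := by
    have : Flat (a ≫ f.left) := by rw [← hva]; infer_instance
    exact Flat.stalkMap (a ≫ f.left) b
  rw [Scheme.Hom.stalkMap_comp] at h4
  refine S5336.result k G H f ⟨a b, ?_⟩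
  exact Triage.CMMor.flat_of_comp (f.left.stalkMap (a b)).hom (a.stalkMap b).hom (Flat.stalkMap a b) h4


end Groth.Agent.GrpSchLib.ImageFlatLft
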