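import Groth.Agent.EGA41Lib.ConsX
import Groth.Agent.EGA41Lib.ConsQS
import Groth.Agent.ProConsLib.Image
import Mathlib.AlgebraicGeometry.Stalk
import Mathlib.AlgebraicGeometry.OpenImmersion

/-! A monomorphism representing the morphisms landing in an ind-constructible set is an open immersion. -/

set_option backward.isDefEq.respectTransparency false
set_option backward.isDefEq.respectTransparency.types false

universe u

open CategoryTheory Limits AlgebraicGeometry TopologicalSpace Topology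

namespace Groth.Agent.GrpSchLib.IndConsMono

variable {X Y : Scheme.{u}} (i : X ⟶ Y) [Mono i] {N : Set Y}
  (hrep : ∀ {T : Scheme.{u}} (g : T ⟶ Y), (∃ z, z ≫ i = g) ↔ Set.range g ⊆ N)

include hrep in
theorem range_subset : Set.range i ⊆ N :=
  (hrep i).1 ⟨𝟙 _, Category.id_comp _⟩

include hrep in
/-- The generic point of a local domain lies in the set if all other points do. -/
theorem bot_mem {A : Type u} [CommRing A] [IsDomain A] [IsLocalRing A]
    (hA : IsLocalRing.maximalIdeal A ≠ ⊥) (g : Spec (CommRingCat.of A) ⟶ Y)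
    (h : ∀ p : PrimeSpectrum A, p.asIdeal ≠ ⊥ → g p ∈ N) :
    g (⟨⊥, Ideal.bot_prime⟩ : PrimeSpectrum A) ∈ N := by
  classical
  let m : Spec (CommRingCat.of A) := (⟨IsLocalRing.maximalIdeal A, inferInstance⟩ : PrimeSpectrum A)
  let J := {a : Ideal A // a ≠ ⊥ ∧ a ≤ IsLocalRing.maximalIdeal A}
  let q : ∀ a : J, Spec (CommRingCat.of (A ⧸ a.1)) ⟶ Spec (CommRingCat.of A) :=
    fun a => Spec.map (CommRingCat.ofHom (Ideal.Quotient.mk a.1))
  have hq : ∀ (a : J) p, g (q a p) ∈ N := fun a p => h _ fun hp => a.2.1 <| eq_bot_iff.2 fun z hz => hp.le <| by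
    show Ideal.Quotient.mk a.1 z ∈ (show PrimeSpectrum (A ⧸ a.1) from p).asIdeal
    rw [Ideal.Quotient.eq_zero_iff_mem.2 hz]
    exact Ideal.zero_mem _
  choose φ hφ using fun a : J => (hrep (q a ≫ g)).2 (by rintro _ ⟨p, rfl⟩; exact hq a p)
  obtain ⟨z, hz⟩ : g m ∈ Set.range i := by
    let jm : J := ⟨IsLocalRing.maximalIdeal A, hA, le_rfl⟩
    haveI : (IsLocalRing.maximalIdeal A).IsPrime := inferInstance
    let p : Spec (CommRingCat.of (A ⧸ jm.1)) := (⟨⊥, Ideal.bot_prime⟩ : PrimeSpectrum (A ⧸ IsLocalRing.maximalIdeal A))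
    refine ⟨φ jm p, ?_⟩
    rw [← Scheme.Hom.comp_apply, hφ, Scheme.Hom.comp_apply]
    refine congrArg g (PrimeSpectrum.ext ?_)
    show Ideal.comap (Ideal.Quotient.mk _) ⊥ = _
    rw [← RingHom.ker_eq_comap_bot, Ideal.mk_ker]
  obtain ⟨O, hO, hzO, -⟩ := exists_isAffineOpen_mem_and_subset (show i z ∈ (⊤ : Y.Opens) from trivial)
  obtain ⟨W, hW, hzW, hWO⟩ := exists_isAffineOpen_mem_and_subset (show z ∈ i ⁻¹ᵁ O from hzO)
  have hinj : Function.Injective i := fun x₁ x₂ hx => by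
    obtain ⟨w, hw₁, hw₂⟩ := Scheme.Pullback.exists_preimage_pullback (f := i) (g := i) x₁ x₂ hx
    rw [← hw₁, ← hw₂]
    exact congrArg (fun k : pullback i i ⟶ X => k.base w)
      ((cancel_mono i).1 pullback.condition)
  have hφW : ∀ a : J, Set.range (φ a) ⊆ Set.range hW.fromSpec := by
    rintro a _ ⟨p, rfl⟩
    rw [hW.range_fromSpec]
    haveI : Nontrivial (A ⧸ a.1) := Ideal.Quotient.nontrivial_iff.2 fun e =>
      (IsLocalRing.maximalIdeal.isMaximal A).ne_top (top_le_iff.1 (e ▸ a.2.2))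
    haveI : IsLocalRing (A ⧸ a.1) := IsLocalRing.of_surjective' _ Ideal.Quotient.mk_surjective
    let c : Spec (CommRingCat.of (A ⧸ a.1)) := IsLocalRing.closedPoint (A ⧸ a.1)
    have hpc : p ⤳ c := (PrimeSpectrum.le_iff_specializes _ _).1
      (IsLocalRing.le_maximalIdeal (show PrimeSpectrum (A ⧸ a.1) from p).2.ne_top)
    refine (hpc.map (φ a).continuous).mem_open W.isOpen ?_
    have hc : φ a c = z := hinj (by
      rw [← Scheme.Hom.comp_apply, hφ, Scheme.Hom.comp_apply, hz]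
      refine congrArg g (PrimeSpectrum.ext ?_)
      exact IsLocalRing.eq_maximalIdeal (Ideal.comap_isMaximal_of_surjective _ Ideal.Quotient.mk_surjective
        (K := IsLocalRing.maximalIdeal (A ⧸ a.1))))
    rw [hc]
    exact hzW
  let ψ : ∀ a : J, Spec (CommRingCat.of (A ⧸ a.1)) ⟶ Spec Γ(X, W) :=
    fun a => IsOpenImmersion.lift hW.fromSpec (φ a) (hφW a)
  have hψ : ∀ a, ψ a ≫ hW.fromSpec = φ a := fun a => IsOpenImmersion.lift_fac _ _ _
  let γ : Spec Γ(X, W) ⟶ Spec Γ(Y, O) := IsOpenImmersion.lift hO.fromSpec (hW.fromSpec ≫ i) (by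
    rintro _ ⟨p, rfl⟩
    rw [hO.range_fromSpec, Scheme.Hom.comp_apply]
    refine hWO ?_
    show hW.fromSpec p ∈ (W : Set X)
    rw [← hW.range_fromSpec]
    exact ⟨p, rfl⟩)
  let δ : Spec (CommRingCat.of A) ⟶ Spec Γ(Y, O) := IsOpenImmersion.lift hO.fromSpec g (by
    rintro _ ⟨p, rfl⟩
    rw [hO.range_fromSpec]
    refine ((show p ⤳ m from (PrimeSpectrum.le_iff_specializes _ _).1
      (IsLocalRing.le_maximalIdeal (show PrimeSpectrum A from p).2.ne_top)).map g.continuous).mem_open O.isOpen ?_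
    rw [← hz]
    exact hzO)
  have hγ : γ ≫ hO.fromSpec = hW.fromSpec ≫ i := IsOpenImmersion.lift_fac _ _ _
  have hδ : δ ≫ hO.fromSpec = g := IsOpenImmersion.lift_fac _ _ _
  let B := ∀ a : J, A ⧸ a.1
  let θ : Γ(X, W) ⟶ CommRingCat.of B :=
    CommRingCat.ofHom (RingHom.pi fun a => (Spec.preimage (ψ a)).hom)
  let ι : CommRingCat.of A ⟶ CommRingCat.of B :=
    CommRingCat.ofHom (RingHom.pi fun a => Ideal.Quotient.mk a.1)
  have hcomm : Spec.preimage γ ≫ θ = Spec.preimage δ ≫ ι := by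
    ext r a
    have e : ψ a ≫ γ = q a ≫ δ := by
      rw [← cancel_mono hO.fromSpec, Category.assoc, Category.assoc, hγ, hδ, reassoc_of% hψ a, hφ]
    have e' : Spec.preimage γ ≫ Spec.preimage (ψ a) =
        Spec.preimage δ ≫ CommRingCat.ofHom (Ideal.Quotient.mk a.1) := by
      apply Spec.map_injective
      rw [Spec.map_comp, Spec.map_comp, Spec.map_preimage, Spec.map_preimage, Spec.map_preimage]
      exact e
    exact congrArg (fun k : Γ(Y, O) ⟶ CommRingCat.of (A ⧸ a.1) => k r) e'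
  have hΦ : (Spec.map θ ≫ hW.fromSpec) ≫ i = Spec.map ι ≫ g := by
    rw [Category.assoc, ← hγ, ← hδ, ← Category.assoc, ← Category.assoc]
    congr 1
    conv_lhs => rw [← Spec.map_preimage γ, ← Spec.map_comp, hcomm, Spec.map_comp, Spec.map_preimage]
  have hker : Function.Injective ι := by
    refine (injective_iff_map_eq_zero ι.hom).2 fun b hb => ?_
    by_contra hb0
    obtain ⟨t, ht, ht0⟩ := Submodule.exists_mem_ne_zero_of_ne_bot hA
    let a : J := ⟨Ideal.span {b * t}, by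
      rw [Ne, Ideal.span_singleton_eq_bot]; exact mul_ne_zero hb0 ht0,
      (Ideal.span_singleton_le_iff_mem _).2 (Ideal.mul_mem_left _ _ ht)⟩
    have hba : b ∈ a.1 := Ideal.Quotient.eq_zero_iff_mem.1 (congrFun hb a)
    obtain ⟨c, hc⟩ := Ideal.mem_span_singleton'.1 hba
    have h1 : b * (c * t) = b * 1 := by rw [mul_one, ← mul_assoc, mul_comm b c, mul_assoc]; exact hc
    have h2 : c * t = 1 := mul_left_cancel₀ hb0 h1
    exact (IsLocalRing.maximalIdeal.isMaximal A).ne_top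
      ((Ideal.eq_top_iff_one _).2 (h2 ▸ Ideal.mul_mem_left _ c ht))
  let M : Submonoid B := (nonZeroDivisors A).map ι.hom.toMonoidHom
  obtain ⟨P, hP, -, hPM⟩ := Ideal.exists_le_prime_disjoint (⊥ : Ideal B) M <| by
    rw [Set.disjoint_left]
    rintro _ hx ⟨s, hs, rfl⟩
    have h0 : s = 0 := hker (((Submodule.mem_bot B).1 hx).trans (map_zero ι.hom).symm)
    exact nonZeroDivisors.ne_zero hs h0
  let p : Spec (CommRingCat.of B) := (⟨P, hP⟩ : PrimeSpectrum B)
  have hp : Spec.map ι p = (⟨⊥, Ideal.bot_prime⟩ : PrimeSpectrum A) := by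
    refine PrimeSpectrum.ext ?_
    rw [eq_bot_iff]
    intro s hs
    by_contra hs0
    exact Set.disjoint_left.1 hPM hs ⟨s, mem_nonZeroDivisors_of_ne_zero hs0, rfl⟩
  refine range_subset i hrep ⟨hW.fromSpec (Spec.map θ p), ?_⟩
  rw [← hp, ← Scheme.Hom.comp_apply, ← Scheme.Hom.comp_apply, ← Category.assoc, hΦ, Scheme.Hom.comp_apply]

variable (hN : ProCons.IsIndConstructible N)

include hrep hN in
theorem mem_of_generization {x y : Y} (hx : x ∈ N) (h : y ⤳ x) : y ∈ N := by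
  by_contra hy
  let R := Y.presheaf.stalk x
  let g := Y.fromSpecStalk x
  let Q : Set (Spec R) := g ⁻¹' Nᶜ
  have hQ : SpecLib.CC Q :=
    EGA41Lib.cc_iff_pro.2 (ProConsLib.preimage (EGA41Lib.ind_iff_compl.1 hN) g)
  obtain ⟨p₀, hp₀⟩ : y ∈ Set.range g := by rw [Scheme.range_fromSpecStalk]; exact h
  let Q' : Set (Ideal R) := {I | ∃ q : PrimeSpectrum R, (q : Spec R) ∈ Q ∧ q.asIdeal = I}
  obtain ⟨I, -, hI⟩ := zorn_le_nonempty₀ Q' (fun c hc hch J₀ hJ₀ => by
    choose q hq hqI using hc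
    haveI : Nonempty c := ⟨⟨J₀, hJ₀⟩⟩
    have hdir : Directed (· ⊇ ·) fun J : c => Q ∩ PrimeSpectrum.zeroLocus (J : Set R) := by
      intro J K
      rcases hch.total J.2 K.2 with hle | hle
      · exact ⟨K, Set.inter_subset_inter_right _ (PrimeSpectrum.zeroLocus_anti_mono hle), subset_rfl⟩
      · exact ⟨J, subset_rfl, Set.inter_subset_inter_right _ (PrimeSpectrum.zeroLocus_anti_mono hle)⟩
    obtain ⟨v, hv⟩ := SpecLib.CC.nonempty_iInter _ hdir
      (fun J : c => ⟨q J.2, hq J.2, fun r hr => (hqI J.2).symm ▸ hr⟩)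
      (fun J : c => hQ.inter (SpecLib.cc_of_isClosed (PrimeSpectrum.isClosed_zeroLocus _)))
    rw [Set.mem_iInter] at hv
    exact ⟨(show PrimeSpectrum R from v).asIdeal, ⟨v, (hv ⟨J₀, hJ₀⟩).1, rfl⟩,
      fun J hJ => (hv ⟨J, hJ⟩).2⟩) (show PrimeSpectrum R from p₀).asIdeal
    ⟨p₀, show g p₀ ∈ Nᶜ from hp₀ ▸ hy, rfl⟩
  obtain ⟨⟨q, hq, hqI⟩, hmax⟩ := hI
  subst hqI
  have hmaxq : ∀ r : PrimeSpectrum R, q.asIdeal < r.asIdeal → g r ∈ N := fun r hr => by
    by_contra hrN
    exact hr.not_ge (hmax ⟨r, hrN, rfl⟩ hr.le)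
  haveI : Nontrivial (R ⧸ q.asIdeal) := Ideal.Quotient.nontrivial_iff.2 q.2.ne_top
  haveI : IsLocalRing (R ⧸ q.asIdeal) := IsLocalRing.of_surjective' _ Ideal.Quotient.mk_surjective
  let j : Spec (CommRingCat.of (R ⧸ q.asIdeal)) ⟶ Spec R :=
    Spec.map (CommRingCat.ofHom (Ideal.Quotient.mk q.asIdeal))
  have hj : j (⟨⊥, Ideal.bot_prime⟩ : PrimeSpectrum (R ⧸ q.asIdeal)) = q := by
    refine PrimeSpectrum.ext ?_
    show Ideal.comap (Ideal.Quotient.mk q.asIdeal) ⊥ = _
    rw [← RingHom.ker_eq_comap_bot, Ideal.mk_ker]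
  have hm : IsLocalRing.maximalIdeal (R ⧸ q.asIdeal) ≠ ⊥ := fun e => hq <| by
    show g q ∈ N
    have : q = IsLocalRing.closedPoint R := by
      refine PrimeSpectrum.ext ?_
      show q.asIdeal = IsLocalRing.maximalIdeal R
      rw [← IsLocalRing.eq_maximalIdeal (Ideal.comap_isMaximal_of_surjective _ Ideal.Quotient.mk_surjective
        (K := IsLocalRing.maximalIdeal (R ⧸ q.asIdeal))), e, ← RingHom.ker_eq_comap_bot, Ideal.mk_ker]
    rw [this, Scheme.fromSpecStalk_closedPoint]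
    exact hx
  refine hq ?_
  show g q ∈ N
  rw [← hj, ← Scheme.Hom.comp_apply]
  refine bot_mem i hrep hm (j ≫ g) fun p hp => ?_
  rw [Scheme.Hom.comp_apply]
  refine hmaxq _ (lt_of_le_of_ne (fun r hr => ?_) fun e => hp ?_)
  · show Ideal.Quotient.mk q.asIdeal r ∈ p.asIdeal
    rw [Ideal.Quotient.eq_zero_iff_mem.2 hr]
    exact Ideal.zero_mem _
  · have := congrArg (Ideal.map (Ideal.Quotient.mk q.asIdeal)) e
    rw [Ideal.map_quotient_self] at this
    exact ((Ideal.map_comap_of_surjective _ Ideal.Quotient.mk_surjective p.asIdeal).symm.trans this.symm)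

include hrep hN in
theorem isOpen : IsOpen N := by
  rw [← isClosed_compl_iff, ← closure_subset_iff_isClosed]
  intro y hy hyN
  obtain ⟨z, hz, hzy⟩ := ProConsLib.exists_specializes_of_mem_closure (EGA41Lib.ind_iff_compl.1 hN) hy
  exact hz (mem_of_generization i hrep hN hyN hzy)

include hrep hN in
theorem isOpenImmersion : IsOpenImmersion i ∧ Set.range i = N := by
  let U : Y.Opens := ⟨N, isOpen i hrep hN⟩
  obtain ⟨z, hz⟩ := (hrep U.ι).2 (Scheme.Opens.range_ι U).subset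
  let w : X ⟶ U.toScheme := IsOpenImmersion.lift U.ι i
    (by rw [Scheme.Opens.range_ι]; exact range_subset i hrep)
  have hw : w ≫ U.ι = i := IsOpenImmersion.lift_fac _ _ _
  haveI : IsIso w := ⟨z, by rw [← cancel_mono i, Category.assoc, hz, hw, Category.id_comp],
    by rw [← cancel_mono U.ι, Category.assoc, hw, hz, Category.id_comp]⟩
  refine ⟨hw ▸ inferInstanceAs (IsOpenImmersion (w ≫ U.ι)), subset_antisymm (range_subset i hrep) fun x hx => ?_⟩
  refine ⟨z ⟨x, hx⟩, ?_⟩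
  rw [← Scheme.Hom.comp_apply, hz]
  rfl

end Groth.Agent.GrpSchLib.IndConsMono
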