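import Groth.Agent.GrpSchLib.Neutral
import Groth.Agent.GrpSchLib.Loci
import Groth.Agent.GrpSchLib.MonoSubgroup
import Groth.Agent.SGA7X.SectionOpen
import Groth.Agent.S5324
import Mathlib.AlgebraicGeometry.Morphisms.Smooth

/-! The neutral components form a subgroup; near a smooth unit section it is an open smooth subgroup scheme. -/

set_option backward.isDefEq.respectTransparency false
set_option backward.isDefEq.respectTransparency.types false

universe u

open CategoryTheory Limits AlgebraicGeometry MonoidalCategory CartesianMonoidalCategory MonObj GrpObj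
  TopologicalSpace
open scoped CategoryTheory.Obj

namespace Groth.Agent.GrpSchLib.NeutralSub

variable {S : Scheme.{u}} {G : Over S} [GrpObj G]

/-- Over a field valued point the translation by a point of the neutral component preserves it. -/
theorem mul_mem_pts {T : Over S} [Subsingleton T.left] (g h : T ⟶ G) (t : T.left)
    (hg : g.left t ∈ SGA3x.neutralSet G) (hh : h.left t ∈ SGA3x.neutralSet G) :
    (g * h).left t ∈ SGA3x.neutralSet G ∧ (g⁻¹).left t ∈ SGA3x.neutralSet G := by
  let H := Red.bc T.hom G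
  let e : H.left := Neutral.unit H t
  let N : Set (G ⊗ T).left := (fst G T).left ⁻¹' SGA3x.neutralSet G
  have hN : N = SGA3x.neutralSet H := (Neutral.neutralSet_bc G T.hom).symm
  have huniv : SGA3x.neutralSet H = connectedComponent e := by
    ext x
    rw [Neutral.mem_neutralSet_iff]
    have h1 : H.hom ⁻¹' {H.hom x} = Set.univ :=
      Set.eq_univ_of_forall fun z => (Subsingleton.elim (α := ↥T.left) _ _ : H.hom z = H.hom x)
    rw [h1, connectedComponentIn_univ, Subsingleton.elim (α := ↥T.left) (H.hom x) t]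
  let sec : (T ⟶ G) → ↥(G ⊗ T).left := fun f => (lift f (𝟙 T)).left t
  have hsec : ∀ f : T ⟶ G, sec f ∈ N ↔ f.left t ∈ SGA3x.neutralSet G := fun f => by
    show (fst G T).left ((lift f (𝟙 T)).left t) ∈ SGA3x.neutralSet G ↔ f.left t ∈ SGA3x.neutralSet G
    rw [← Scheme.Hom.comp_apply, ← Over.comp_left, lift_fst]
  have hone : sec (1 : T ⟶ G) ∈ N := by
    rw [hsec, Hom.one_def, Over.comp_left, Scheme.Hom.comp_apply]
    exact Neutral.unit_mem_neutralSet G _
  have hconn : _root_.IsPreconnected N := hN ▸ huniv ▸ isPreconnected_connectedComponent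
  have key : ∀ (τ : G ⊗ T ⟶ G ⊗ T) (a b : T ⟶ G), sec a ∈ N → τ.left (sec 1) = sec a →
      b.left t ∈ SGA3x.neutralSet G → τ.left (sec b) ∈ N := by
    intro τ a b ha h1 hb
    have hN' : N = connectedComponent (sec a) := by
      rw [hN, huniv] at ha ⊢
      exact (connectedComponent_eq ha)
    have himg : τ.left '' N ⊆ connectedComponent (sec a) :=
      (hconn.image _ τ.left.continuous.continuousOn).subset_connectedComponent ⟨_, hone, h1⟩
    rw [hN']
    exact himg ⟨_, (hsec b).mpr hb, rfl⟩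
  constructor
  · let τ : G ⊗ T ⟶ G ⊗ T := lift ((snd G T ≫ g) * fst G T) (snd G T)
    have hτ : ∀ f : T ⟶ G, τ.left (sec f) = sec (g * f) := fun f => by
      show τ.left ((lift f (𝟙 T)).left t) = (lift (g * f) (𝟙 T)).left t
      rw [← Scheme.Hom.comp_apply, ← Over.comp_left]
      refine congrArg (fun q : T ⟶ G ⊗ T => q.left t) ?_
      apply CartesianMonoidalCategory.hom_ext <;> simp [τ, MonObj.comp_mul]
    have := key τ g h ((hsec g).mpr hg) (by rw [hτ, _root_.mul_one]) hh
    rwa [hτ, hsec] at this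
  · let τ : G ⊗ T ⟶ G ⊗ T := lift (fst G T)⁻¹ (snd G T)
    have hτ : ∀ f : T ⟶ G, τ.left (sec f) = sec f⁻¹ := fun f => by
      show τ.left ((lift f (𝟙 T)).left t) = (lift f⁻¹ (𝟙 T)).left t
      rw [← Scheme.Hom.comp_apply, ← Over.comp_left]
      refine congrArg (fun q : T ⟶ G ⊗ T => q.left t) ?_
      apply CartesianMonoidalCategory.hom_ext <;> simp [τ, GrpObj.comp_inv]
    have := key τ 1 g hone (by rw [hτ, inv_one]) hg
    rwa [hτ, hsec] at this

theorem mul_mem (p : (G ⊗ G).left) (h1 : (fst G G).left p ∈ SGA3x.neutralSet G)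
    (h2 : (snd G G).left p ∈ SGA3x.neutralSet G) : μ[G].left p ∈ SGA3x.neutralSet G := by
  let T : Over S := Over.mk ((G ⊗ G).left.fromSpecResidueField p ≫ (G ⊗ G).hom)
  let j : T ⟶ G ⊗ G := Over.homMk ((G ⊗ G).left.fromSpecResidueField p) rfl
  haveI : Subsingleton T.left := inferInstanceAs (Subsingleton (Spec ((G ⊗ G).left.residueField p)))
  let t : T.left := IsLocalRing.closedPoint ((G ⊗ G).left.residueField p)
  have hj : j.left t = p := Scheme.fromSpecResidueField_apply _ _
  have e : ∀ f : G ⊗ G ⟶ G, (j ≫ f).left t = f.left p := fun f => by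
    rw [Over.comp_left, Scheme.Hom.comp_apply, hj]
  have := (mul_mem_pts (j ≫ fst G G) (j ≫ snd G G) t (by rwa [e]) (by rwa [e])).1
  rwa [← MonObj.comp_mul, Hom.mul_def, lift_fst_snd, Category.id_comp, e] at this

theorem inv_mem (x : G.left) (hx : x ∈ SGA3x.neutralSet G) : ι[G].left x ∈ SGA3x.neutralSet G := by
  let T : Over S := Over.mk (G.left.fromSpecResidueField x ≫ G.hom)
  let j : T ⟶ G := Over.homMk (G.left.fromSpecResidueField x) rfl
  haveI : Subsingleton T.left := inferInstanceAs (Subsingleton (Spec (G.left.residueField x)))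
  let t : T.left := IsLocalRing.closedPoint (G.left.residueField x)
  have hj : j.left t = x := Scheme.fromSpecResidueField_apply _ _
  have := (mul_mem_pts j j t (by rwa [hj]) (by rwa [hj])).2
  rwa [Hom.inv_def, Over.comp_left, Scheme.Hom.comp_apply, hj] at this

/-- An open set of the neutral components is an open subgroup scheme. -/
theorem exists_openSubgroup (hO : IsOpen (SGA3x.neutralSet G)) :
    ∃ (G0 : Over S) (_ : GrpObj G0) (i : G0 ⟶ G), IsMonHom i ∧ IsOpenImmersion i.left ∧
      Set.range i.left = SGA3x.neutralSet G := by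
  let O : G.left.Opens := ⟨SGA3x.neutralSet G, hO⟩
  let G0 : Over S := Over.mk (O.ι ≫ G.hom)
  let i : G0 ⟶ G := Over.homMk O.ι rfl
  have hr : Set.range i.left = SGA3x.neutralSet G := Scheme.Opens.range_ι O
  haveI : IsOpenImmersion i.left := inferInstanceAs (IsOpenImmersion O.ι)
  haveI : Mono i := (Over.forget _).mono_of_mono_map (inferInstanceAs (Mono i.left))
  have hfac : ∀ {T : Over S} (g : T ⟶ G), (∀ t, g.left t ∈ SGA3x.neutralSet G) → ∃ z : T ⟶ G0, z ≫ i = g :=
    fun g hg => ⟨Over.homMk (IsOpenImmersion.lift i.left g.left (by rw [hr]; rintro _ ⟨t, rfl⟩; exact hg t))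
      (by rw [← Over.w i, IsOpenImmersion.lift_fac_assoc, Over.w g]),
      Over.OverMorphism.ext (IsOpenImmersion.lift_fac _ _ _)⟩
  obtain ⟨e, he⟩ := hfac η[G] fun t => Neutral.unit_mem_neutralSet G t
  obtain ⟨m, hm⟩ := hfac ((fst G0 G0 ≫ i) * (snd G0 G0 ≫ i)) fun t => by
    rw [Hom.mul_def, Over.comp_left, Scheme.Hom.comp_apply]
    refine mul_mem _ ?_ ?_ <;>
      rw [← Scheme.Hom.comp_apply, ← Over.comp_left]
    · rw [lift_fst, Over.comp_left, Scheme.Hom.comp_apply, ← hr]
      exact ⟨_, rfl⟩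
    · rw [lift_snd, Over.comp_left, Scheme.Hom.comp_apply, ← hr]
      exact ⟨_, rfl⟩
  obtain ⟨v, hv⟩ := hfac i⁻¹ fun t => by
    rw [Hom.inv_def, Over.comp_left, Scheme.Hom.comp_apply]
    exact inv_mem _ (hr ▸ ⟨t, rfl⟩)
  obtain ⟨str, hi⟩ := exists_grpObj_of_mono i e he m hm v hv
  exact ⟨G0, str, i, hi, inferInstance, hr⟩

/-- The trivial action on the terminal object. -/
noncomputable def trivAction : AlgGrp.Action G (𝟙_ (Over S)) where
  act := toUnit _
  one_act := toUnit_unique _ _
  mul_act := toUnit_unique _ _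

/-- Near a smooth unit section the group is smooth along the neutral components, whose union is open. -/
theorem main (hsm : ∃ U : G.left.Opens, Smooth (U.ι ≫ G.hom) ∧ ∀ p : ↥(𝟙_ (Over S)).left, η[G].left p ∈ U) :
    IsOpen (SGA3x.neutralSet G) ∧ ∀ x ∈ SGA3x.neutralSet G, x ∈ Loci.loc @Smooth G.hom := by
  let V : G.left.Opens := ⟨Loci.loc @Smooth G.hom, Loci.isOpen_loc _ _⟩
  have hV : Smooth (V.ι ≫ G.hom) := Loci.of_forall_mem @Smooth _ fun x => by
    obtain ⟨U, hxU, hU⟩ := x.2
    refine ⟨V.ι ⁻¹ᵁ U, hxU, ?_⟩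
    rw [← Category.assoc]
    haveI := hU
    rw [← morphismRestrict_ι V.ι U, Category.assoc]
    infer_instance
  have hu : (toUnit G).left = G.hom := (Category.comp_id _).symm.trans (Over.w (toUnit G))
  have hFL : Loci.FL (V.ι ≫ G.hom) := by haveI := hV; exact ⟨inferInstance, inferInstance⟩
  obtain ⟨h1, -, h3⟩ := Saturate.subgroup (a := trivAction) (u := toUnit G) (fun _ _ => toUnit_unique _ _)
    Loci.compat_smooth V hFL (fun x => by rw [hu]; rfl)
  obtain ⟨U, hU, heU⟩ := hsm
  have hUV : ∀ x ∈ U, x ∈ V := fun x hx => ⟨U, hx, hU⟩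
  have hsub : SGA3x.neutralSet G ⊆ (V : Set G.left) := fun x hx => by
    obtain ⟨p, hp1, hp2, hp⟩ := Neutral.exists_mul G hx V (hUV _ (heU _))
    exact hp ▸ h3 p hp1 hp2
  haveI := hV
  let e : S ⟶ V.toScheme := IsOpenImmersion.lift V.ι (η[G]).left (by
    rw [Scheme.Opens.range_ι]
    rintro _ ⟨t, rfl⟩
    exact hUV _ (heU t))
  have hei : e ≫ V.ι = (η[G]).left := IsOpenImmersion.lift_fac _ _ _
  have he : e ≫ V.ι ≫ G.hom = 𝟙 S := by rw [reassoc_of% hei]; exact Over.w η[G]
  have heq : SGA3x.neutralSet G = V.ι '' MoreMor.sectionComponents (V.ι ≫ G.hom) e := by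
    have hfib : ∀ s : S, (V.ι ≫ G.hom) ⁻¹' {s} = V.ι ⁻¹' (G.hom ⁻¹' {s}) := fun s => rfl
    have heu : ∀ s : S, V.ι (e s) = Neutral.unit G s := fun s => congrArg (fun f => f.base s) hei
    refine subset_antisymm (fun x hx => ?_) ?_
    · refine ⟨⟨x, hsub hx⟩, ?_, rfl⟩
      show (⟨x, hsub hx⟩ : V.toScheme) ∈ connectedComponentIn ((V.ι ≫ G.hom) ⁻¹' {G.hom x}) (e (G.hom x))
      have hC : connectedComponentIn (G.hom ⁻¹' {G.hom x}) (Neutral.unit G (G.hom x)) ⊆ Set.range V.ι := by
        intro y hy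
        rw [Scheme.Opens.range_ι]
        refine hsub ((Neutral.mem_neutralSet_iff G).mpr ?_)
        rwa [show G.hom y = G.hom x from connectedComponentIn_subset (G.hom ⁻¹' {G.hom x}) _ hy]
      refine _root_.IsPreconnected.subset_connectedComponentIn
        (s := V.ι ⁻¹' connectedComponentIn (G.hom ⁻¹' {G.hom x}) (Neutral.unit G (G.hom x))) ?_ ?_ ?_ ?_
      · rw [← V.ι.isEmbedding.isInducing.isPreconnected_image, Set.image_preimage_eq_of_subset hC]
        exact isPreconnected_connectedComponentIn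
      · show V.ι (e (G.hom x)) ∈ connectedComponentIn (G.hom ⁻¹' {G.hom x}) _
        rw [heu]
        exact mem_connectedComponentIn (Neutral.hom_unit G _)
      · exact fun w hw => (connectedComponentIn_subset (G.hom ⁻¹' {G.hom x}) _ hw : _)
      · exact (Neutral.mem_neutralSet_iff G).mp hx
    · rintro _ ⟨w, hw, rfl⟩
      rw [Neutral.mem_neutralSet_iff]
      refine (isPreconnected_connectedComponentIn.image _ V.ι.continuous.continuousOn).subset_connectedComponentIn
        ⟨_, mem_connectedComponentIn (show (V.ι ≫ G.hom) (e (G.hom (V.ι w))) = G.hom (V.ι w) from congrArg (fun f : S ⟶ S => f.base (G.hom (V.ι w))) he), heu _⟩ ?_ ⟨w, hw, rfl⟩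
      rintro _ ⟨z, hz, rfl⟩
      exact (connectedComponentIn_subset ((V.ι ≫ G.hom) ⁻¹' {(V.ι ≫ G.hom) w}) _ hz : _)
  refine ⟨?_, hsub⟩
  rw [heq]
  exact V.ι.isOpenEmbedding.isOpenMap _ (SGA7X.SectionOpen.isOpen_sectionComponents (V.ι ≫ G.hom) e he)

/-- The open subgroup scheme on the neutral components of a group smooth along the unit section. -/
theorem exists_smooth_openSubgroup
    (hsm : ∃ U : G.left.Opens, Smooth (U.ι ≫ G.hom) ∧ ∀ p : ↥(𝟙_ (Over S)).left, η[G].left p ∈ U) :
    ∃ (G0 : Over S) (_ : GrpObj G0) (i : G0 ⟶ G), IsMonHom i ∧ IsOpenImmersion i.left ∧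
      Set.range i.left = SGA3x.neutralSet G ∧ Smooth G0.hom ∧ QuasiCompact G0.hom := by
  obtain ⟨hO, hloc⟩ := main hsm
  obtain ⟨G0, str, i, hi, hoi, hr⟩ := exists_openSubgroup hO
  haveI := hoi
  have hsm0 : Smooth G0.hom := Loci.of_forall_mem @Smooth _ fun x => by
    obtain ⟨U, hxU, hU⟩ := hloc (i.left x) (hr ▸ ⟨x, rfl⟩)
    haveI := hU
    refine ⟨i.left ⁻¹ᵁ U, hxU, ?_⟩
    rw [← Over.w i, ← Category.assoc, ← morphismRestrict_ι i.left U, Category.assoc]
    infer_instance
  haveI := hsm0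
  refine ⟨G0, str, i, hi, hoi, hr, hsm0, S5324.result S G0 (fun s => ?_) fun s => ?_⟩
  · exact inferInstanceAs (LocallyOfFiniteType (pullback.snd G0.hom _))
  · have him : i.left '' (G0.hom ⁻¹' {s}) = connectedComponentIn (G.hom ⁻¹' {s}) (Neutral.unit G s) := by
      ext y
      constructor
      · rintro ⟨z, hz, rfl⟩
        have h1 : G.hom (i.left z) = s := (congrArg (fun f : G0.left ⟶ S => f.base z) (Over.w i)).trans hz
        have h2 : i.left z ∈ SGA3x.neutralSet G := hr ▸ ⟨z, rfl⟩
        rw [Neutral.mem_neutralSet_iff, h1] at h2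
        exact h2
      · intro hy
        have h1 : G.hom y = s := connectedComponentIn_subset (G.hom ⁻¹' {s}) _ hy
        obtain ⟨z, rfl⟩ : y ∈ Set.range i.left := by
          rw [hr, Neutral.mem_neutralSet_iff, h1]
          exact hy
        exact ⟨z, (congrArg (fun f : G0.left ⟶ S => f.base z) (Over.w i)).symm.trans h1, rfl⟩
    refine ⟨⟨Neutral.unit G0 s, Neutral.hom_unit G0 s⟩, ?_⟩
    rw [← i.left.isEmbedding.isInducing.isPreconnected_image, him]
    exact isPreconnected_connectedComponentIn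

end Groth.Agent.GrpSchLib.NeutralSub
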