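import Groth.Agent.GrpSchLib.NeutralOpenAt
import Groth.Agent.GrpSchLib.NeutralSub
import Groth.Agent.GrpSchLib.CoincidenceBase
import Mathlib.AlgebraicGeometry.Morphisms.FlatMono

/-! Coincidences of sections through the neutral components form a closed subscheme. -/

set_option backward.isDefEq.respectTransparency false
set_option backward.isDefEq.respectTransparency.types false

universe u

open CategoryTheory Limits AlgebraicGeometry MonoidalCategory CartesianMonoidalCategory MonObj GrpObj
  TopologicalSpace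
open scoped CategoryTheory.Obj

namespace Groth.Agent.GrpSchLib.NeutralCoincidence

/-- Equality at a residue field can be tested at a point above. -/
theorem eq_of_above {A B Y : Scheme.{u}} (f : A ⟶ B) (a : A) (q₁ q₂ : B ⟶ Y)
    (h : A.fromSpecResidueField a ≫ f ≫ q₁ = A.fromSpecResidueField a ≫ f ≫ q₂) :
    B.fromSpecResidueField (f a) ≫ q₁ = B.fromSpecResidueField (f a) ≫ q₂ := by
  let m := Spec.map (f.residueFieldMap a)
  haveI : Subsingleton ↥(Spec (B.residueField (f a))) := FibDim.subsingleton_spec_field _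
  haveI : Nonempty ↥(Spec (A.residueField a)) := ⟨IsLocalRing.closedPoint _⟩
  haveI : Surjective m := ⟨fun z => ⟨Classical.arbitrary _, Subsingleton.elim _ _⟩⟩
  haveI : Flat m := by
    letI : Field ↑(B.residueField (f a)) := inferInstance
    letI := (f.residueFieldMap a).hom.toAlgebra
    rw [HasRingHomProperty.Spec_iff (P := @Flat)]
    exact inferInstanceAs (Module.Flat (B.residueField (f a)) (A.residueField a))
  haveI : Epi m := Flat.epi_of_flat_of_surjective m
  rw [← cancel_epi m]
  have := Scheme.Hom.SpecMap_residueFieldMap_fromSpecResidueField f a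
  rw [← Category.assoc, ← Category.assoc, show m ≫ B.fromSpecResidueField (f a) =
    A.fromSpecResidueField a ≫ f from this, Category.assoc, Category.assoc]
  exact h

theorem eq_above {A B Y : Scheme.{u}} (f : A ⟶ B) (a : A) (q₁ q₂ : B ⟶ Y)
    (h : B.fromSpecResidueField (f a) ≫ q₁ = B.fromSpecResidueField (f a) ≫ q₂) :
    A.fromSpecResidueField a ≫ f ≫ q₁ = A.fromSpecResidueField a ≫ f ≫ q₂ := by
  rw [← Category.assoc, ← Category.assoc, ← Scheme.Hom.SpecMap_residueFieldMap_fromSpecResidueField f a,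
    Category.assoc, Category.assoc, h]

/-- The points of an equalizer. -/
theorem mem_range_equalizer_iff {S P Q : Scheme.{u}} (f : Q ⟶ S) (a b : P ⟶ Q) (hab : a ≫ f = b ≫ f) (p : P) :
    p ∈ Set.range (pullback.fst (pullback.lift a b hab) (pullback.diagonal f)) ↔
      P.fromSpecResidueField p ≫ a = P.fromSpecResidueField p ≫ b := by
  constructor
  · rintro ⟨z, rfl⟩
    exact eq_of_above _ z a b (by
      rw [← Category.assoc, ← Category.assoc]
      exact (factors_equalizer_iff f a b hab _).1 ⟨_, rfl⟩)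
  · intro h
    obtain ⟨l, hl⟩ := (factors_equalizer_iff f a b hab _).2 h
    exact ⟨l (IsLocalRing.closedPoint _),
      (congrArg (fun m : Spec (P.residueField p) ⟶ P => m (IsLocalRing.closedPoint _)) hl).trans
        (Scheme.fromSpecResidueField_apply _ _)⟩

variable {S : Scheme.{u}} {G : Over S}

/-- The points where two sections coincide. -/
def locus (σ τ : 𝟙_ (Over S) ⟶ G) : Set S :=
  {t | S.fromSpecResidueField t ≫ σ.left = S.fromSpecResidueField t ≫ τ.left}

variable [GrpObj G] [LocallyOfFinitePresentation G.hom]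

theorem isClosed_locus (hdim : IsLocallyConstant (fun s : S => topologicalKrullDim ↥(G.hom ⁻¹' {s})))
    (σ τ : 𝟙_ (Over S) ⟶ G) (hσ : Set.range σ.left ⊆ SGA3x.neutralSet G)
    (hτ : Set.range τ.left ⊆ SGA3x.neutralSet G) : IsClosed (locus σ τ) := by
  haveI : LocallyOfFiniteType G.hom := inferInstance
  rw [← isOpen_compl_iff, isOpen_iff_mem_nhds]
  intro t ht
  let δ : 𝟙_ (Over S) ⟶ G := τ * σ⁻¹
  have hδ : ∀ x, δ.left x ∈ SGA3x.neutralSet G := fun x => by
    show (τ * σ⁻¹).left x ∈ _
    rw [Hom.mul_def, Over.comp_left, Scheme.Hom.comp_apply]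
    refine NeutralSub.mul_mem _ ?_ ?_ <;> rw [← Scheme.Hom.comp_apply, ← Over.comp_left]
    · rw [lift_fst]; exact hτ ⟨x, rfl⟩
    · rw [lift_snd, Hom.inv_def, Over.comp_left, Scheme.Hom.comp_apply]
      exact NeutralSub.inv_mem _ (hσ ⟨x, rfl⟩)
  let r : G ⟶ G := (toUnit G ≫ δ) * 𝟙 G
  let r' : G ⟶ G := (toUnit G ≫ δ)⁻¹ * 𝟙 G
  have hrr : r' ≫ r = 𝟙 G := by simp [r, r', MonObj.comp_mul]
  have hu : (toUnit G).left = G.hom := (Category.comp_id _).symm.trans (Over.w (toUnit G))
  have hrfib : ∀ q : G ⟶ G, ∀ z, G.hom (q.left z) = G.hom z := fun q z =>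
    congrArg (fun m : G.left ⟶ S => m z) (Over.w q)
  have hpt : ∀ z, (toUnit G ≫ δ).left z = δ.left (G.hom z) := fun z => by
    rw [Over.comp_left, Scheme.Hom.comp_apply, hu]
    rfl
  obtain ⟨ξ, hξt, hξe, hgen, hmax⟩ := NeutralOpenAt.exists_generic G t
  have hξn := NeutralOpenAt.mem_neutralSet_of_specializes G hξt hξe
  have hrn : r.left ξ ∈ SGA3x.neutralSet G ∧ r'.left ξ ∈ SGA3x.neutralSet G := by
    constructor <;>
    · simp only [r, r']
      rw [Hom.mul_def, Over.comp_left, Scheme.Hom.comp_apply]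
      refine NeutralSub.mul_mem _ ?_ ?_ <;> rw [← Scheme.Hom.comp_apply, ← Over.comp_left]
      · rw [lift_fst]
        first
          | (rw [hpt]; exact hδ _)
          | (rw [Hom.inv_def, Over.comp_left, Scheme.Hom.comp_apply]
             refine NeutralSub.inv_mem _ ?_
             rw [hpt]; exact hδ _)
      · rw [lift_snd]
        exact hξn
  have hrξ : r.left ξ = ξ := by
    have h1 : ξ ⤳ r.left ξ := hgen _ hrn.1 ((hrfib r ξ).trans hξt)
    have h2 : r.left ξ ⤳ r.left (r'.left ξ) := (hgen _ hrn.2 ((hrfib r' ξ).trans hξt)).map r.left.continuous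
    rw [← Scheme.Hom.comp_apply, ← Over.comp_left, hrr] at h2
    exact (h2.antisymm h1).eq
  obtain ⟨U, hU, heU, -⟩ :=
    exists_isAffineOpen_mem_and_subset (show Neutral.unit G t ∈ (⊤ : G.left.Opens) from trivial)
  have hξU : ξ ∈ U := hξe.mem_open U.isOpen heU
  let W : G.left.Opens := U ⊓ r.left ⁻¹ᵁ U
  have hξW : ξ ∈ W := ⟨hξU, show r.left ξ ∈ U by rw [hrξ]; exact hξU⟩
  haveI : IsAffine (U : Scheme.{u}) := hU
  haveI : IsSeparated (U.ι ≫ G.hom) := by
    have : IsSeparated ((U.ι ≫ G.hom) ≫ terminal.from S) := inferInstance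
    exact IsSeparated.of_comp _ (terminal.from S)
  let a : (W : Scheme.{u}) ⟶ U := IsOpenImmersion.lift U.ι W.ι (by
    rw [Scheme.Opens.range_ι, Scheme.Opens.range_ι]; exact fun z hz => hz.1)
  let b : (W : Scheme.{u}) ⟶ U := IsOpenImmersion.lift U.ι (W.ι ≫ r.left) (by
    rw [Scheme.Opens.range_ι]; rintro _ ⟨z, rfl⟩; exact z.2.2)
  have hab : a ≫ U.ι ≫ G.hom = b ≫ U.ι ≫ G.hom := by
    rw [IsOpenImmersion.lift_fac_assoc, IsOpenImmersion.lift_fac_assoc, Category.assoc, Over.w r]
  have hcl := (exists_closed_equalizer (U.ι ≫ G.hom) a b hab).base_closed.isClosed_range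
  have key : ∀ w : (W : Scheme.{u}),
      w ∈ Set.range (pullback.fst (pullback.lift a b hab) (pullback.diagonal (U.ι ≫ G.hom))) ↔
        G.hom (W.ι w) ∈ locus σ τ := by
    intro w
    let T : Over S := Over.mk ((W : Scheme.{u}).fromSpecResidueField w ≫ W.ι ≫ G.hom)
    let j : T ⟶ G := Over.homMk ((W : Scheme.{u}).fromSpecResidueField w ≫ W.ι) (Category.assoc _ _ _)
    have hT : (toUnit T).left = (W : Scheme.{u}).fromSpecResidueField w ≫ W.ι ≫ G.hom :=
      (Category.comp_id _).symm.trans (Over.w (toUnit T))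
    have e1 : (W : Scheme.{u}).fromSpecResidueField w ≫ a =
        (W : Scheme.{u}).fromSpecResidueField w ≫ b ↔ j = j ≫ r := by
      rw [← cancel_mono U.ι, Category.assoc, Category.assoc, IsOpenImmersion.lift_fac,
        IsOpenImmersion.lift_fac]
      exact ⟨fun h => Over.OverMorphism.ext (h.trans (Category.assoc _ _ _).symm),
        fun h => (congrArg CommaMorphism.left h).trans (Category.assoc _ _ _)⟩
    have e2 : j = j ≫ r ↔ toUnit T ≫ σ = toUnit T ≫ τ := by
      simp only [r, δ, MonObj.comp_mul, GrpObj.comp_inv, Category.comp_id, ← Category.assoc,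
        toUnit_unique (j ≫ toUnit G) (toUnit T)]
      rw [eq_comm, mul_eq_right, mul_inv_eq_one, eq_comm]
    rw [mem_range_equalizer_iff, e1, e2]
    constructor
    · intro h
      have h' : (toUnit T).left ≫ σ.left = (toUnit T).left ≫ τ.left := congrArg CommaMorphism.left h
      rw [hT] at h'
      refine eq_of_above (W.ι ≫ G.hom) w σ.left τ.left ?_
      simpa only [Category.assoc] using h'
    · intro h
      refine Over.OverMorphism.ext ?_
      show (toUnit T).left ≫ σ.left = (toUnit T).left ≫ τ.left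
      rw [hT]
      simpa only [Category.assoc] using eq_above (W.ι ≫ G.hom) w σ.left τ.left h
  have hO : IsOpen (W.ι '' (Set.range (pullback.fst (pullback.lift a b hab)
      (pullback.diagonal (U.ι ≫ G.hom))))ᶜ) := W.ι.isOpenEmbedding.isOpenMap _ hcl.isOpen_compl
  have hξO : ξ ∈ W.ι '' (Set.range (pullback.fst (pullback.lift a b hab)
      (pullback.diagonal (U.ι ≫ G.hom))))ᶜ := by
    refine ⟨⟨ξ, hξW⟩, fun h => ht ?_, rfl⟩
    have := (key _).1 h
    rwa [show G.hom (W.ι ⟨ξ, hξW⟩) = t from hξt] at this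
  have hnhd := NeutralOpenAt.isOpenAt G hξn (fun t' ht' => le_of_eq (by
    have := ht'.mem_open (hdim.isOpen_fiber (topologicalKrullDim ↥(G.hom ⁻¹' {G.hom ξ}))) rfl
    exact this.symm)) _ (hO.mem_nhds hξO)
  rw [hξt] at hnhd
  refine Filter.mem_of_superset hnhd ?_
  rintro _ ⟨_, ⟨w, hw, rfl⟩, rfl⟩ hloc
  exact hw ((key w).2 hloc)

theorem isClosedImmersion (hdim : IsLocallyConstant (fun s : S => topologicalKrullDim ↥(G.hom ⁻¹' {s})))
    (σ τ : 𝟙_ (Over S) ⟶ G) (hσ : Set.range σ.left ⊆ SGA3x.neutralSet G)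
    (hτ : Set.range τ.left ⊆ SGA3x.neutralSet G) :
    IsClosedImmersion (pullback.fst (lift σ τ) (lift (𝟙 G) (𝟙 G))).left := by
  let i := pullback.fst (lift σ τ) (lift (𝟙 G) (𝟙 G))
  let p := pullback.snd (lift σ τ) (lift (𝟙 G) (𝟙 G))
  have hab : σ.left ≫ G.hom = τ.left ≫ G.hom := (Over.w σ).trans (Over.w τ).symm
  let i₀ := pullback.fst (pullback.lift σ.left τ.left hab) (pullback.diagonal G.hom)
  have hp1 : i ≫ σ = p := by
    have := congrArg (· ≫ fst G G) (pullback.condition (f := lift σ τ) (g := lift (𝟙 G) (𝟙 G)))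
    simpa [i, p] using this
  have hp2 : i ≫ τ = p := by
    have := congrArg (· ≫ snd G G) (pullback.condition (f := lift σ τ) (g := lift (𝟙 G) (𝟙 G)))
    simpa [i, p] using this
  obtain ⟨u, hu⟩ := (factors_equalizer_iff G.hom σ.left τ.left hab i.left).2
    (by rw [← Over.comp_left, ← Over.comp_left, hp1, hp2])
  let K : Over S := Over.mk (i₀ ≫ (𝟙_ (Over S)).hom)
  let k : K ⟶ 𝟙_ (Over S) := Over.homMk i₀ rfl
  have hk : k ≫ σ = k ≫ τ := Over.OverMorphism.ext ((factors_equalizer_iff G.hom σ.left τ.left hab i₀).1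
    ⟨𝟙 _, Category.id_comp _⟩)
  let v : K ⟶ pullback (lift σ τ) (lift (𝟙 G) (𝟙 G)) := pullback.lift k (k ≫ σ) (by
    apply CartesianMonoidalCategory.hom_ext <;> simp [hk])
  have hv : v.left ≫ i.left = i₀ := congrArg CommaMorphism.left (pullback.lift_fst k (k ≫ σ) _ : v ≫ i = k)
  haveI : Mono i₀ := inferInstanceAs (Mono (pullback.fst _ _))
  haveI : Mono (lift (𝟙 G) (𝟙 G)) :=
    SplitMono.mono ⟨fst G G, lift_fst _ _⟩
  haveI : Mono i.left := inferInstanceAs (Mono ((Over.forget S).map i))
  haveI : IsIso u := ⟨v.left, by rw [← cancel_mono i.left, Category.assoc, hv, hu, Category.id_comp],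
    by rw [← cancel_mono i₀, Category.assoc, hu, hv]; exact (Category.id_comp _).symm⟩
  haveI : IsImmersion i₀ := MorphismProperty.pullback_fst _ _ inferInstance
  haveI : IsClosedImmersion i₀ := by
    refine IsClosedImmersion.of_isPreimmersion _ ?_
    rw [show Set.range i₀ = locus σ τ from Set.ext fun t => mem_range_equalizer_iff G.hom σ.left τ.left hab t]
    exact isClosed_locus hdim σ τ hσ hτ
  show IsClosedImmersion i.left
  rw [← hu]
  exact (MorphismProperty.cancel_left_of_respectsIso @IsClosedImmersion u i₀).mpr inferInstance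

end Groth.Agent.GrpSchLib.NeutralCoincidence
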