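import Groth.Agent.GrpSchLib.FibreDimGrp
import Groth.Agent.FibDim.GenerizeDim
import Groth.Agent.FibDim.Comp
import Groth.Agent.FibDim.BaseField
import Groth.Prelude.Def_EGA43

/-! A group scheme with locally constant fibre dimension is universally open along its neutral components. -/

set_option backward.isDefEq.respectTransparency false
set_option backward.isDefEq.respectTransparency.types false

universe u

open CategoryTheory Limits AlgebraicGeometry MonoidalCategory CartesianMonoidalCategory MonObj GrpObj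
  TopologicalSpace
open scoped CategoryTheory.Obj

namespace Groth.Agent.GrpSchLib.NeutralOpenAt

variable {S : Scheme.{u}} (G : Over S) [GrpObj G]

/-- The neutral component of a fibre has a generic point. -/
theorem exists_generic [LocallyOfFiniteType G.hom] (s : S) :
    ∃ ξ : G.left, G.hom ξ = s ∧ ξ ⤳ Neutral.unit G s ∧
      (∀ x ∈ SGA3x.neutralSet G, G.hom x = s → ξ ⤳ x) ∧ FibDim.FibMax G.hom ξ := by
  haveI : LocallyOfFiniteType (Neutral.fib G s).hom :=
    inferInstanceAs (LocallyOfFiniteType (pullback.snd G.hom _))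
  obtain ⟨c, hc, hce⟩ := exists_isMaxPt ((η[Neutral.fib G s]).left (IsLocalRing.closedPoint (S.residueField s)))
  let π := pullback.fst G.hom (S.fromSpecResidueField s)
  have hπ : ∀ z, G.hom (π z) = s := fun z => by
    have : π z ∈ Set.range π := ⟨z, rfl⟩
    rw [show Set.range π = G.hom ⁻¹' {s} from Scheme.Hom.range_fiberι G.hom s] at this
    exact this
  have hξ : π c ⤳ Neutral.unit G s := by
    rw [← Neutral.fst_unit G s]
    exact hce.map π.continuous
  have hgen : ∀ x ∈ SGA3x.neutralSet G, G.hom x = s → π c ⤳ x := by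
    intro x hx hxs
    rw [Neutral.mem_neutralSet_iff, hxs, Neutral.connectedComponentIn_eq,
      connectedComponent_one (G := Neutral.fib G s) hc hce] at hx
    obtain ⟨y, hy, rfl⟩ := hx
    exact (specializes_iff_mem_closure.mpr hy).map π.continuous
  refine ⟨π c, hπ c, hξ, hgen, fun z' hz' hfz => ?_⟩
  have h1 : z' ∈ SGA3x.neutralSet G := by
    rw [Neutral.mem_neutralSet_iff]
    refine _root_.IsPreconnected.subset_connectedComponentIn (s := {z', Neutral.unit G (G.hom z')}) ?_
      (by simp) ?_ (by simp)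
    · have h := hz'.trans hξ
      rw [show Neutral.unit G (G.hom z') = Neutral.unit G s by rw [hfz, hπ]]
      exact isPreconnected_singleton.subset_closure (Set.singleton_subset_iff.2 (Set.mem_insert z' _))
        (Set.insert_subset (subset_closure (Set.mem_singleton z'))
          (Set.singleton_subset_iff.2 (specializes_iff_mem_closure.1 h)))
    · rintro w (rfl | rfl)
      · rfl
      · exact Neutral.hom_unit G _
  exact (hz'.antisymm (hgen z' h1 (hfz.trans (hπ c)))).eq

/-- A point of a fibre specializing to the unit lies in the neutral component. -/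
theorem mem_neutralSet_of_specializes {z : G.left} {s : S} (hz : G.hom z = s) (h : z ⤳ Neutral.unit G s) :
    z ∈ SGA3x.neutralSet G := by
  rw [Neutral.mem_neutralSet_iff, hz]
  refine _root_.IsPreconnected.subset_connectedComponentIn (s := {z, Neutral.unit G s}) ?_
    (by simp) ?_ (by simp)
  · exact isPreconnected_singleton.subset_closure (Set.singleton_subset_iff.2 (Set.mem_insert z _))
      (Set.insert_subset (subset_closure (Set.mem_singleton z))
        (Set.singleton_subset_iff.2 (specializes_iff_mem_closure.1 h)))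
  · rintro w (rfl | rfl)
    · exact hz
    · exact Neutral.hom_unit G _

variable [LocallyOfFiniteType G.hom]

/-- At a maximal point of its fibre the relative dimension is the dimension of the fibre. -/
theorem rd_eq {ξ : G.left} (h : FibDim.FibMax G.hom ξ) :
    topologicalKrullDim ↥(G.hom ⁻¹' {G.hom ξ}) = ((FibDim.rd G.hom ξ : ℕ∞) : WithBot ℕ∞) := by
  rw [← FibreDimGrp.fibreDimAt_eq, FibDim.fibreDimAt_eq_rd G.hom h]

/-- Generizations of the base point are covered near every point of its neutral component. -/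
theorem exists_generization {x : G.left} (hx : x ∈ SGA3x.neutralSet G) {t : S} (ht : t ⤳ G.hom x)
    (hdim : topologicalKrullDim ↥(G.hom ⁻¹' {G.hom x}) ≤ topologicalKrullDim ↥(G.hom ⁻¹' {t})) :
    ∃ g : G.left, g ⤳ x ∧ G.hom g = t := by
  obtain ⟨ξ, hξs, hξe, hgen, hmax⟩ := exists_generic G (G.hom x)
  obtain ⟨g, hgt, hge, -, hgmax⟩ := exists_generic G t
  have h : g ⤳ Neutral.unit G (G.hom x) := hge.trans (ht.map (Neutral.unit G).continuous)
  obtain ⟨z, hgz, hze, hfz, hle⟩ := FibDim.exists_rd_ge G.hom h
  rw [Neutral.hom_unit] at hfz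
  have hξz : ξ ⤳ z := by
    refine hgen z ?_ hfz
    rw [Neutral.mem_neutralSet_iff, hfz]
    refine _root_.IsPreconnected.subset_connectedComponentIn (s := {z, Neutral.unit G (G.hom x)}) ?_
      (by simp) ?_ (by simp)
    · exact isPreconnected_singleton.subset_closure (Set.singleton_subset_iff.2 (Set.mem_insert z _))
        (Set.insert_subset (subset_closure (Set.mem_singleton z))
          (Set.singleton_subset_iff.2 (specializes_iff_mem_closure.1 hze)))
    · rintro w (rfl | rfl)
      · exact hfz
      · exact Neutral.hom_unit G _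
  have hrd : FibDim.rd G.hom ξ ≤ FibDim.rd G.hom g := by
    have h1 := rd_eq G hmax
    have h2 := rd_eq G hgmax
    rw [hξs] at h1
    rw [hgt] at h2
    rw [h1, h2] at hdim
    exact_mod_cast hdim
  have hξz' : ξ = z := by
    by_contra hne
    have := FibDim.rd_lt G.hom hξz hne (hξs.trans hfz.symm)
    omega
  exact ⟨g, (hgz.trans (specializes_of_eq hξz'.symm)).trans (hgen x hx rfl), hgt⟩

/-- With constant fibre dimension near the image, the structure map is open at points of neutral components. -/
theorem isOpenAt [LocallyOfFinitePresentation G.hom] {x : G.left} (hx : x ∈ SGA3x.neutralSet G)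
    (hU : ∀ t, t ⤳ G.hom x → topologicalKrullDim ↥(G.hom ⁻¹' {G.hom x}) ≤ topologicalKrullDim ↥(G.hom ⁻¹' {t})) :
    EGA43.IsOpenAt G.hom.base x := by
  intro N hN
  obtain ⟨O, hON, hO, hxO⟩ := mem_nhds_iff.mp hN
  obtain ⟨W, hW, hxW, -⟩ := exists_isAffineOpen_mem_and_subset (show G.hom x ∈ (⊤ : S.Opens) from trivial)
  obtain ⟨V, hV, hxV, hVsub⟩ := exists_isAffineOpen_mem_and_subset
    (show x ∈ (⟨O, hO⟩ ⊓ G.hom ⁻¹ᵁ W : G.left.Opens) from ⟨hxO, hxW⟩)
  haveI : IsAffine (V : Scheme.{u}) := hV
  haveI : IsAffine (W : Scheme.{u}) := hW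
  let a := G.hom.resLE W V (fun z hz => (hVsub hz).2)
  haveI : LocallyOfFinitePresentation a := inferInstance
  haveI : IsAffineHom a := isAffineHom_of_isAffine _
  have ha : ∀ z, W.ι (a z) = G.hom (V.ι z) := fun z =>
    congrArg (fun m : V.toScheme ⟶ S => m.base z) (Scheme.Hom.resLE_comp_ι G.hom (fun z hz => (hVsub hz).2))
  let x' : V.toScheme := ⟨x, hxV⟩
  have hc : Set.range a ∈ nhds (a x') := by
    refine FibDim.mem_nhds_of_generizations ?_ fun t ht => ?_
    · rw [← Set.image_univ]
      exact a.isLocallyConstructible_image (Topology.IsLocallyConstructible.univ)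
    · have ht' : W.ι t ⤳ G.hom x := by
        have := ht.map W.ι.continuous
        rwa [ha] at this
      obtain ⟨g, hgx, hgt⟩ := exists_generization G hx ht' (hU _ ht')
      have hgV : g ∈ V := hgx.mem_open V.isOpen hxV
      exact ⟨⟨g, hgV⟩, W.ι.isOpenEmbedding.injective ((ha _).trans hgt)⟩
  have h2 : W.ι '' Set.range a ∈ nhds (W.ι (a x')) := W.ι.isOpenEmbedding.isOpenMap.image_mem_nhds hc
  rw [ha] at h2
  refine Filter.mem_of_superset h2 ?_
  rintro _ ⟨_, ⟨z, rfl⟩, rfl⟩
  exact ⟨V.ι z, hON (hVsub z.2).1, (ha z).symm⟩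

theorem dim_bc {S' : Scheme.{u}} (f : S' ⟶ S) (t : S') :
    topologicalKrullDim ↥((Red.bc f G).hom ⁻¹' {t}) = topologicalKrullDim ↥(G.hom ⁻¹' {f t}) := by
  let H := Red.bc f G
  let φ : Spec (S'.residueField t) ⟶ Spec (S.residueField (f t)) := Spec.map (f.residueFieldMap t)
  haveI : LocallyOfFiniteType H.hom := inferInstanceAs (LocallyOfFiniteType (pullback.snd G.hom f))
  have hφ : φ ≫ S.fromSpecResidueField (f t) = S'.fromSpecResidueField t ≫ f :=
    Scheme.Hom.SpecMap_residueFieldMap_fromSpecResidueField f t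
  let p : pullback H.hom (S'.fromSpecResidueField t) ⟶ pullback G.hom (S.fromSpecResidueField (f t)) :=
    pullback.map _ _ _ _ (pullback.fst G.hom f) φ f pullback.condition.symm hφ.symm
  have sq : IsPullback p (pullback.snd H.hom (S'.fromSpecResidueField t))
      (pullback.snd G.hom (S.fromSpecResidueField (f t))) φ := by
    refine IsPullback.of_right (h₁₂ := pullback.fst _ _) (h₂₂ := S.fromSpecResidueField (f t)) (v₁₃ := G.hom)
      ?_ (pullback.lift_snd _ _ _) (IsPullback.of_hasPullback _ _)
    rw [show p ≫ pullback.fst _ _ = pullback.fst H.hom _ ≫ pullback.fst G.hom f from pullback.lift_fst _ _ _, hφ]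
    exact (IsPullback.of_hasPullback H.hom _).paste_horiz (IsPullback.of_hasPullback G.hom f)
  haveI : Subsingleton ↥(Spec (S.residueField (f t))) := FibDim.subsingleton_spec_field _
  haveI : Subsingleton ↥(Spec (S'.residueField t)) := FibDim.subsingleton_spec_field _
  rw [← (G.hom.fiberHomeo (f t)).isHomeomorph.topologicalKrullDim_eq,
    ← (H.hom.fiberHomeo t).isHomeomorph.topologicalKrullDim_eq]
  exact FibDim.topologicalKrullDim_baseChange sq

variable [LocallyOfFinitePresentation G.hom]

/-- With constant fibre dimension near `s`, universal openness at the points of the neutral component. -/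
theorem isUnivOpenAt {x : G.left} (hx : x ∈ SGA3x.neutralSet G)
    (hU : ∀ t, t ⤳ G.hom x → topologicalKrullDim ↥(G.hom ⁻¹' {G.hom x}) ≤ topologicalKrullDim ↥(G.hom ⁻¹' {t})) :
    EGA43.IsUnivOpenAt G.hom x := by
  intro Y' g x' hx'
  haveI : LocallyOfFinitePresentation (Red.bc g G).hom :=
    inferInstanceAs (LocallyOfFinitePresentation (pullback.snd G.hom g))
  haveI : LocallyOfFiniteType (Red.bc g G).hom :=
    inferInstanceAs (LocallyOfFiniteType (pullback.snd G.hom g))
  have hmem : (x' : (Red.bc g G).left) ∈ SGA3x.neutralSet (Red.bc g G) := by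
    rw [Neutral.neutralSet_bc]
    show pullback.fst G.hom g x' ∈ SGA3x.neutralSet G
    rw [show pullback.fst G.hom g x' = x from hx']
    exact hx
  have hs : g ((Red.bc g G).hom x') = G.hom x := by
    rw [← show pullback.fst G.hom g x' = x from hx']
    exact (congrArg (fun m : pullback G.hom g ⟶ S => m.base x') pullback.condition).symm
  refine isOpenAt (Red.bc g G) hmem fun t ht => ?_
  rw [dim_bc, dim_bc, hs]
  exact hU _ (hs ▸ ht.map g.continuous)

/-- Universal openness at the generic point of a neutral component makes the dimension constant nearby. -/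
theorem exists_nhds_dim_eq {s : S}
    (h : ∀ ξ : G.left, G.hom ξ = s → ξ ⤳ Neutral.unit G s → FibDim.FibMax G.hom ξ → EGA43.IsUnivOpenAt G.hom ξ) :
    ∃ U : Set S, U ∈ nhds s ∧ ∀ t ∈ U,
      topologicalKrullDim ↥(G.hom ⁻¹' {t}) = topologicalKrullDim ↥(G.hom ⁻¹' {s}) := by
  obtain ⟨ξ, hξs, hξe, -, hmax⟩ := exists_generic G s
  obtain ⟨V, hsV, -, hcons⟩ := FibreDimGrp.locallyConstructible G s
  obtain ⟨n, hn⟩ := FibreDimGrp.exists_nat G s
  have hnrd : FibDim.rd G.hom ξ = n := by
    have := rd_eq G hmax
    rw [hξs, hn] at this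
    exact_mod_cast this.symm
  let d : WithBot ℕ∞ := topologicalKrullDim ↥(G.hom ⁻¹' {s})
  let L : Set V.toScheme := {t | topologicalKrullDim ↥(G.hom ⁻¹' {V.ι t}) = d}
  have hL : L ∈ nhds (⟨s, hsV⟩ : V.toScheme) := by
    refine FibDim.mem_nhds_of_generizations (Topology.IsConstructible.isLocallyConstructible (show Topology.IsConstructible L from hcons d)) fun t ht => ?_
    have ht' : V.ι t ⤳ s := ht.map V.ι.continuous
    refine le_antisymm ?_ ?_
    · have hle := ht'.mem_open (FibreDimGrp.isOpen_le G n) (show topologicalKrullDim ↥(G.hom ⁻¹' {s}) ≤ _ from hn.le)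
      exact hle.trans_eq hn.symm
    · obtain ⟨z, -, hz, hle⟩ := FibDim.exists_rd_ge_of_univOpenAt G.hom (h ξ hξs hξe hmax) ⊤ trivial
        (show V.ι t ⤳ G.hom ξ from hξs.symm ▸ ht')
      show topologicalKrullDim ↥(G.hom ⁻¹' {s}) ≤ topologicalKrullDim ↥(G.hom ⁻¹' {V.ι t})
      rw [hn, ← hz, ← FibreDimGrp.fibreDimAt_eq G z, ← hnrd]
      exact le_trans (by exact_mod_cast hle) (FibDim.rd_le_fibreDimAt G.hom (specializes_refl z) rfl)
  refine ⟨V.ι '' L, V.ι.isOpenEmbedding.isOpenMap.image_mem_nhds hL, ?_⟩
  rintro _ ⟨t, ht, rfl⟩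
  exact ht

end Groth.Agent.GrpSchLib.NeutralOpenAt
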