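import Groth.Agent.GrpSchLib.ComponentCons
import Groth.Agent.GrpSchLib.NeutralOpenAt
import Groth.Agent.GrpSchLib.NeutralSub
import Groth.Agent.AlgSpPts.Sep
import Groth.Prelude.Def_ProCons

/-! Constructibility of the union of the neutral components. -/

set_option backward.isDefEq.respectTransparency false
set_option backward.isDefEq.respectTransparency.types false

universe u

open CategoryTheory Limits AlgebraicGeometry MonoidalCategory CartesianMonoidalCategory MonObj GrpObj
  TopologicalSpace Topology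
open scoped CategoryTheory.Obj

namespace Groth.Agent.GrpSchLib.NeutralCons

variable {S : Scheme.{u}} (G : Over S) [GrpObj G]

/-- A point of a neutral component is a product of two points of neutral components near the unit. -/
theorem exists_mul [LocallyOfFiniteType G.hom] {x : G.left} (hx : x ∈ SGA3x.neutralSet G) (W : G.left.Opens)
    (he : Neutral.unit G (G.hom x) ∈ W) :
    ∃ p : (G ⊗ G).left, ((fst G G).left p ∈ W ∧ (fst G G).left p ∈ SGA3x.neutralSet G) ∧
      ((snd G G).left p ∈ W ∧ (snd G G).left p ∈ SGA3x.neutralSet G) ∧ μ[G].left p = x := by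
  let F := Over.pullback (S.fromSpecResidueField (G.hom x))
  let π := pullback.fst G.hom (S.fromSpecResidueField (G.hom x))
  haveI : LocallyOfFiniteType (Neutral.fib G (G.hom x)).hom :=
    inferInstanceAs (LocallyOfFiniteType (pullback.snd G.hom _))
  haveI : IsLocallyNoetherian (Neutral.fib G (G.hom x)).left :=
    LocallyOfFiniteType.isLocallyNoetherian (Neutral.fib G (G.hom x)).hom
  let e₁ := η[Neutral.fib G (G.hom x)].left (IsLocalRing.closedPoint (S.residueField (G.hom x)))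
  rw [Neutral.mem_neutralSet_iff, Neutral.connectedComponentIn_eq] at hx
  obtain ⟨y, hy, hyx⟩ := hx
  let V : Set (Neutral.fib G (G.hom x)).left := π ⁻¹' (W : Set G.left) ∩ connectedComponent e₁
  have hV : IsOpen V := (W.isOpen.preimage π.continuous).inter (isOpen_connectedComponent e₁)
  have heV : e₁ ∈ V := by
    refine ⟨?_, mem_connectedComponent⟩
    show π _ ∈ W
    rw [Neutral.fst_unit]
    exact he
  have hN : ∀ z ∈ V, π z ∈ W ∧ π z ∈ SGA3x.neutralSet G := fun z hz => by
    refine ⟨hz.1, ?_⟩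
    have h1 : G.hom (π z) = G.hom x := by
      have : π z ∈ Set.range π := ⟨z, rfl⟩
      rwa [show Set.range π = G.hom ⁻¹' {G.hom x} from Scheme.Hom.range_fiberι G.hom _] at this
    rw [Neutral.mem_neutralSet_iff, h1, Neutral.connectedComponentIn_eq]
    exact ⟨z, hz.2, rfl⟩
  obtain ⟨c, hc, hce⟩ := exists_isMaxPt e₁
  rw [connectedComponent_one (G := Neutral.fib G (G.hom x)) hc hce] at hy
  obtain ⟨p, ⟨hp1, hp2⟩, hp⟩ := exists_mul_eq_of_specializes
    (specializes_iff_mem_closure.mpr hy) hV heV (hce.mem_open hV heV)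
  refine ⟨pullback.fst (G ⊗ G).hom (S.fromSpecResidueField (G.hom x))
    ((Functor.LaxMonoidal.μ F G G).left p), ?_, ?_, ?_⟩
  · rw [← Neutral.map_fst, ← left_comp_apply, Functor.Monoidal.μ_fst]
    exact hN _ hp1
  · rw [← Neutral.map_fst, ← left_comp_apply, Functor.Monoidal.μ_snd]
    exact hN _ hp2
  · rw [← Neutral.map_fst, ← left_comp_apply]
    have h : μ[F.obj G] = Functor.LaxMonoidal.μ F G G ≫ F.map μ[G] := rfl
    rw [← h]
    exact (congrArg π hp).trans hyx

variable [LocallyOfFinitePresentation G.hom] {V : S.Opens} {W : G.left.Opens} (hV : IsAffineOpen V)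
  (hW : IsAffineOpen W) (hWV : W ≤ G.hom ⁻¹ᵁ V) (hu : V ≤ Neutral.unit G ⁻¹ᵁ W)

include hV hW hWV hu in
/-- The neutral components are constructible in an affine neighbourhood of the unit. -/
theorem isConstructible_inter :
    IsConstructible (W.ι ⁻¹' SGA3x.neutralSet G : Set W.toScheme) := by
  haveI : IsAffine (V : Scheme.{u}) := hV
  haveI : IsAffine (W : Scheme.{u}) := hW
  let a := G.hom.resLE V W hWV
  let e : V.toScheme ⟶ W.toScheme := (Neutral.unit G).resLE W V hu
  have hea : e ≫ a = 𝟙 _ := by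
    rw [← cancel_mono V.ι, Category.assoc, Scheme.Hom.resLE_comp_ι, Scheme.Hom.resLE_comp_ι_assoc,
      Category.id_comp]
    erw [Over.w η[G]]
    exact Category.comp_id _
  have ha : ∀ x, V.ι (a x) = G.hom (W.ι x) := fun x =>
    congrArg (fun m : W.toScheme ⟶ S => m.base x) (Scheme.Hom.resLE_comp_ι G.hom hWV)
  have heu : ∀ t, W.ι (e t) = Neutral.unit G (V.ι t) := fun t =>
    congrArg (fun m : V.toScheme ⟶ G.left => m.base t) (Scheme.Hom.resLE_comp_ι (Neutral.unit G) hu)
  have hae : ∀ t, a (e t) = t := fun t => congrArg (fun m : V.toScheme ⟶ V.toScheme => m.base t) hea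
  have hEN : MoreMor.sectionComponents a e = W.ι ⁻¹' SGA3x.neutralSet G := by
    ext x
    constructor
    · intro hx
      show W.ι x ∈ SGA3x.neutralSet G
      rw [Neutral.mem_neutralSet_iff]
      refine (isPreconnected_connectedComponentIn.image _ W.ι.continuous.continuousOn).subset_connectedComponentIn
        ⟨e (a x), mem_connectedComponentIn (hae _), by rw [heu, ha]⟩ ?_ ⟨x, hx, rfl⟩
      rintro _ ⟨y, hy, rfl⟩
      have h1 : a y = a x := connectedComponentIn_subset (a ⁻¹' {a x}) _ hy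
      show G.hom (W.ι y) = G.hom (W.ι x)
      rw [← ha, ← ha, h1]
    · intro hx
      obtain ⟨ξ, hξs, hξe, hgen, -⟩ := NeutralOpenAt.exists_generic G (G.hom (W.ι x))
      have hξW : ξ ∈ W := hξe.mem_open W.isOpen (by rw [← ha, ← heu]; exact (e (a x)).2)
      let w : W.toScheme := ⟨ξ, hξW⟩
      have haw : a w = a x := V.ι.isOpenEmbedding.injective ((ha w).trans (hξs.trans (ha x).symm))
      have hwe : w ⤳ e (a x) := W.ι.isOpenEmbedding.isInducing.specializes_iff.1
        (show ξ ⤳ W.ι (e (a x)) by rw [heu, ha]; exact hξe)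
      have hwx : w ⤳ x := W.ι.isOpenEmbedding.isInducing.specializes_iff.1 (hgen _ hx rfl)
      have hpair : ∀ y, w ⤳ y → _root_.IsPreconnected ({w, y} : Set W.toScheme) := fun y h =>
        isPreconnected_singleton.subset_closure (Set.singleton_subset_iff.2 (Set.mem_insert w _))
          (Set.insert_subset (subset_closure (Set.mem_singleton w))
            (Set.singleton_subset_iff.2 (specializes_iff_mem_closure.1 h)))
      have hwE : w ∈ MoreMor.sectionComponents a e :=
        SGA7X.SectionOpen.subset_sectionComponents a (hpair _ hwe) (s := a x)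
          (Set.insert_subset haw (Set.singleton_subset_iff.2 (hae (a x))))
          (Set.mem_insert_of_mem _ rfl) (by
            show e (a x) ∈ connectedComponentIn (a ⁻¹' {a (e (a x))}) (e (a (e (a x))))
            rw [hae]
            exact mem_connectedComponentIn (hae _)) (Set.mem_insert w _)
      exact SGA7X.SectionOpen.subset_sectionComponents a (hpair _ hwx) (s := a x)
        (Set.insert_subset haw (Set.singleton_subset_iff.2 rfl)) (Set.mem_insert w _) hwE
          (Set.mem_insert_of_mem _ rfl)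
  rw [← hEN]
  refine ComponentCons.isConstructible_sectionComponents a e hea fun Ω _ _ b => ?_
  let H := Red.bc (b ≫ V.ι) G
  haveI : LocallyOfFiniteType H.hom := inferInstanceAs (LocallyOfFiniteType (pullback.snd G.hom _))
  haveI : Subsingleton ↥(Spec (CommRingCat.of Ω)) := FibDim.subsingleton_spec_field Ω
  let q := pullback.fst a b
  let j : pullback a b ⟶ H.left :=
    pullback.map a b G.hom (b ≫ V.ι) W.ι (𝟙 _) V.ι (Scheme.Hom.resLE_comp_ι _ _) (Category.id_comp _).symm
  have hjq : j ≫ pullback.fst G.hom (b ≫ V.ι) = q ≫ W.ι := pullback.lift_fst _ _ _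
  let eΩ : Spec (CommRingCat.of Ω) ⟶ pullback a b :=
    pullback.lift (b ≫ e) (𝟙 _) (by rw [Category.assoc, hea, Category.comp_id, Category.id_comp])
  let C := MoreMor.sectionComponents (pullback.snd a b) eΩ
  show IsIrreducible C
  have hC : C = j ⁻¹' SGA3x.neutralSet H := by
    rw [show C = q ⁻¹' MoreMor.sectionComponents a e from S1324.result a e hea (pullback.snd a b) q b
      (IsPullback.of_hasPullback a b) eΩ (pullback.lift_snd _ _ _) (pullback.lift_fst _ _ _),
      hEN, Neutral.neutralSet_bc]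
    ext z
    exact iff_of_eq (congrArg (· ∈ SGA3x.neutralSet G)
      (congrArg (fun m : pullback a b ⟶ G.left => m.base z) hjq).symm)
  let t := IsLocalRing.closedPoint Ω
  obtain ⟨ξ, hξt, hξe, hgen, -⟩ := NeutralOpenAt.exists_generic H t
  have hξN : ξ ∈ SGA3x.neutralSet H := NeutralOpenAt.mem_neutralSet_of_specializes H hξt hξe
  have hj : Set.range j = pullback.fst G.hom (b ≫ V.ι) ⁻¹' (W : Set G.left) := by
    refine (Scheme.Pullback.range_map _ _ _ _ _ _ _ _ _).trans ?_
    simp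
  obtain ⟨w, hw⟩ : ξ ∈ Set.range j := by
    rw [hj]
    have h1 := hξe.map (pullback.fst G.hom (b ≫ V.ι)).continuous
    rw [Neutral.bc_unit] at h1
    refine h1.mem_open W.isOpen ?_
    show Neutral.unit G (V.ι (b t)) ∈ W
    exact hu (b t).2
  haveI : IsPreimmersion j := inferInstance
  have hw' : ∀ z ∈ C, w ⤳ z := fun z hz => by
    refine j.isEmbedding.isInducing.specializes_iff.1 ?_
    rw [hw]
    exact hgen _ (hC.le hz) (Subsingleton.elim _ _)
  refine isIrreducible_iff_closure.1 ?_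
  have : closure C = closure {w} := subset_antisymm
    (closure_minimal (fun z hz => (hw' z hz).mem_closure) isClosed_closure)
    (closure_mono (Set.singleton_subset_iff.2 (hC.ge (show j w ∈ SGA3x.neutralSet H from hw ▸ hξN))))
  rw [this]
  exact isIrreducible_singleton.closure

omit hV hW hWV hu in
set_option maxHeartbeats 1000000 in
/-- Near every point of the base the neutral components are the image of a constructible set. -/
theorem exists_param (s : S) : ∃ (V : S.Opens) (P : Scheme.{u}) (M : P ⟶ G.left) (r : P ⟶ V.toScheme) (K : Set P),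
    s ∈ V ∧ IsAffineOpen V ∧ IsAffine P ∧ LocallyOfFinitePresentation M ∧ r ≫ V.ι = M ≫ G.hom ∧
      IsConstructible K ∧ M '' K = SGA3x.neutralSet G ∩ G.hom ⁻¹' (V : Set S) := by
  obtain ⟨S₁, hS₁, hs₁, -⟩ := exists_isAffineOpen_mem_and_subset (show s ∈ (⊤ : S.Opens) from trivial)
  obtain ⟨U, hU, heU, hUS⟩ := exists_isAffineOpen_mem_and_subset
    (show Neutral.unit G s ∈ G.hom ⁻¹ᵁ S₁ by show G.hom (Neutral.unit G s) ∈ S₁; rwa [Neutral.hom_unit])
  obtain ⟨V, hV, hsV, hVU⟩ := exists_isAffineOpen_mem_and_subset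
    (show s ∈ S₁ ⊓ Neutral.unit G ⁻¹ᵁ U from ⟨hs₁, heU⟩)
  let W : G.left.Opens := U ⊓ G.hom ⁻¹ᵁ V
  have hWV : W ≤ G.hom ⁻¹ᵁ V := inf_le_right
  haveI : IsAffine (S₁ : Scheme.{u}) := hS₁
  haveI : IsAffine (U : Scheme.{u}) := hU
  haveI : IsAffine (V : Scheme.{u}) := hV
  have hW : IsAffineOpen W := by
    have hU' : U ≤ G.hom ⁻¹ᵁ S₁ := hUS
    have h1 : (G.hom.resLE S₁ U hU') ⁻¹ᵁ (S₁.ι ⁻¹ᵁ V) = U.ι ⁻¹ᵁ (G.hom ⁻¹ᵁ V) := by
      rw [← Scheme.Hom.comp_preimage, Scheme.Hom.resLE_comp_ι, Scheme.Hom.comp_preimage]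
    have h2 : IsAffineOpen (S₁.ι ⁻¹ᵁ V) := hV.preimage_of_isOpenImmersion S₁.ι (by
      rw [Scheme.Opens.opensRange_ι]; exact fun z hz => (hVU hz).1)
    haveI : IsAffineHom (G.hom.resLE S₁ U hU') := isAffineHom_of_isAffine _
    have h3 := h2.preimage (G.hom.resLE S₁ U hU')
    rw [h1] at h3
    have h4 := h3.image_of_isOpenImmersion U.ι
    rwa [Scheme.Hom.image_preimage_eq_opensRange_inf, Scheme.Opens.opensRange_ι] at h4
  haveI : IsAffine (W : Scheme.{u}) := hW
  have hu : V ≤ Neutral.unit G ⁻¹ᵁ W := fun t ht => ⟨(hVU ht).2, by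
    show G.hom (Neutral.unit G t) ∈ V
    rw [Neutral.hom_unit]
    exact ht⟩
  let a := G.hom.resLE V W hWV
  haveI : IsAffineHom a := isAffineHom_of_isAffine _
  haveI : IsAffine (pullback a a) := inferInstance
  let m : pullback a a ⟶ (G ⊗ G).left :=
    pullback.map a a G.hom G.hom W.ι W.ι V.ι (Scheme.Hom.resLE_comp_ι _ _) (Scheme.Hom.resLE_comp_ι _ _)
  have hE := isConstructible_inter G hV hW hWV hu
  let K : Set ↥(pullback a a) :=
    pullback.fst a a ⁻¹' (W.ι ⁻¹' SGA3x.neutralSet G) ∩ pullback.snd a a ⁻¹' (W.ι ⁻¹' SGA3x.neutralSet G)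
  have hm1 : m ≫ (fst G G).left = pullback.fst a a ≫ W.ι := pullback.lift_fst _ _ _
  have hm2 : m ≫ (snd G G).left = pullback.snd a a ≫ W.ι := pullback.lift_snd _ _ _
  have hr : (pullback.fst a a ≫ a) ≫ V.ι = (m ≫ μ[G].left) ≫ G.hom := by
    refine Eq.symm ?_
    rw [Category.assoc, Over.w μ[G], show (G ⊗ G).hom = pullback.fst G.hom G.hom ≫ G.hom from rfl,
      Category.assoc, Scheme.Hom.resLE_comp_ι]
    exact pullback.lift_fst_assoc _ _ _ _
  haveI : LocallyOfFinitePresentation (μ[G].left ≫ G.hom) := by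
    rw [Over.w μ[G]]
    exact inferInstanceAs (LocallyOfFinitePresentation (pullback.fst G.hom G.hom ≫ G.hom))
  haveI : LocallyOfFinitePresentation μ[G].left := AlgSpPts.locallyOfFinitePresentation_of_comp _ G.hom
  haveI : IsOpenImmersion m := inferInstance
  refine ⟨V, pullback a a, m ≫ μ[G].left, pullback.fst a a ≫ a, K, hsV, hV, inferInstance, inferInstance, hr,
    ((pullback.fst a a).isConstructible_preimage hE).inter ((pullback.snd a a).isConstructible_preimage hE), ?_⟩
  refine subset_antisymm ?_ ?_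
  · rintro _ ⟨k, ⟨hk1, hk2⟩, rfl⟩
    refine ⟨?_, ?_⟩
    · rw [Scheme.Hom.comp_apply]
      refine NeutralSub.mul_mem _ ?_ ?_
      · rw [← Scheme.Hom.comp_apply, hm1, Scheme.Hom.comp_apply]
        exact hk1
      · rw [← Scheme.Hom.comp_apply, hm2, Scheme.Hom.comp_apply]
        exact hk2
    · show G.hom ((m ≫ μ[G].left) k) ∈ V
      rw [← Scheme.Hom.comp_apply, ← hr, Scheme.Hom.comp_apply]
      exact ((pullback.fst a a ≫ a) k).2
  · rintro x ⟨hxN, hxV⟩
    obtain ⟨p, ⟨hp1, hp1'⟩, ⟨hp2, hp2'⟩, hp⟩ := exists_mul G hxN W (hu hxV)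
    have hrange : Set.range m = (fst G G).left ⁻¹' Set.range W.ι ∩ (snd G G).left ⁻¹' Set.range W.ι :=
      Scheme.Pullback.range_map _ _ _ _ _ _ _ _ _
    obtain ⟨q, hq⟩ : p ∈ Set.range m := by
      rw [hrange, Scheme.Opens.range_ι]; exact ⟨hp1, hp2⟩
    refine ⟨q, ⟨?_, ?_⟩, by rw [Scheme.Hom.comp_apply, hq]; exact hp⟩
    · show W.ι (pullback.fst a a q) ∈ SGA3x.neutralSet G
      rw [← Scheme.Hom.comp_apply, ← hm1, Scheme.Hom.comp_apply, hq]
      exact hp1'
    · show W.ι (pullback.snd a a q) ∈ SGA3x.neutralSet G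
      rw [← Scheme.Hom.comp_apply, ← hm2, Scheme.Hom.comp_apply, hq]
      exact hp2'

omit hV hW hWV hu in
theorem isIndConstructible : ProCons.IsIndConstructible (SGA3x.neutralSet G) := by
  intro x
  obtain ⟨V, P, M, r, K, hxV, hV, hP, hM, hr, hK, hMK⟩ := exists_param G (G.hom x)
  obtain ⟨O, hO, hxO, hOV⟩ := exists_isAffineOpen_mem_and_subset (show x ∈ G.hom ⁻¹ᵁ V from hxV)
  haveI : IsAffine (O : Scheme.{u}) := hO
  refine ⟨O, O.isOpen, hxO, {T | IsLocallyConstructible T ∧ ∀ z ∈ T, (z : G.left) ∈ SGA3x.neutralSet G},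
    fun T hT => hT.1, subset_antisymm ?_ ?_⟩
  · intro z hz
    obtain ⟨k, hk, hkz⟩ : (z : G.left) ∈ M '' K := by
      rw [hMK]; exact ⟨hz, hOV z.2⟩
    obtain ⟨P', hP', hkP', hP'O⟩ := exists_isAffineOpen_mem_and_subset
      (show k ∈ M ⁻¹ᵁ O by show M k ∈ O; rw [hkz]; exact z.2)
    haveI : IsAffine (P' : Scheme.{u}) := hP'
    let g := M.resLE O P' hP'O
    haveI : IsAffineHom g := isAffineHom_of_isAffine _
    have hg : ∀ y, O.ι (g y) = M (P'.ι y) := fun y =>
      congrArg (fun m : P'.toScheme ⟶ G.left => m.base y) (Scheme.Hom.resLE_comp_ι M hP'O)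
    refine Set.mem_sUnion.2 ⟨g '' (P'.ι ⁻¹' K), ⟨g.isLocallyConstructible_image
      (hK.isLocallyConstructible.preimage_of_isOpenEmbedding P'.ι.isOpenEmbedding), ?_⟩,
      ⟨⟨k, hkP'⟩, hk, O.ι.isOpenEmbedding.injective ((hg _).trans hkz)⟩⟩
    rintro _ ⟨y, hy, rfl⟩
    show O.ι (g y) ∈ SGA3x.neutralSet G
    rw [hg]
    exact (hMK.le ⟨_, hy, rfl⟩).1
  · rintro z ⟨T, hT, hzT⟩
    exact hT.2 z hzT

omit hV hW hWV hu in
theorem isLocallyConstructible [QuasiSeparated G.hom] :
    IsLocallyConstructible (SGA3x.neutralSet G) := by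
  choose V P M r K hsV hV hP hM hr hK hMK using exists_param G
  refine IsLocallyConstructible.of_isOpenCover (U := fun s => G.hom ⁻¹ᵁ V s)
    (IsOpenCover.mk <| eq_top_iff.2 fun x _ => Opens.mem_iSup.2 ⟨G.hom x, hsV _⟩) fun s => ?_
  haveI : IsAffine (V s : Scheme.{u}) := hV s
  haveI := hP s
  haveI := hM s
  let M' : P s ⟶ (G.hom ⁻¹ᵁ V s).toScheme := IsOpenImmersion.lift (G.hom ⁻¹ᵁ V s).ι (M s) (by
    rintro _ ⟨k, rfl⟩
    rw [Scheme.Opens.range_ι]
    show G.hom (M s k) ∈ V s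
    rw [← Scheme.Hom.comp_apply, ← hr s, Scheme.Hom.comp_apply]
    exact (r s k).2)
  have hM' : M' ≫ (G.hom ⁻¹ᵁ V s).ι = M s := IsOpenImmersion.lift_fac _ _ _
  haveI : QuasiCompact (M' ≫ G.hom ∣_ V s) :=
    (HasAffineProperty.iff_of_isAffine (P := @QuasiCompact)).2 (inferInstanceAs (CompactSpace (P s)))
  haveI : QuasiCompact M' := QuasiCompact.of_comp M' (G.hom ∣_ V s)
  haveI : LocallyOfFinitePresentation (M' ≫ (G.hom ⁻¹ᵁ V s).ι) := by rw [hM']; infer_instance
  haveI : LocallyOfFinitePresentation M' := AlgSpPts.locallyOfFinitePresentation_of_comp _ (G.hom ⁻¹ᵁ V s).ι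
  have h := M'.isLocallyConstructible_image (hK s).isLocallyConstructible
  show IsLocallyConstructible ((G.hom ⁻¹ᵁ V s).ι ⁻¹' SGA3x.neutralSet G : Set ↥(G.hom ⁻¹ᵁ V s).toScheme)
  rw [show ((G.hom ⁻¹ᵁ V s).ι ⁻¹' SGA3x.neutralSet G : Set ↥(G.hom ⁻¹ᵁ V s).toScheme) = M' '' K s from ?_]
  · exact h
  ext z
  constructor
  · intro hz
    obtain ⟨k, hk, hkz⟩ : (G.hom ⁻¹ᵁ V s).ι z ∈ M s '' K s := by rw [hMK]; exact ⟨hz, z.2⟩
    exact ⟨k, hk, (G.hom ⁻¹ᵁ V s).ι.isOpenEmbedding.injective
      ((congrArg (fun m : P s ⟶ G.left => m.base k) hM').trans hkz)⟩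
  · rintro ⟨k, hk, rfl⟩
    show (G.hom ⁻¹ᵁ V s).ι (M' k) ∈ SGA3x.neutralSet G
    rw [← Scheme.Hom.comp_apply, hM']
    exact ((hMK s).le ⟨k, hk, rfl⟩).1

omit hV hW hWV hu in
theorem isConstructible [QuasiSeparated G.hom] [CompactSpace S] [QuasiSeparatedSpace S] :
    IsConstructible (SGA3x.neutralSet G) := by
  choose V C hsV hV hC hCV hNC using Neutral.exists_compact G
  obtain ⟨σ, hσ⟩ := CompactSpace.elim_nhds_subcover (fun s => (V s : Set S))
    (fun s => (V s).isOpen.mem_nhds (hsV s))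
  haveI : QuasiSeparatedSpace G.left := quasiSeparatedSpace_of_quasiSeparated G.hom
  refine (isLocallyConstructible G).isConstructible_of_subset_of_isCompact (t := ⋃ s ∈ σ, C s) (fun x hx => ?_)
    (σ.isCompact_biUnion fun s _ => hC s)
  obtain ⟨s, hs, hxs⟩ := Set.mem_iUnion₂.1 (hσ.ge (Set.mem_univ (G.hom x)))
  exact Set.mem_iUnion₂.2 ⟨s, hs, hNC s ⟨hx, hxs⟩⟩

end Groth.Agent.GrpSchLib.NeutralCons
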