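import Groth.Agent.GrpSchLib.NeutralCoincidence
import Groth.Agent.GrpSchLib.Coincidence
import Groth.Agent.FibDim.AffineSpaceFibre
import Groth.Prelude.Def_AlgGrp

/-! Saturation of a separated open under the neutral components of an acting group. -/

set_option backward.isDefEq.respectTransparency false
set_option backward.isDefEq.respectTransparency.types false

universe u

open CategoryTheory Limits AlgebraicGeometry MonoidalCategory CartesianMonoidalCategory MonObj GrpObj
  TopologicalSpace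
open scoped CategoryTheory.Obj

namespace Groth.Agent.GrpSchLib.NeutralMulOpen

/-- The base points whose neutral component meets an open set form an open set. -/
theorem isOpen_meets {T : Scheme.{u}} (H : Over T) [GrpObj H] [LocallyOfFiniteType H.hom]
    (hdim : IsLocallyConstant (fun t : T => topologicalKrullDim ↥(H.hom ⁻¹' {t}))) (A : H.left.Opens) :
    IsOpen {t : T | ∃ x ∈ SGA3x.neutralSet H, H.hom x = t ∧ x ∈ A} := by
  rw [isOpen_iff_forall_mem_open]
  rintro t ⟨x, hx, hxt, hxA⟩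
  obtain ⟨n, hn⟩ := FibreDimGrp.exists_nat H t
  let Z : Closeds H.left := ⟨(A : Set H.left)ᶜ, A.isOpen.isClosed_compl⟩
  let D := Scheme.IdealSheafData.vanishingIdeal Z
  let j := D.subschemeι
  have hj : Set.range j = (A : Set H.left)ᶜ := by
    rw [Scheme.IdealSheafData.range_subschemeι]
    rfl
  have hrd : ∀ z, FibDim.rd (j ≫ H.hom) z = FibDim.rd H.hom (j z) := fun z => by
    rw [CycLib.rd_comp, FibDim.rd_eq_zero_of_quasiFinite j, add_zero]
  let bad : Set H.left := j '' {z | ¬ FlatMor.fibreDimAt (j ≫ H.hom) z < (n : WithBot ℕ∞)}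
  have hbad : IsClosed bad := by
    refine j.isClosedEmbedding.isClosedMap _ ?_
    show IsClosed {z | FlatMor.fibreDimAt (j ≫ H.hom) z < (n : WithBot ℕ∞)}ᶜ
    rw [isClosed_compl_iff]
    rcases n with _ | m
    · convert isOpen_empty using 1
      refine Set.eq_empty_of_forall_notMem fun z hz => ?_
      obtain ⟨z', -, -, he, -⟩ := FibDim.exists_fibreDimAt_eq (j ≫ H.hom) z
      have hz' : FlatMor.fibreDimAt (j ≫ H.hom) z < ((0 : ℕ) : WithBot ℕ∞) := hz
      rw [he] at hz'
      have : FibDim.rd (j ≫ H.hom) z' < 0 := by exact_mod_cast hz'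
      omega
    · convert FibDim.isOpen_fibreDimAt_le (j ≫ H.hom) m using 1
      ext z
      obtain ⟨z', -, -, he, -⟩ := FibDim.exists_fibreDimAt_eq (j ≫ H.hom) z
      simp only [Set.mem_ofPred_eq, he]
      norm_cast
      omega
  have key : ∀ s : T, topologicalKrullDim ↥(H.hom ⁻¹' {s}) = (n : WithBot ℕ∞) →
      (Neutral.unit H s ∉ bad ↔ ∃ x ∈ SGA3x.neutralSet H, H.hom x = s ∧ x ∈ A) := by
    intro s hs
    obtain ⟨ξ, hξs, hξe, hgen, hmax⟩ := NeutralOpenAt.exists_generic H s
    have hrdξ : FibDim.rd H.hom ξ = n := by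
      have h := NeutralOpenAt.rd_eq H hmax
      rw [hξs, hs] at h
      exact_mod_cast h.symm
    constructor
    · intro h
      refine ⟨ξ, NeutralOpenAt.mem_neutralSet_of_specializes H hξs hξe, hξs, ?_⟩
      by_contra hξA
      obtain ⟨w, hw⟩ : ξ ∈ Set.range j := hj ▸ hξA
      obtain ⟨v, hv⟩ : Neutral.unit H s ∈ Set.range j :=
        hξe.mem_closed j.isClosedEmbedding.isClosed_range ⟨w, hw⟩
      refine h ⟨v, ?_, hv⟩
      show ¬ _ < _
      rw [not_lt]
      refine le_trans ?_ (FibDim.fibreDimAt_ge_rd (j ≫ H.hom) (show w ⤳ v from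
        j.isEmbedding.isInducing.specializes_iff.1 (by rw [hw, hv]; exact hξe)))
      rw [hrd, hw, hrdξ]
      rfl
    · rintro ⟨x, hx, hxs, hxA⟩ ⟨v, hv, hve⟩
      have hξA : ξ ∈ A := (hgen x hx hxs).mem_open A.isOpen hxA
      obtain ⟨z, hz, hfz, he, -⟩ := FibDim.exists_fibreDimAt_eq (j ≫ H.hom) v
      have hv' : ¬ FlatMor.fibreDimAt (j ≫ H.hom) v < (n : WithBot ℕ∞) := hv
      rw [not_lt, he, hrd] at hv'
      have hzs : H.hom (j z) = s := hfz.trans (by
        show H.hom (j v) = s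
        rw [hve, Neutral.hom_unit])
      have hje : j z ⤳ Neutral.unit H s := hve ▸ hz.map j.continuous
      have hξz : ξ ⤳ j z := hgen _ (NeutralOpenAt.mem_neutralSet_of_specializes H hzs hje) hzs
      have hne : ξ ≠ j z := fun h => absurd (hj.le ⟨z, h.symm⟩) (fun h' => h' hξA)
      have h1 := FibDim.rd_lt H.hom hξz hne (hξs.trans hzs.symm)
      have h2 : n ≤ FibDim.rd H.hom (j z) := by exact_mod_cast hv'
      omega
  refine ⟨{s | topologicalKrullDim ↥(H.hom ⁻¹' {s}) = (n : WithBot ℕ∞)} ∩ Neutral.unit H ⁻¹' badᶜ,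
    fun s ⟨hs, hs'⟩ => (key s hs).1 hs',
    (hdim.isOpen_fiber _).inter (hbad.isOpen_compl.preimage (Neutral.unit H).continuous),
    hn, (key t hn).2 ⟨x, hx, hxt, hxA⟩⟩

variable {S : Scheme.{u}} {G X : Over S} [GrpObj G] (a : AlgGrp.Action G X)

theorem act_inj {T : Over S} (g : T ⟶ G) (x y : T ⟶ X) (h : lift g x ≫ a.act = lift g y ≫ a.act) : x = y := by
  have hmul : ∀ z : T ⟶ X, lift g⁻¹ (lift g z ≫ a.act) ≫ a.act = z := by
    intro z
    have h1 : lift (g⁻¹ * g) z = lift (lift g⁻¹ g) z ≫ (μ[G] ▷ X) := by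
      rw [lift_whiskerRight, Hom.mul_def]
    have h2 : lift (1 : T ⟶ G) z = lift (toUnit T) z ≫ (η[G] ▷ X) := by
      rw [lift_whiskerRight, Hom.one_def]
    have : lift g⁻¹ (lift g z ≫ a.act) ≫ a.act = lift (g⁻¹ * g) z ≫ a.act := by
      rw [h1, Category.assoc, a.mul_act]
      simp [lift_lift_associator_hom_assoc, lift_whiskerLeft_assoc]
    rw [this, inv_mul_cancel, h2, Category.assoc, a.one_act, lift_leftUnitor_hom]
  rw [← hmul x, h, hmul]

/-- The image in the statement, as the points whose neutral orbit meets `U`. -/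
theorem image_eq (U : X.left.Opens) :
    a.act.left '' {z : ↥(G ⊗ X).left | (fst G X).left z ∈ SGA3x.neutralSet G ∧ (snd G X).left z ∈ U} =
      (snd G X).left '' {z : ↥(G ⊗ X).left | (fst G X).left z ∈ SGA3x.neutralSet G ∧ a.act.left z ∈ U} := by
  let σ : G ⊗ X ⟶ G ⊗ X := lift (fst G X)⁻¹ a.act
  have h1 : σ ≫ snd G X = a.act := lift_snd _ _
  have h2 : σ ≫ a.act = snd G X := by
    have hh : lift (fst G X)⁻¹ a.act ≫ a.act = snd G X := by
      have h1 : lift ((fst G X)⁻¹ * fst G X) (snd G X) =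
          lift (lift (fst G X)⁻¹ (fst G X)) (snd G X) ≫ (μ[G] ▷ X) := by
        rw [lift_whiskerRight, Hom.mul_def]
      have h2 : lift (1 : G ⊗ X ⟶ G) (snd G X) = lift (toUnit (G ⊗ X)) (snd G X) ≫ (η[G] ▷ X) := by
        rw [lift_whiskerRight, Hom.one_def]
      have : lift (fst G X)⁻¹ a.act ≫ a.act = lift ((fst G X)⁻¹ * fst G X) (snd G X) ≫ a.act := by
        rw [h1, Category.assoc, a.mul_act]
        simp [lift_lift_associator_hom_assoc, lift_whiskerLeft_assoc, lift_fst_snd]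
      rw [this, inv_mul_cancel, h2, Category.assoc, a.one_act, lift_leftUnitor_hom]
    exact hh
  have hσ : ∀ z, (fst G X).left z ∈ SGA3x.neutralSet G → (fst G X).left (σ.left z) ∈ SGA3x.neutralSet G := by
    intro z hz
    rw [← Scheme.Hom.comp_apply, ← Over.comp_left, lift_fst, Hom.inv_def, Over.comp_left, Scheme.Hom.comp_apply]
    exact NeutralSub.inv_mem _ hz
  ext y
  constructor
  · rintro ⟨z, ⟨hz1, hz2⟩, rfl⟩
    refine ⟨σ.left z, ⟨hσ z hz1, ?_⟩, ?_⟩
    · rw [← Scheme.Hom.comp_apply, ← Over.comp_left, h2]; exact hz2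
    · rw [← Scheme.Hom.comp_apply, ← Over.comp_left, h1]
  · rintro ⟨z, ⟨hz1, hz2⟩, rfl⟩
    refine ⟨σ.left z, ⟨hσ z hz1, ?_⟩, ?_⟩
    · rw [← Scheme.Hom.comp_apply, ← Over.comp_left, h1]; exact hz2
    · rw [← Scheme.Hom.comp_apply, ← Over.comp_left, h2]

variable [LocallyOfFinitePresentation G.hom]
  (hdim : IsLocallyConstant (fun s : S => topologicalKrullDim ↥(G.hom ⁻¹' {s})))

include hdim in
theorem dim_locConst {T : Scheme.{u}} (f : T ⟶ S) :
    IsLocallyConstant (fun t : T => topologicalKrullDim ↥((Red.bc f G).hom ⁻¹' {t})) := by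
  simp only [NeutralOpenAt.dim_bc]
  exact hdim.comp_continuous f.continuous

include hdim in
theorem isOpen_image (U : X.left.Opens) :
    IsOpen ((snd G X).left '' {z : ↥(G ⊗ X).left | (fst G X).left z ∈ SGA3x.neutralSet G ∧ a.act.left z ∈ U}) := by
  haveI : LocallyOfFiniteType (Red.bc X.hom G).hom := inferInstanceAs (LocallyOfFiniteType (pullback.snd G.hom X.hom))
  convert isOpen_meets (Red.bc X.hom G) (dim_locConst hdim X.hom) (a.act.left ⁻¹ᵁ U) using 1
  ext y
  rw [Neutral.neutralSet_bc]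
  constructor
  · rintro ⟨z, ⟨hz1, hz2⟩, rfl⟩
    exact ⟨z, hz1, rfl, hz2⟩
  · rintro ⟨z, hz1, hzy, hz2⟩
    exact ⟨z, ⟨hz1, hz2⟩, hzy⟩

include hdim in
theorem isSeparated (U : X.left.Opens) (hU : IsSeparated (U.ι ≫ X.hom)) (V : X.left.Opens)
    (hV : (V : Set X.left) ⊆ (snd G X).left ''
      {z : ↥(G ⊗ X).left | (fst G X).left z ∈ SGA3x.neutralSet G ∧ a.act.left z ∈ U}) :
    IsSeparated (V.ι ≫ X.hom) := by
  haveI := hU
  let v := V.ι ≫ X.hom
  constructor
  refine IsClosedImmersion.of_isPreimmersion _ ?_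
  rw [← isOpen_compl_iff, isOpen_iff_mem_nhds]
  intro y hy
  let P : Over S := Over.mk (pullback.fst v v ≫ v)
  let p₁ : P ⟶ X := Over.homMk (pullback.fst v v ≫ V.ι) (Category.assoc _ _ _)
  let p₂ : P ⟶ X := Over.homMk (pullback.snd v v ≫ V.ι)
    ((Category.assoc _ _ _).trans pullback.condition.symm)
  have hdiag : ∀ z, z ∈ Set.range (pullback.diagonal v) ↔
      (pullback v v).fromSpecResidueField z ≫ p₁.left = (pullback v v).fromSpecResidueField z ≫ p₂.left := by
    intro z
    constructor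
    · rintro ⟨w, rfl⟩
      exact NeutralCoincidence.eq_of_above (pullback.diagonal v) w p₁.left p₂.left (by simp [p₁, p₂])
    · intro h
      have h' : (pullback v v).fromSpecResidueField z ≫ pullback.fst v v =
          (pullback v v).fromSpecResidueField z ≫ pullback.snd v v := by
        rw [← cancel_mono V.ι, Category.assoc, Category.assoc]
        exact h
      have : ((pullback v v).fromSpecResidueField z ≫ pullback.fst v v) ≫ pullback.diagonal v =
          (pullback v v).fromSpecResidueField z := by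
        apply pullback.hom_ext <;> simp [h']
      exact ⟨_, (congrArg (fun m : _ ⟶ pullback v v => m (IsLocalRing.closedPoint _)) this).trans
        (Scheme.fromSpecResidueField_apply _ _)⟩
  let H := Red.bc P.hom G
  haveI : LocallyOfFinitePresentation H.hom := inferInstanceAs (LocallyOfFinitePresentation (pullback.snd G.hom P.hom))
  haveI : LocallyOfFiniteType H.hom := inferInstanceAs (LocallyOfFiniteType (pullback.snd G.hom P.hom))
  obtain ⟨ξ, hξy, hξe, hgen, -⟩ := NeutralOpenAt.exists_generic H y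
  have hξn := NeutralOpenAt.mem_neutralSet_of_specializes H hξy hξe
  have hmem : ∀ p : P ⟶ X, p.left y ∈ V → ((G ◁ p) ≫ a.act).left ξ ∈ U := by
    intro p hp
    obtain ⟨w, ⟨hw1, hw2⟩, hw⟩ := hV hp
    obtain ⟨h, hh1, hh2⟩ := Scheme.exists_preimage_of_isPullback (isPullback_whiskerLeft (W := G) p) w y hw
    have hn : h ∈ SGA3x.neutralSet H := by
      rw [Neutral.neutralSet_bc]
      show (fst G P).left h ∈ SGA3x.neutralSet G
      rw [← whiskerLeft_fst G p, Over.comp_left, Scheme.Hom.comp_apply, hh1]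
      exact hw1
    refine ((hgen h hn hh2).map ((G ◁ p) ≫ a.act).left.continuous).mem_open U.isOpen ?_
    rw [Over.comp_left, Scheme.Hom.comp_apply, hh1]
    exact hw2
  let b₁ : G ⊗ P ⟶ X := (G ◁ p₁) ≫ a.act
  let b₂ : G ⊗ P ⟶ X := (G ◁ p₂) ≫ a.act
  let W : (G ⊗ P).left.Opens := b₁.left ⁻¹ᵁ U ⊓ b₂.left ⁻¹ᵁ U
  have hξW : ξ ∈ W := ⟨hmem p₁ (pullback.fst v v y).2, hmem p₂ (pullback.snd v v y).2⟩
  let c₁ : (W : Scheme.{u}) ⟶ U := IsOpenImmersion.lift U.ι (W.ι ≫ b₁.left) (by
    rw [Scheme.Opens.range_ι]; rintro _ ⟨z, rfl⟩; exact z.2.1)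
  let c₂ : (W : Scheme.{u}) ⟶ U := IsOpenImmersion.lift U.ι (W.ι ≫ b₂.left) (by
    rw [Scheme.Opens.range_ι]; rintro _ ⟨z, rfl⟩; exact z.2.2)
  have hc : c₁ ≫ U.ι ≫ X.hom = c₂ ≫ U.ι ≫ X.hom := by
    rw [IsOpenImmersion.lift_fac_assoc, IsOpenImmersion.lift_fac_assoc, Category.assoc, Category.assoc,
      Over.w b₁, Over.w b₂]
  have hcl := (exists_closed_equalizer (U.ι ≫ X.hom) c₁ c₂ hc).base_closed.isClosed_range
  have key : ∀ w : (W : Scheme.{u}),
      w ∈ Set.range (pullback.fst (pullback.lift c₁ c₂ hc) (pullback.diagonal (U.ι ≫ X.hom))) ↔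
        (snd G P).left (W.ι w) ∈ Set.range (pullback.diagonal v) := by
    intro w
    let T : Over S := Over.mk ((W : Scheme.{u}).fromSpecResidueField w ≫ W.ι ≫ (G ⊗ P).hom)
    let j : T ⟶ G ⊗ P := Over.homMk ((W : Scheme.{u}).fromSpecResidueField w ≫ W.ι) (Category.assoc _ _ _)
    have e1 : (W : Scheme.{u}).fromSpecResidueField w ≫ c₁ =
        (W : Scheme.{u}).fromSpecResidueField w ≫ c₂ ↔ j ≫ b₁ = j ≫ b₂ := by
      rw [← cancel_mono U.ι, Category.assoc, Category.assoc, IsOpenImmersion.lift_fac,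
        IsOpenImmersion.lift_fac, ← Category.assoc, ← Category.assoc]
      exact ⟨fun h => Over.OverMorphism.ext h, fun h => congrArg CommaMorphism.left h⟩
    have hb : ∀ p : P ⟶ X, j ≫ (G ◁ p) ≫ a.act = lift (j ≫ fst G P) (j ≫ snd G P ≫ p) ≫ a.act := by
      intro p
      rw [← Category.assoc]
      congr 1
      apply CartesianMonoidalCategory.hom_ext <;> simp
    have e2 : j ≫ b₁ = j ≫ b₂ ↔ j ≫ snd G P ≫ p₁ = j ≫ snd G P ≫ p₂ := by
      simp only [b₁, b₂, hb]
      exact ⟨act_inj a _ _ _, fun h => by rw [h]⟩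
    rw [NeutralCoincidence.mem_range_equalizer_iff, e1, e2, hdiag]
    constructor
    · intro h
      have h' : j.left ≫ (snd G P).left ≫ p₁.left = j.left ≫ (snd G P).left ≫ p₂.left :=
        congrArg CommaMorphism.left h
      refine NeutralCoincidence.eq_of_above (W.ι ≫ (snd G P).left) w p₁.left p₂.left ?_
      simpa only [j, Over.homMk_left, Category.assoc] using h'
    · intro h
      refine Over.OverMorphism.ext ?_
      show j.left ≫ (snd G P).left ≫ p₁.left = j.left ≫ (snd G P).left ≫ p₂.left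
      simpa only [j, Over.homMk_left, Category.assoc] using
        NeutralCoincidence.eq_above (W.ι ≫ (snd G P).left) w p₁.left p₂.left h
  let O := W.ι '' (Set.range (pullback.fst (pullback.lift c₁ c₂ hc) (pullback.diagonal (U.ι ≫ X.hom))))ᶜ
  have hO : IsOpen O := W.ι.isOpenEmbedding.isOpenMap _ hcl.isOpen_compl
  have hξO : ξ ∈ O := by
    refine ⟨⟨ξ, hξW⟩, fun h => hy ?_, rfl⟩
    have := (key _).1 h
    rwa [show (snd G P).left (W.ι ⟨ξ, hξW⟩) = y from hξy] at this
  have hnhd := NeutralOpenAt.isOpenAt H hξn (fun t' ht' => le_of_eq (by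
    have := ht'.mem_open ((dim_locConst hdim P.hom).isOpen_fiber
      (topologicalKrullDim ↥(H.hom ⁻¹' {H.hom ξ}))) rfl
    exact this.symm)) _ (hO.mem_nhds hξO)
  rw [hξy] at hnhd
  refine Filter.mem_of_superset hnhd ?_
  rintro _ ⟨_, ⟨w, hw, rfl⟩, rfl⟩ hmem'
  exact hw ((key w).2 hmem')

end Groth.Agent.GrpSchLib.NeutralMulOpen
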