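import Mathlib.CategoryTheory.Monoidal.Cartesian.Grp

/-! An associative law with invertible shears on a covering object is a group law. -/

universe v u

open CategoryTheory MonoidalCategory CartesianMonoidalCategory

namespace Groth.Agent.GrpSchLib.SemigroupShear

variable {C : Type u} [Category.{v} C] [CartesianMonoidalCategory C] {X : C}

/-- An associative law both of whose shears are isomorphisms is a group law as soon as maps descend along `X ⟶ 𝟙`. -/
theorem exists_grpObj (P : X ⊗ X ⟶ X) (hassoc : (P ▷ X) ≫ P = (α_ X X X).hom ≫ (X ◁ P) ≫ P)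
    (hl : IsIso (lift (fst X X) P)) (hr : IsIso (lift P (snd X X)))
    (hdesc : ∀ e : X ⟶ X, fst X X ≫ e = snd X X ≫ e → ∃ e₀ : 𝟙_ C ⟶ X, toUnit X ≫ e₀ = e) :
    ∃ g : GrpObj X, g.mul = P := by
  have hP : ∀ {Z : C} (a b c : Z ⟶ X), lift (lift a b ≫ P) c ≫ P = lift a (lift b c ≫ P) ≫ P := by
    intro Z a b c
    simpa using congrArg (lift (lift a b) c ≫ ·) hassoc
  have hinjl : ∀ {Z : C} (a b b' : Z ⟶ X), lift a b ≫ P = lift a b' ≫ P → b = b' := by
    intro Z a b b' h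
    have : lift a b ≫ lift (fst X X) P = lift a b' ≫ lift (fst X X) P := by ext <;> simp [h]
    simpa using congrArg (· ≫ snd X X) ((cancel_mono _).1 this)
  have hinjr : ∀ {Z : C} (a a' b : Z ⟶ X), lift a b ≫ P = lift a' b ≫ P → a = a' := by
    intro Z a a' b h
    have : lift a b ≫ lift P (snd X X) = lift a' b ≫ lift P (snd X X) := by ext <;> simp [h]
    simpa using congrArg (· ≫ fst X X) ((cancel_mono _).1 this)
  have hdiv : ∀ {Z : C} (a z : Z ⟶ X), ∃ b, lift a b ≫ P = z := by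
    intro Z a z
    have hf : inv (lift (fst X X) P) ≫ fst X X = fst X X := by rw [IsIso.inv_comp_eq]; simp
    have hs : inv (lift (fst X X) P) ≫ P = snd X X := by rw [IsIso.inv_comp_eq]; simp
    refine ⟨lift a z ≫ inv (lift (fst X X) P) ≫ snd X X, ?_⟩
    have : lift a (lift a z ≫ inv (lift (fst X X) P) ≫ snd X X) = lift a z ≫ inv (lift (fst X X) P) := by
      ext <;> simp [hf]
    rw [this, Category.assoc, hs, lift_snd]
  obtain ⟨e, he⟩ := hdiv (𝟙 X) (𝟙 X)
  have hea : ∀ {Z : C} (a : Z ⟶ X), lift a (a ≫ e) ≫ P = a := fun {Z} a => by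
    simpa [comp_lift_assoc] using congrArg (a ≫ ·) he
  have hone' : ∀ {Z : C} (a y : Z ⟶ X), lift (a ≫ e) y ≫ P = y := fun {Z} a y =>
    hinjl a _ _ (by rw [← hP, hea])
  have hone : ∀ {Z : C} (a y : Z ⟶ X), lift y (a ≫ e) ≫ P = y := fun {Z} a y =>
    hinjr _ _ y (by rw [hP, hone'])
  have heq : fst X X ≫ e = snd X X ≫ e :=
    (hone (snd X X) (fst X X ≫ e)).symm.trans (hone' (fst X X) (snd X X ≫ e))
  obtain ⟨e₀, he₀⟩ := hdesc e heq
  have hu : ∀ {Z : C} (a : Z ⟶ X), a ≫ e = toUnit Z ≫ e₀ := fun {Z} a => by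
    rw [← he₀, comp_toUnit_assoc]
  have hone₀ : ∀ {Z : C} (y : Z ⟶ X), lift y (toUnit Z ≫ e₀) ≫ P = y := fun {Z} y => by
    rw [← hu y]; exact hone y y
  have hone₀' : ∀ {Z : C} (y : Z ⟶ X), lift (toUnit Z ≫ e₀) y ≫ P = y := fun {Z} y => by
    rw [← hu y]; exact hone' y y
  obtain ⟨ν, hν⟩ := hdiv (𝟙 X) (toUnit X ≫ e₀)
  have hν' : lift ν (𝟙 X) ≫ P = toUnit X ≫ e₀ := by
    refine hinjl (𝟙 X) _ _ ?_
    rw [← hP, hν, hone₀', hone₀]
  refine ⟨
    { one := e₀
      mul := P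
      one_mul := ?_
      mul_one := ?_
      mul_assoc := ?_
      inv := ν
      left_inv := hν'
      right_inv := hν }, rfl⟩
  · rw [show e₀ ▷ X = lift (fst _ _ ≫ e₀) (snd _ _) by ext <;> simp]
    have h := hone₀' (Z := 𝟙_ C ⊗ X) (snd _ _)
    rw [show toUnit (𝟙_ C ⊗ X) = fst _ _ from toUnit_unique _ _] at h
    rw [h, leftUnitor_hom]
  · rw [show X ◁ e₀ = lift (fst _ _) (snd _ _ ≫ e₀) by ext <;> simp]
    have h := hone₀ (Z := X ⊗ 𝟙_ C) (fst _ _)
    rw [show toUnit (X ⊗ 𝟙_ C) = snd _ _ from toUnit_unique _ _] at h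
    rw [h, rightUnitor_hom]
  · exact hassoc

end Groth.Agent.GrpSchLib.SemigroupShear
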