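import Groth.Agent.FlatFibres.AffineDim
import Groth.Agent.FrobSmoothLib.Global
import Groth.Agent.S2768
import Mathlib.AlgebraicGeometry.Morphisms.Etale
import Mathlib.RingTheory.Unramified.LocalStructure

/-! Near a point with smooth fibre a finitely presented algebra is a quotient of a smooth algebra of
the same relative dimension. -/

set_option backward.isDefEq.respectTransparency false
set_option backward.isDefEq.respectTransparency.types false

universe u

open CategoryTheory Limits AlgebraicGeometry TensorProduct KaehlerDifferential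

namespace Groth.Agent.GrpSchLib.SmoothChart

variable {R A : Type u} [CommRing R] [CommRing A] [Algebra R A]

/-- If finitely many differentials span the fibre of the differentials, the algebra is unramified over them. -/
theorem isUnramifiedAt_of_span [Algebra.FiniteType R A] (p : Ideal A) [p.IsPrime] (L : Type u) [Field L]
    [Algebra A L] [Algebra p.ResidueField L] [IsScalarTower A p.ResidueField L] {ι : Type u} (a : ι → A)
    (ha : Submodule.span L (Set.range fun i => (1 : L) ⊗ₜ[A] D R A (a i)) = ⊤) :
    letI := (MvPolynomial.aeval (R := R) a).toAlgebra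
    Algebra.IsUnramifiedAt (MvPolynomial ι R) p := by
  letI := (MvPolynomial.aeval (R := R) a).toAlgebra
  haveI : IsScalarTower R (MvPolynomial ι R) A :=
    IsScalarTower.of_algebraMap_eq fun r => ((MvPolynomial.aeval (R := R) a).commutes r).symm
  haveI : Algebra.FiniteType (MvPolynomial ι R) A := Algebra.FiniteType.of_restrictScalars_finiteType R _ A
  let g := (KaehlerDifferential.map R (MvPolynomial ι R) A A).baseChange L
  have hzero : ∀ z, g z = 0 := fun z => by
    have hz : z ∈ Submodule.span L (Set.range fun i => (1 : L) ⊗ₜ[A] D R A (a i)) := ha ▸ Submodule.mem_top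
    induction hz using Submodule.span_induction with
    | mem y hy =>
      obtain ⟨i, rfl⟩ := hy
      have h : a i = algebraMap (MvPolynomial ι R) A (MvPolynomial.X i) :=
        (MvPolynomial.aeval_X a i).symm
      simp only [g, LinearMap.baseChange_tmul, KaehlerDifferential.map_D, Algebra.algebraMap_self,
        RingHom.id_apply]
      rw [h, Derivation.map_algebraMap, tmul_zero]
    | zero => exact map_zero _
    | add x y _ _ hx hy => rw [map_add, hx, hy, add_zero]
    | smul c x _ hx => rw [map_smul, hx, smul_zero]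
  have hsub : Subsingleton (L ⊗[A] Ω[A⁄MvPolynomial ι R]) := by
    refine subsingleton_of_forall_eq 0 fun z => ?_
    obtain ⟨w, rfl⟩ := LinearMap.lTensor_surjective L
      (KaehlerDifferential.map_surjective R (MvPolynomial ι R) A) z
    exact hzero w
  show (⟨p, inferInstance⟩ : PrimeSpectrum A) ∈ Algebra.unramifiedLocus (MvPolynomial ι R) A
  rw [Algebra.unramifiedLocus_eq_compl_support, Set.mem_compl_iff,
    Module.mem_support_iff_nontrivial_residueField_tensorProduct, not_nontrivial_iff_subsingleton]
  haveI : Subsingleton (L ⊗[p.ResidueField] (p.ResidueField ⊗[A] Ω[A⁄MvPolynomial ι R])) :=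
    (AlgebraTensorModule.cancelBaseChange A p.ResidueField L L _).toEquiv.subsingleton
  exact (Module.FaithfullyFlat.subsingleton_tensorProduct_iff_right p.ResidueField L).1 inferInstance

/-- Spec of a standard etale algebra over a polynomial ring is smooth of that relative dimension. -/
theorem smoothOfRelativeDimension_spec (n : ℕ) {E : Type u} [CommRing E]
    [Algebra (MvPolynomial (ULift.{u} (Fin n)) R) E] [Algebra.Etale (MvPolynomial (ULift.{u} (Fin n)) R) E] :
    SmoothOfRelativeDimension n (Spec.map (CommRingCat.ofHom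
      ((algebraMap (MvPolynomial (ULift.{u} (Fin n)) R) E).comp
        (algebraMap R (MvPolynomial (ULift.{u} (Fin n)) R))))) := by
  haveI : Etale (Spec.map (CommRingCat.ofHom (algebraMap (MvPolynomial (ULift.{u} (Fin n)) R) E))) := by
    rw [HasRingHomProperty.Spec_iff (P := @Etale)]
    exact RingHom.etale_algebraMap.2 inferInstance
  haveI : SmoothOfRelativeDimension 0
      (Spec.map (CommRingCat.ofHom (algebraMap (MvPolynomial (ULift.{u} (Fin n)) R) E))) :=
    (Etale.iff_smoothOfRelativeDimension_zero _).1 inferInstance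
  haveI : SmoothOfRelativeDimension n
      (Spec.map (CommRingCat.ofHom (algebraMap R (MvPolynomial (ULift.{u} (Fin n)) R)))) := by
    refine (HasRingHomProperty.Spec_iff (P := @SmoothOfRelativeDimension.{u} n)).2
      (RingHom.locally_of RingHom.isStandardSmoothOfRelativeDimension_respectsIso _ ?_)
    have h := FlatFibres.isStandardSmoothOfRelativeDimension_mvPolynomial R (ULift.{u} (Fin n))
    rw [Nat.card_ulift, Nat.card_fin] at h
    exact (RingHom.isStandardSmoothOfRelativeDimension_algebraMap n).2 h
  rw [CommRingCat.ofHom_comp, Spec.map_comp]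
  have h := smoothOfRelativeDimension_comp (n := 0) (m := n)
    (Spec.map (CommRingCat.ofHom (algebraMap (MvPolynomial (ULift.{u} (Fin n)) R) E)))
    (Spec.map (CommRingCat.ofHom (algebraMap R (MvPolynomial (ULift.{u} (Fin n)) R))))
  convert h using 1
  exact (zero_add n).symm

/-- Near a prime where a fibre is standard smooth of relative dimension `n`, the algebra is a quotient
of a smooth algebra of relative dimension `n`. -/
theorem exists_quotient_smooth [Algebra.FinitePresentation R A] (p : Ideal A) [p.IsPrime]
    (K : Type u) [Field K] [Algebra R K] (Q : Ideal (K ⊗[R] A)) [Q.IsPrime]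
    (hQ : Q.comap (Algebra.TensorProduct.includeRight (R := R) (A := K) (B := A)).toRingHom = p) (n : ℕ) (g : K ⊗[R] A) (hg : g ∉ Q)
    [Algebra.IsStandardSmoothOfRelativeDimension n K (Localization.Away g)] :
    ∃ r ∉ p, ∃ (E : CommRingCat.{u}) (ε : CommRingCat.of R ⟶ E)
      (φ : E ⟶ CommRingCat.of (Localization.Away r)),
      Function.Surjective φ ∧ ε ≫ φ = CommRingCat.ofHom (algebraMap R (Localization.Away r)) ∧
      SmoothOfRelativeDimension n (Spec.map ε) := by
  let B := K ⊗[R] A
  letI : Algebra A B := Algebra.TensorProduct.rightAlgebra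
  let C := Localization.Away g
  let Q' := Q.map (algebraMap B C)
  have hdisj : Disjoint (Submonoid.powers g : Set B) (Q : Set B) :=
    (Ideal.disjoint_powers_iff_notMem_of_isPrime _).mpr hg
  haveI : Q'.IsPrime := IsLocalization.isPrime_of_isPrime_disjoint (.powers g) _ _ ‹_› hdisj
  have hQ' : Q'.comap (algebraMap B C) = Q :=
    IsLocalization.under_map_of_isPrime_disjoint (Submonoid.powers g) _ ‹_› hdisj
  let L := Q'.ResidueField
  have hp : p = Q'.comap (algebraMap A C) := by
    rw [IsScalarTower.algebraMap_eq A B C, ← Ideal.comap_comap, hQ']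
    exact hQ.symm
  letI : Algebra p.ResidueField L :=
    (Ideal.ResidueField.map p Q' (algebraMap A C) hp).toAlgebra
  haveI : IsScalarTower A p.ResidueField L := IsScalarTower.of_algebraMap_eq fun x =>
    ((Ideal.ResidueField.map_algebraMap _ _ (algebraMap A C) hp x).trans
      (IsScalarTower.algebraMap_apply A C L x).symm).symm
  haveI : Nontrivial C := ⟨⟨0, 1, fun h => ‹Q'.IsPrime›.ne_top ((Ideal.eq_top_iff_one _).2 (h ▸ Q'.zero_mem))⟩⟩
  let eC : C ⊗[A] Ω[A⁄R] ≃ₗ[C] Ω[C⁄K] :=
    ((AlgebraTensorModule.cancelBaseChange A B C C Ω[A⁄R]).symm ≪≫ₗ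
      AlgebraTensorModule.congr (LinearEquiv.refl C C) (KaehlerDifferential.tensorKaehlerEquiv R K A B)) ≪≫ₗ
      KaehlerDifferential.tensorKaehlerEquivOfFormallyEtale K B C
  haveI : Algebra.IsStandardSmooth K C :=
    Algebra.IsStandardSmoothOfRelativeDimension.isStandardSmooth n
  haveI : Module.Free C (C ⊗[A] Ω[A⁄R]) := Module.Free.of_equiv eC.symm
  have hC : Module.finrank C (C ⊗[A] Ω[A⁄R]) = n := by
    rw [eC.finrank_eq]
    exact Module.finrank_eq_of_rank_eq
      (Algebra.IsStandardSmoothOfRelativeDimension.rank_kaehlerDifferential (R := K) (S := C) n)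
  have hL : Module.finrank L (L ⊗[A] Ω[A⁄R]) = n := by
    rw [← (AlgebraTensorModule.cancelBaseChange A C L L Ω[A⁄R]).finrank_eq, Module.finrank_baseChange, hC]
  have hspan : Submodule.span L (Set.range fun x : A => (1 : L) ⊗ₜ[A] D R A x) = ⊤ := by
    have h : (Set.range fun x : A => (1 : L) ⊗ₜ[A] D R A x) =
        TensorProduct.mk A L Ω[A⁄R] 1 '' Set.range (D R A) := by rw [← Set.range_comp]; rfl
    rw [h, ← Submodule.baseChange_span, KaehlerDifferential.span_range_derivation, Submodule.baseChange_top]
  haveI : Module.Finite L (L ⊗[A] Ω[A⁄R]) := inferInstance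
  obtain ⟨b, hb, hbspan, hli⟩ := exists_linearIndependent L (Set.range fun x : A => (1 : L) ⊗ₜ[A] D R A x)
  haveI : Finite b := hli.finite
  haveI := Fintype.ofFinite b
  let Bs : Module.Basis b L (L ⊗[A] Ω[A⁄R]) := Module.Basis.mk hli (by rw [Subtype.range_coe, hbspan, hspan])
  have hcard : Fintype.card b = n := by rw [← Module.finrank_eq_card_basis Bs, hL]
  let e : ULift.{u} (Fin n) ≃ b := Equiv.ulift.trans (Fintype.equivFinOfCardEq hcard).symm
  choose a ha using fun x : b => hb x.2
  have hfin : Submodule.span L (Set.range fun i => (1 : L) ⊗ₜ[A] D R A (a (e i))) = ⊤ := by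
    rw [show (Set.range fun i => (1 : L) ⊗ₜ[A] D R A (a (e i))) = (b : Set _) from ?_, hbspan, hspan]
    rw [show (fun i => (1 : L) ⊗ₜ[A] D R A (a (e i))) = (fun x : b => (x : L ⊗[A] Ω[A⁄R])) ∘ e from
      funext fun i => ha (e i), e.surjective.range_comp, Subtype.range_coe]
  let T := MvPolynomial (ULift.{u} (Fin n)) R
  letI algT : Algebra T A := (MvPolynomial.aeval (R := R) fun i => a (e i)).toAlgebra
  haveI : IsScalarTower R T A :=
    IsScalarTower.of_algebraMap_eq fun r => ((MvPolynomial.aeval (R := R) fun i => a (e i)).commutes r).symm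
  haveI : Algebra.FiniteType T A := Algebra.FiniteType.of_restrictScalars_finiteType R _ A
  haveI : Algebra.IsUnramifiedAt T p := isUnramifiedAt_of_span p L _ hfin
  obtain ⟨r, hr, SE, φ, hφ⟩ := Algebra.IsUnramifiedAt.exists_hasStandardEtaleSurjectionOn (R := T) p
  refine ⟨r, hr, CommRingCat.of SE.Ring, CommRingCat.ofHom ((algebraMap T SE.Ring).comp (algebraMap R T)),
    CommRingCat.ofHom φ.toRingHom, hφ, ?_, smoothOfRelativeDimension_spec n⟩
  ext x
  exact (φ.commutes (algebraMap R T x)).trans (IsScalarTower.algebraMap_apply R T _ x).symm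

end Groth.Agent.GrpSchLib.SmoothChart
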