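import Groth.Agent.GrpSchLib.SmoothChart
import Groth.Agent.GrpSchLib.NeutralOpenAt
import Groth.Agent.GrpSchLib.Loci
import Groth.Agent.FibDim.AffineSpaceFibre
import Groth.Agent.DescLib.Reduced
import Groth.Agent.SGA7X.SectionOpen

/-! Over a reduced base smooth fibres of locally constant dimension give smoothness at the units. -/

set_option backward.isDefEq.respectTransparency false
set_option backward.isDefEq.respectTransparency.types false

universe u

open CategoryTheory Limits AlgebraicGeometry MonoidalCategory CartesianMonoidalCategory MonObj GrpObj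
  TopologicalSpace TensorProduct
open scoped CategoryTheory.Obj

namespace Groth.Agent.GrpSchLib.SmoothUnit

variable {S : Scheme.{u}} (G : Over S)

/-- Smooth fibres over all residue fields give smooth fibres over all field valued points. -/
theorem smooth_fibre (hfib : ∀ s : S, Smooth (pullback.snd G.hom (S.fromSpecResidueField s))) {K : Type u}
    [Field K] (a : Spec (CommRingCat.of K) ⟶ S) : Smooth (pullback.snd G.hom a) := by
  obtain ⟨⟨t, α⟩, rfl⟩ := (Scheme.SpecToEquivOfField K S).symm.surjective a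
  show Smooth (pullback.snd G.hom (Spec.map α ≫ S.fromSpecResidueField t))
  haveI := hfib t
  let sq := (IsPullback.of_hasPullback (pullback.snd G.hom (S.fromSpecResidueField t)) (Spec.map α)).paste_horiz
    (IsPullback.of_hasPullback G.hom (S.fromSpecResidueField t))
  rw [← sq.isoPullback_inv_snd]
  infer_instance

variable [GrpObj G] [LocallyOfFinitePresentation G.hom]

/-- A chart of the group at a unit: an open piece is closed in a reduced smooth scheme of the same dimension. -/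
theorem exists_chart [IsReduced S] (hfib : ∀ s : S, Smooth (pullback.snd G.hom (S.fromSpecResidueField s)))
    (s : S) :
    ∃ (Z E : Scheme.{u}) (j : Z ⟶ G.left) (c : Z ⟶ E) (q : E ⟶ S) (n : ℕ), IsOpenImmersion j ∧
      IsClosedImmersion c ∧ Smooth q ∧ IsReduced E ∧ c ≫ q = j ≫ G.hom ∧ Neutral.unit G s ∈ Set.range j ∧
      topologicalKrullDim ↥(G.hom ⁻¹' {s}) = (n : WithBot ℕ∞) ∧
      ∀ y, FlatMor.fibreDimAt q y = (n : WithBot ℕ∞) := by
  haveI : LocallyOfFiniteType G.hom := inferInstance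
  let e := Neutral.unit G
  obtain ⟨W, hW, hsW, -⟩ := exists_isAffineOpen_mem_and_subset (show s ∈ (⊤ : S.Opens) from trivial)
  obtain ⟨V, hV, heV, hVW⟩ := exists_isAffineOpen_mem_and_subset
    (show e s ∈ G.hom ⁻¹ᵁ W by show G.hom (e s) ∈ W; rwa [Neutral.hom_unit])
  replace hVW : V ≤ G.hom ⁻¹ᵁ W := hVW
  have hfp : (G.hom.appLE W V hVW).hom.FinitePresentation :=
    HasRingHomProperty.appLE @LocallyOfFinitePresentation G.hom inferInstance ⟨W, hW⟩ ⟨V, hV⟩ hVW
  algebraize [(G.hom.appLE W V hVW).hom]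
  let R := Γ(S, W)
  let A := Γ(G.left, V)
  let p := hV.primeIdealOf ⟨e s, heV⟩
  let P : PrimeSpectrum R := PrimeSpectrum.comap (algebraMap R A) p
  let K := P.asIdeal.ResidueField
  let jA := hV.fromSpec
  let k := hW.fromSpec
  let φ : Spec A ⟶ Spec R := Spec.map (CommRingCat.ofHom (algebraMap R A))
  let ψ : Spec (CommRingCat.of K) ⟶ Spec R := Spec.map (CommRingCat.ofHom (algebraMap R K))
  let a := ψ ≫ k
  have hjA : jA ≫ G.hom = φ ≫ k := (hW.SpecMap_appLE_fromSpec G.hom hV hVW).symm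
  have hjp : jA p = e s := hV.fromSpec_primeIdealOf ⟨e s, heV⟩
  -- the fibre chart
  let iL : Spec (CommRingCat.of (K ⊗[R] A)) ⟶ Spec (CommRingCat.of K) :=
    Spec.map (CommRingCat.ofHom (algebraMap K (K ⊗[R] A)))
  let iR : Spec (CommRingCat.of (K ⊗[R] A)) ⟶ Spec A :=
    Spec.map (CommRingCat.ofHom (Algebra.TensorProduct.includeRight (R := R) (A := K) (B := A)).toRingHom)
  have hsq : IsPullback iL iR ψ φ :=
    AlgebraicGeometry.isPullback_SpecMap_of_isPushout _ _ _ _
      (CommRingCat.isPushout_tensorProduct R K A)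
  have hbig : IsPullback iL iR a (jA ≫ G.hom) := by
    rw [hjA]
    exact IsPullback.of_isLimit (PullbackCone.isLimitOfCompMono ψ φ k _ hsq.isLimit)
  let m : Spec (CommRingCat.of (K ⊗[R] A)) ⟶ pullback G.hom a :=
    pullback.lift (iR ≫ jA) iL (by rw [Category.assoc]; exact hbig.w.symm)
  have hmsq : IsPullback m iR (pullback.fst G.hom a) jA :=
    IsPullback.of_right (h₁₂ := pullback.snd G.hom a) (h₂₂ := G.hom) (v₁₃ := a)
      (by rw [show m ≫ pullback.snd G.hom a = iL from pullback.lift_snd _ _ _]; exact hbig)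
      (pullback.lift_fst _ _ _) (IsPullback.of_hasPullback G.hom a).flip
  haveI : IsOpenImmersion m :=
    MorphismProperty.of_isPullback (P := @IsOpenImmersion.{u}) hmsq.flip inferInstance
  haveI := smooth_fibre G hfib a
  haveI hsm : Smooth iL := by
    rw [← show m ≫ pullback.snd G.hom a = iL from pullback.lift_snd _ _ _]
    infer_instance
  haveI : Algebra.Smooth K (K ⊗[R] A) :=
    RingHom.smooth_algebraMap.1 ((HasRingHomProperty.Spec_iff (P := @Smooth)).1 hsm)
  let Q := PrimeSpectrum.preimageEquivFiber R A P ⟨p, rfl⟩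
  have hQ : Q.asIdeal.comap
      (Algebra.TensorProduct.includeRight (R := R) (A := K) (B := A)).toRingHom = p.asIdeal :=
    congrArg (fun z => z.1.asIdeal)
      ((PrimeSpectrum.preimageEquivFiber R A P).symm_apply_apply ⟨p, rfl⟩)
  haveI : Algebra.FinitePresentation K (K ⊗[R] A) := inferInstance
  obtain ⟨g, hg, hstd⟩ := Algebra.IsSmoothAt.exists_notMem_isStandardSmooth K Q.asIdeal
  haveI := hstd
  obtain ⟨q', hq'⟩ : Q ∈ Set.range
      (PrimeSpectrum.comap (algebraMap (K ⊗[R] A) (Localization.Away g))) := by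
    rw [PrimeSpectrum.localization_away_comap_range _ g]
    exact hg
  haveI : Nontrivial (Localization.Away g) :=
    (PrimeSpectrum.nonempty_iff_nontrivial.1 ⟨q'⟩)
  obtain ⟨n, hn⟩ := FrobSmoothLib.exists_relativeDimension (A := K) (C := Localization.Away g)
  -- the dimension
  let cg : Spec (CommRingCat.of (Localization.Away g)) ⟶ Spec (CommRingCat.of (K ⊗[R] A)) :=
    Spec.map (CommRingCat.ofHom (algebraMap (K ⊗[R] A) (Localization.Away g)))
  haveI : IsOpenImmersion cg := IsOpenImmersion.of_isLocalization g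
  haveI : SmoothOfRelativeDimension n ((cg ≫ m) ≫ pullback.snd G.hom a) := by
    rw [Category.assoc, show m ≫ pullback.snd G.hom a = iL from pullback.lift_snd _ _ _, ← Spec.map_comp,
      ← CommRingCat.ofHom_comp, ← IsScalarTower.algebraMap_eq]
    exact (HasRingHomProperty.Spec_iff (P := @SmoothOfRelativeDimension.{u} n)).2
      (RingHom.locally_of RingHom.isStandardSmoothOfRelativeDimension_respectsIso _
        ((RingHom.isStandardSmoothOfRelativeDimension_algebraMap n).2 hn))
  have hd : topologicalKrullDim ↥(G.hom ⁻¹' {s}) = (n : WithBot ℕ∞) := by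
    let H := Red.bc a G
    haveI : LocallyOfFiniteType H.hom := inferInstanceAs (LocallyOfFiniteType (pullback.snd G.hom a))
    have h := S2768.result n ((cg ≫ m) ≫ pullback.snd G.hom a) q'
    rw [FibDim.fibreDimAt_openImmersion_comp (cg ≫ m) (pullback.snd G.hom a)] at h
    have h2 := FibreDimGrp.fibreDimAt_eq H ((cg ≫ m) q')
    rw [NeutralOpenAt.dim_bc] at h2
    have hs : a (pullback.snd G.hom a ((cg ≫ m) q')) = s := by
      rw [← Scheme.Hom.comp_apply (pullback.snd G.hom a) a, ← pullback.condition, Scheme.Hom.comp_apply,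
        ← Scheme.Hom.comp_apply (cg ≫ m) (pullback.fst G.hom a), Category.assoc, Scheme.Hom.comp_apply,
        show cg q' = Q from hq', show m ≫ pullback.fst G.hom a = iR ≫ jA from pullback.lift_fst _ _ _,
        Scheme.Hom.comp_apply, show iR Q = p from PrimeSpectrum.ext hQ, hjp]
      exact Neutral.hom_unit G s
    rw [show a (H.hom ((cg ≫ m) q')) = s from hs] at h2
    exact h2.symm.trans h
  obtain ⟨r, hr, E, ε, π, hπ, hcomp, hdimE⟩ :=
    SmoothChart.exists_quotient_smooth p.asIdeal K Q.asIdeal hQ n g hg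
  haveI := hdimE
  haveI : Smooth (Spec.map ε) := SmoothOfRelativeDimension.smooth n _
  let cr : Spec (CommRingCat.of (Localization.Away r)) ⟶ Spec A :=
    Spec.map (CommRingCat.ofHom (algebraMap A (Localization.Away r)))
  haveI : IsOpenImmersion cr := IsOpenImmersion.of_isLocalization r
  haveI : Smooth (Spec.map ε ≫ k) := inferInstance
  refine ⟨_, Spec E, cr ≫ jA, Spec.map π, Spec.map ε ≫ k, n, inferInstance,
    IsClosedImmersion.spec_of_surjective _ hπ, inferInstance,
    DescLib.isReduced_of_smooth_of_isReduced (Spec.map ε ≫ k), ?_, ?_, hd, fun y => ?_⟩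
  · rw [← Category.assoc, ← Spec.map_comp, hcomp, Category.assoc, hjA, ← Category.assoc]
    congr 1
    rw [← Spec.map_comp, ← CommRingCat.ofHom_comp, ← IsScalarTower.algebraMap_eq]
  · obtain ⟨z, hz⟩ : p ∈ Set.range cr := by
      show p ∈ Set.range (PrimeSpectrum.comap (algebraMap A (Localization.Away r)))
      rw [PrimeSpectrum.localization_away_comap_range _ r]
      exact hr
    exact ⟨z, by rw [Scheme.Hom.comp_apply, hz, hjp]⟩
  · rw [FibDim.fibreDimAt_comp_mono]
    exact S2768.result n _ y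

/-- Smoothness near a unit over a reduced base. -/
theorem exists_smooth_nhd [IsReduced S] (hfib : ∀ s : S, Smooth (pullback.snd G.hom (S.fromSpecResidueField s)))
    (hdim : IsLocallyConstant (fun s : S => topologicalKrullDim ↥(G.hom ⁻¹' {s}))) (s : S) :
    Neutral.unit G s ∈ Loci.loc @Smooth G.hom := by
  haveI : LocallyOfFiniteType G.hom := inferInstance
  obtain ⟨Z, E, j, c, q, n, hj, hc, hq, hE, hcq, hsj, hd, hqd⟩ := exists_chart G hfib s
  let N : S.Opens := ⟨{t | topologicalKrullDim ↥(G.hom ⁻¹' {t}) = (n : WithBot ℕ∞)}, hdim.isOpen_fiber _⟩ ⊓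
    Neutral.unit G ⁻¹ᵁ j.opensRange
  have hsN : s ∈ N := ⟨hd, hsj⟩
  let e₀ : (N : Scheme.{u}) ⟶ Z := IsOpenImmersion.lift j (N.ι ≫ Neutral.unit G) (by
    rintro _ ⟨t, rfl⟩
    exact t.2.2)
  have he₀ : e₀ ≫ j = N.ι ≫ Neutral.unit G := IsOpenImmersion.lift_fac _ _ _
  have he₀q : (e₀ ≫ c) ≫ q = N.ι := by
    rw [Category.assoc, hcq, reassoc_of% he₀]
    exact (congrArg (N.ι ≫ ·) (Over.w η[G])).trans (Category.comp_id _)
  let f' := q ∣_ N
  let e' : (N : Scheme.{u}) ⟶ (q ⁻¹ᵁ N) := IsOpenImmersion.lift (q ⁻¹ᵁ N).ι (e₀ ≫ c) (by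
    rw [Scheme.Opens.range_ι]
    rintro _ ⟨t, rfl⟩
    show q ((e₀ ≫ c) t) ∈ N
    rw [← Scheme.Hom.comp_apply, he₀q]
    exact t.2)
  have he' : e' ≫ (q ⁻¹ᵁ N).ι = e₀ ≫ c := IsOpenImmersion.lift_fac _ _ _
  have hsec : e' ≫ f' = 𝟙 _ := by
    rw [← cancel_mono N.ι, Category.assoc, morphismRestrict_ι, reassoc_of% he', Category.id_comp,
      ← Category.assoc, he₀q]
  haveI : Smooth f' := inferInstance
  let O₁ : (q ⁻¹ᵁ N).toScheme.Opens :=
    ⟨MoreMor.sectionComponents f' e', SGA7X.SectionOpen.isOpen_sectionComponents f' e' hsec⟩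
  let O := (q ⁻¹ᵁ N).ι ''ᵁ O₁
  have hsub : ∀ ξ ∈ O₁, (q ⁻¹ᵁ N).ι ξ ∈ Set.range c := by
    intro ξ hξ
    let t := f' ξ
    obtain ⟨ξ₀, hξt, hξe, -, hξmax⟩ := NeutralOpenAt.exists_generic G (N.ι t)
    have het : j (e₀ t) = Neutral.unit G (N.ι t) := congrArg (fun m : N.toScheme ⟶ G.left => m t) he₀
    obtain ⟨w, rfl⟩ : ξ₀ ∈ Set.range j :=
      hξe.mem_open j.isOpenEmbedding.isOpen_range ⟨_, het⟩
    have hw : w ⤳ e₀ t := j.isEmbedding.isInducing.specializes_iff.1 (het.symm ▸ hξe)
    have hqw : q (c w) = N.ι t := by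
      rw [← Scheme.Hom.comp_apply, hcq, Scheme.Hom.comp_apply, hξt]
    let y : (q ⁻¹ᵁ N).toScheme := ⟨c w, show q (c w) ∈ N from hqw ▸ t.2⟩
    have hfy : f' y = t := N.ι.isOpenEmbedding.injective
      ((congrArg (fun m : (q ⁻¹ᵁ N).toScheme ⟶ S => m y) (morphismRestrict_ι q N)).trans hqw)
    have hye : y ⤳ e' t := (q ⁻¹ᵁ N).ι.isEmbedding.isInducing.specializes_iff.1 (by
      rw [← Scheme.Hom.comp_apply e', he', Scheme.Hom.comp_apply]
      exact hw.map c.continuous)
    have hfe : f' (e' t) = t := congrArg (fun m : N.toScheme ⟶ N.toScheme => m t) hsec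
    have hyC : y ∈ connectedComponentIn (f' ⁻¹' {t}) ξ := by
      rw [← connectedComponentIn_eq (SGA7X.SectionOpen.mem_component f' hξ rfl)]
      refine _root_.IsPreconnected.subset_connectedComponentIn (s := {y, e' t}) ?_ (by exact Or.inr rfl) ?_ (Set.mem_insert y _)
      · exact isPreconnected_singleton.subset_closure (Set.singleton_subset_iff.2 (Set.mem_insert y _))
          (Set.insert_subset (subset_closure (Set.mem_singleton y))
            (Set.singleton_subset_iff.2 (specializes_iff_mem_closure.1 hye)))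
      · rintro w' (rfl | rfl)
        · exact hfy
        · exact hfe
    obtain ⟨η₁, hη₁y, hη₁ξ, hη₁t⟩ := SGA7X.SectionOpen.exists_common_generization f' hyC
    have hy1 : (q ⁻¹ᵁ N).ι η₁ ⤳ c w := hη₁y.map (q ⁻¹ᵁ N).ι.continuous
    have hqη : q ((q ⁻¹ᵁ N).ι η₁) = q (c w) := by
      rw [hqw, ← hη₁t]
      exact (congrArg (fun m : (q ⁻¹ᵁ N).toScheme ⟶ S => m η₁) (morphismRestrict_ι q N)).symm
    have hrdw : FibDim.rd q (c w) = n := by
      have h1 := CycLib.rd_comp c q w
      have h2 := CycLib.rd_comp j G.hom w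
      rw [FibDim.rd_eq_zero_of_quasiFinite c, add_zero, hcq] at h1
      rw [FibDim.rd_eq_zero_of_quasiFinite j, add_zero] at h2
      have h3 := NeutralOpenAt.rd_eq G hξmax
      rw [hξt, show topologicalKrullDim ↥(G.hom ⁻¹' {N.ι t}) = (n : WithBot ℕ∞) from t.2.1] at h3
      rw [← h1, h2]
      exact_mod_cast h3.symm
    have heq : (q ⁻¹ᵁ N).ι η₁ = c w := by
      by_contra hne
      have h1 := FibDim.rd_lt q hy1 hne hqη
      have h2 := FibDim.rd_le_fibreDimAt q (specializes_refl ((q ⁻¹ᵁ N).ι η₁)) rfl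
      rw [hqd, hrdw] at *
      have : FibDim.rd q ((q ⁻¹ᵁ N).ι η₁) ≤ n := by exact_mod_cast h2
      omega
    exact (hη₁ξ.map (q ⁻¹ᵁ N).ι.continuous).mem_closed c.isClosedEmbedding.isClosed_range ⟨w, heq.symm⟩
  haveI : Surjective (c ∣_ O) := ⟨fun o => by
    obtain ⟨ξ, hξ, hξo⟩ := (show o.1 ∈ (q ⁻¹ᵁ N).ι '' O₁ from o.2)
    obtain ⟨w, hw⟩ := hsub ξ hξ
    refine ⟨⟨w, show c w ∈ O by rw [hw, hξo]; exact o.2⟩, Subtype.ext ?_⟩
    exact (congrArg (fun m : (c ⁻¹ᵁ O).toScheme ⟶ E => m ⟨w, _⟩) (morphismRestrict_ι c O)).trans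
      (hw.trans hξo)⟩
  haveI : IsReduced (O : Scheme.{u}) := isReduced_of_isOpenImmersion O.ι
  haveI : IsIso (c ∣_ O) := isIso_of_isClosedImmersion_of_surjective _
  let m := (c ⁻¹ᵁ O).ι ≫ j
  haveI : IsOpenImmersion m := inferInstance
  haveI hsm : Smooth (m ≫ G.hom) := by
    rw [Category.assoc, ← hcq, ← Category.assoc, ← morphismRestrict_ι, Category.assoc]
    infer_instance
  refine ⟨m.opensRange, ?_, ?_⟩
  · refine ⟨⟨e₀ ⟨s, hsN⟩, ?_⟩, ?_⟩
    · show c (e₀ ⟨s, hsN⟩) ∈ O
      refine ⟨e' ⟨s, hsN⟩, ?_, ?_⟩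
      · exact SGA7X.SectionOpen.connectedComponentIn_subset_sectionComponents f' e' _
          (mem_connectedComponentIn (congrArg (fun m : N.toScheme ⟶ N.toScheme => m ⟨s, hsN⟩) hsec))
      · exact congrArg (fun m : N.toScheme ⟶ E => m ⟨s, hsN⟩) he'
    · exact congrArg (fun m : N.toScheme ⟶ G.left => m ⟨s, hsN⟩) he₀
  · rw [← Scheme.Hom.isoOpensRange_inv_comp m, Category.assoc]
    infer_instance

end Groth.Agent.GrpSchLib.SmoothUnit
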